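import Mathlib
import Cfsg.Agent.Lib.SLE.Rt
import Cfsg.Agent.Lib.ZStar.Main
import Cfsg.Agent.Lib.StdW.Pair

/-!
# Reductions: lifting the root elements, passing to `F*(G) ⟨t⟩`
-/

set_option autoImplicit false

namespace CfsgLib.SLE

open CfsgLib.RGD CfsgLib.Stein Subgroup Cfsg
open scoped commutatorElement Pointwise

universe u

variable {ι κ : Type} [Fintype κ] [DecidableEq κ] [Finite ι] {Φ : RootSys ι κ}
  {F : Type} [Field F] [CharP F 2]

omit [Finite ι] [CharP F 2] in
theorem Rel.zero {X : Type*} [Group X] {x : ι → F → X} (hx : Rel Φ x) (r : ι) : x r 0 = 1 := by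
  have := hx.add r 0 0
  rwa [add_zero, left_eq_mul] at this

omit [Finite ι] in
theorem Rel.sq {X : Type*} [Group X] {x : ι → F → X} (hx : Rel Φ x) (r : ι) (c : F) :
    x r c * x r c = 1 := by rw [← hx.add, CharTwo.add_self_eq_zero, hx.zero]

omit [Finite ι] [CharP F 2] in
theorem Rel.map {X X' : Type*} [Group X] [Group X'] {x : ι → F → X} (hx : Rel Φ x) (f : X →* X') :
    Rel Φ fun r c => f (x r c) :=
  ⟨fun r u v => by rw [hx.add, map_mul], fun a b r h u v => by
    rw [← hx.cm a b r h]; simp, fun a b h u v => by rw [← map_mul, hx.com a b h, map_mul]⟩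

omit [Finite ι] [CharP F 2] in
theorem Rel.of_map {X X' : Type*} [Group X] [Group X'] {x : ι → F → X} (f : X →* X')
    (hf : Function.Injective f) (hx : Rel Φ fun r c => f (x r c)) : Rel Φ x :=
  ⟨fun r u v => hf (by rw [map_mul]; exact hx.add r u v), fun a b r h u v => hf (by
    rw [← hx.cm a b r h]; simp), fun a b h u v => hf (by simpa using hx.com a b h u v)⟩

/-- lifting the root elements through a central kernel of odd order -/
theorem Rel.exists_lift (E : ER Φ) {L X : Type*} [Group L] [Group X] (π : L →* X)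
    (hs : Function.Surjective π) (hc : π.ker ≤ center L) (ho : Odd (Nat.card π.ker))
    {x : ι → F → X} (hx : Rel Φ x) : ∃ y : ι → F → L, Rel Φ y ∧ ∀ r c, π (y r c) = x r c := by
  have pw : ∀ z : L, π z = 1 → z ^ Nat.card π.ker = 1 := fun z hz => by
    simpa using congrArg Subtype.val (pow_card_eq_one' (x := (⟨z, hz⟩ : π.ker)))
  obtain ⟨m, hm⟩ := ho
  have ex : ∀ a : X, a * a = 1 → ∃ b, b * b = 1 ∧ π b = a := fun a ha => by
    obtain ⟨b, rfl⟩ := hs a
    refine ⟨b ^ Nat.card π.ker, ?_, ?_⟩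
    · rw [← (Commute.refl b).mul_pow, pw _ (by rw [map_mul, ha])]
    · rw [map_pow, hm, pow_succ, pow_mul, pow_two, ha, one_pow, one_mul]
  have un : ∀ b b' : L, b * b = 1 → b' * b' = 1 → π b = π b' → b = b' := fun b b' h h' e => by
    have h1 : π (b⁻¹ * b') = 1 := by rw [map_mul, map_inv, e, inv_mul_cancel]
    have h2 := mem_center_iff.1 (hc h1) b
    have h3 : (b⁻¹ * b') * (b⁻¹ * b') = 1 := by
      have e1 : b' = b * (b⁻¹ * b') := by group
      generalize b⁻¹ * b' = z at e1 h2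
      rw [e1, mul_assoc, ← mul_assoc z, ← h2, ← mul_assoc, ← mul_assoc, h, one_mul] at h'
      exact h'
    have h4 := pw _ h1
    rw [hm, pow_succ, pow_mul, pow_two, h3, one_pow, one_mul] at h4
    exact inv_mul_eq_one.1 h4
  choose y h1 h2 using fun r c => ex _ (hx.sq r c)
  have cj : ∀ a b : L, b * b = 1 → a * b * a⁻¹ * (a * b * a⁻¹) = 1 := fun a b h => by
    rw [conj_mul, h]; simp
  have cm : ∀ a b u v, x a u * x b v = x b v * x a u → y a u * y b v = y b v * y a u :=
    fun a b u v h => mul_inv_eq_iff_eq_mul.1 (un _ _ (cj _ _ (h1 _ _)) (h1 _ _) (by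
      rw [map_mul, map_mul, map_inv, h2, h2, h, mul_inv_cancel_right]))
  have sq : ∀ a b u v, x a u * x b v = x b v * x a u → y a u * y b v * (y a u * y b v) = 1 :=
    fun a b u v h => by
      rw [mul_assoc, ← mul_assoc (y b v), ← cm a b u v h, mul_assoc, h1, mul_one, h1]
  refine ⟨y, ⟨fun r u v => un _ _ (h1 _ _) (sq _ _ _ _ (by rw [← hx.add, ← hx.add, add_comm]))
    (by rw [map_mul, h2, h2, h2, hx.add]), fun a b r h u v => ?_,
    fun a b h u v => cm _ _ _ _ (hx.com a b h u v)⟩, h2⟩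
  rw [mul_inv_eq_iff_eq_mul]
  refine un _ _ (cj _ _ (h1 _ _)) (sq _ _ _ _ (hx.com r b ?_ _ _)) ?_
  · rw [ip_comm, (E.radd_ip h).2.2]; norm_num
  · rw [map_mul, map_mul, map_mul, map_inv, h2, h2, h2, ← hx.cm a b r h, inv_mul_cancel_right]

variable {G : Type u} [Group G] [Finite G]

namespace Glob

variable {Gs : Subgroup G} {t : G} (g : Glob Gs t)
include g

omit [Finite G] in
theorem eq_bot_or_le {N : Subgroup G} (hN : N.Normal) : N = ⊥ ∨ Gs ≤ N := by
  have := g.simple
  have := g.nrm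
  rcases (hN.subgroupOf Gs).eq_bot_or_eq_top with e | e
  · left
    rw [eq_bot_iff, ← g.cen]
    intro x hx y hy
    have : y * x * y⁻¹ * x⁻¹ ∈ N ⊓ Gs := mem_inf.2 ⟨mul_mem (hN.conj_mem x hx y) (inv_mem hx), by
      have := g.nrm.conj_mem _ (inv_mem hy) x
      simpa [mul_assoc] using mul_mem hy this⟩
    rw [subgroupOf_eq_bot, disjoint_iff] at e
    rw [e, mem_bot, mul_inv_eq_one, mul_inv_eq_iff_eq_mul] at this
    exact this
  · exact .inr (subgroupOf_eq_top.1 e)

theorem exists_conj (he : Even (Nat.card Gs)) (t2 : t * t = 1) (t1 : t ≠ 1) :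
    ∃ s, IsConj t s ∧ s * t = t * s ∧ s ≠ t := by
  by_contra! h
  have hO : pPrimeCore 2 G = ⊥ := (g.eq_bot_or_le inferInstance).resolve_right fun e =>
    Nat.not_even_iff_odd.2 ((Core.odd_card_oddCore G).of_dvd_nat (card_dvd_of_le e)) he
  have := ZStar.zstar_center hO (t := t) ⟨Invol.orderOf_eq_two t1 t2, fun a ha =>
    h _ (isConj_iff.2 ⟨a, rfl⟩) ha.eq.symm⟩
  have h1 : t ∈ centralizer (Gs : Set G) := fun y _ => mem_center_iff.1 this y
  rw [g.cen] at h1
  exact t1 h1

end Glob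

omit [Finite G] in
/-- passing to `Gs ⟨t⟩` -/
theorem glob_sub {Gs : Subgroup G} (hn : Gs.Normal) (hs : IsSimpleGroup Gs)
    (hc : ¬IsMulCommutative Gs) (hz : centralizer (Gs : Set G) ≤ Gs) {t : G} (t2 : t * t = 1) :
    Glob (Gs.subgroupOf (Gs ⊔ zpowers t))
      (⟨t, mem_sup_right (mem_zpowers t)⟩ : (Gs ⊔ zpowers t : Subgroup G)) := by
  have e := subgroupOfEquivOfLe (le_sup_left : Gs ≤ Gs ⊔ zpowers t)
  have hs' := e.isSimpleGroup
  have hb : centralizer (Gs : Set G) = ⊥ := by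
    rcases ((inferInstance : (centralizer (Gs : Set G)).Normal).subgroupOf Gs).eq_bot_or_eq_top with h | h
    · exact (subgroupOf_eq_bot.1 h).eq_bot_of_le hz
    · exact absurd ⟨⟨fun x y => Subtype.ext (subgroupOf_eq_top.1 h y.2 x x.2)⟩⟩ hc
  refine ⟨hn.subgroupOf _, hs', ?_, ?_, ?_⟩
  · have h1 : commutator (Gs.subgroupOf (Gs ⊔ zpowers t)) = ⊤ := by
      refine (Normal.eq_bot_or_eq_top inferInstance).resolve_left fun h => hc ⟨⟨fun x y => ?_⟩⟩
      obtain ⟨x, rfl⟩ := e.surjective x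
      obtain ⟨y, rfl⟩ := e.surjective y
      rw [← map_mul, ← map_mul, ← commutatorElement_eq_one_iff_mul_comm.1
        (mem_bot.1 (h ▸ commutator_mem_commutator (mem_top x) (mem_top y)))]
    intro x hx
    rw [← map_subtype_commutator, h1]
    exact ⟨⟨x, hx⟩, mem_top _, rfl⟩
  · rintro ⟨x, hx⟩
    simp only [mem_subgroupOf, coe_mul]
    rw [← SetLike.mem_coe, normal_mul] at hx
    obtain ⟨a, ha, b, ⟨k, rfl⟩, rfl⟩ := hx
    have h2 : t ^ (2 : ℤ) = 1 := by rw [zpow_two, t2]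
    rcases Int.even_or_odd' k with ⟨j, rfl | rfl⟩
    · left; simpa [zpow_mul, h2] using ha
    · right; simpa [zpow_add, zpow_mul, h2, mul_assoc, t2] using ha
  · rw [eq_bot_iff]
    rintro ⟨x, hx⟩ h
    have : x ∈ centralizer (Gs : Set G) := fun y hy =>
      congrArg Subtype.val (h ⟨y, mem_sup_left hy⟩ hy)
    rw [hb] at this
    exact Subtype.ext this

end CfsgLib.SLE
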