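import Mathlib
import Cfsg.Agent.Lib.SylTools.Basic

/-!
# An isolated involution in the centraliser of the centre of an extraspecial group
-/

set_option autoImplicit false

namespace CfsgLib.SLE

open Subgroup
open scoped commutatorElement Pointwise

universe u

variable {G : Type u} [Group G] [Finite G]

omit [Finite G] in
theorem u1_zp {z x : G} (hz : z * z = 1) (hx : x ∈ zpowers z) : x = 1 ∨ x = z := by
  obtain ⟨n, rfl⟩ := hx
  have h2 : z ^ (2 : ℤ) = 1 := by rw [zpow_two, hz]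
  have h3 : z ^ n = z ^ (n % 2) := by
    conv_lhs => rw [← Int.mul_ediv_add_emod n 2, zpow_add, zpow_mul, h2, one_zpow, one_mul]
  rcases Int.emod_two_eq_zero_or_one n with h | h
  · left
    show z ^ n = 1
    rw [h3, h, zpow_zero]
  · right
    show z ^ n = z
    rw [h3, h, zpow_one]

theorem u1_parity {α : Type*} [Finite α] (f g : α → α) (hf : ∀ x, f (f x) = x)
    (hg : ∀ x, g (g x) = x) (a : α) (ha : ∀ x, f x = x ↔ x = a) : ∃ x, g x = x := by
  classical
  have := Fintype.ofFinite α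
  by_contra hn
  push Not at hn
  have h1 := Equiv.Perm.card_fixedPoints_modEq (p := 2) (n := 1) (f := (f : Function.End α))
    (by funext x; exact hf x)
  have h2 := Equiv.Perm.card_fixedPoints_modEq (p := 2) (n := 1) (f := (g : Function.End α))
    (by funext x; exact hg x)
  have e1 : Fintype.card (Function.fixedPoints f) = 1 := by
    rw [Fintype.card_eq_one_iff]
    exact ⟨⟨a, (ha a).2 rfl⟩, fun y => Subtype.ext ((ha _).1 y.2)⟩
  have e2 : Fintype.card (Function.fixedPoints g) = 0 := by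
    rw [Fintype.card_eq_zero_iff]
    exact ⟨fun y => hn _ y.2⟩
  have h3 := h1.symm.trans h2
  erw [e1, e2] at h3
  exact absurd h3 (by decide)

theorem u1_surj {X K E T : Subgroup G} (f : G → G) (hK : K ≤ X)
    (hf : ∀ x ∈ X, ∀ e ∈ E, f x * e ∈ T)
    (hinj : ∀ x ∈ X, ∀ y ∈ X, (f y)⁻¹ * f x ∈ E → y⁻¹ * x ∈ K)
    (hc : Nat.card T * Nat.card K ≤ Nat.card X * Nat.card E) :
    ∀ a ∈ T, ∃ x ∈ X, ∃ e ∈ E, a = f x * e := by
  let φ : (X ⧸ K.subgroupOf X) × E → T := fun p =>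
    ⟨f (p.1.out : X) * p.2, hf _ (p.1.out).2 _ p.2.2⟩
  have hφ : Function.Injective φ := by
    rintro ⟨q, e⟩ ⟨q', e'⟩ h
    have h1 : f (q.out : X) * e = f (q'.out : X) * e' := congrArg Subtype.val h
    have h2 : (f (q'.out : X))⁻¹ * f (q.out : X) ∈ E := by
      have : (f (q'.out : X))⁻¹ * f (q.out : X) = e' * (e : G)⁻¹ := by
        rw [eq_mul_inv_iff_mul_eq, mul_assoc, h1, inv_mul_cancel_left]
      rw [this]
      exact E.mul_mem e'.2 (E.inv_mem e.2)
    have h3 := hinj _ (q.out).2 _ (q'.out).2 h2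
    have h4 : q' = q := by
      rw [← q.out_eq', ← q'.out_eq', QuotientGroup.eq]
      exact h3
    subst h4
    have h5 : e = e' := Subtype.ext (mul_left_cancel h1)
    rw [h5]
  have hX : Nat.card X = Nat.card (X ⧸ K.subgroupOf X) * Nat.card K := by
    rw [card_eq_card_quotient_mul_card_subgroup (K.subgroupOf X),
      Nat.card_congr (subgroupOfEquivOfLe hK).toEquiv]
  have hle : Nat.card T ≤ Nat.card ((X ⧸ K.subgroupOf X) × E) := by
    rw [Nat.card_prod]
    have hpos : 0 < Nat.card K := Nat.card_pos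
    rw [hX] at hc
    apply Nat.le_of_mul_le_mul_right _ hpos
    calc _ ≤ _ := hc
      _ = _ := by ring
  have hb := hφ.bijective_of_nat_card_le hle
  intro a ha
  obtain ⟨p, hp⟩ := hb.2 ⟨a, ha⟩
  exact ⟨_, (p.1.out).2, _, p.2.2, (congrArg Subtype.val hp).symm⟩

omit [Finite G] in
theorem u1_pg {x : G} (hx : x * x = 1) : IsPGroup 2 (zpowers x) := by
  intro y
  refine ⟨1, Subtype.ext ?_⟩
  rcases u1_zp hx y.2 with h | h
  · simp [h]
  · simp [h, pow_two, hx]

theorem u1_norm_of {M : Subgroup G} {g : G} (h : ∀ m ∈ M, g * m * g⁻¹ ∈ M) :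
    g ∈ normalizer (M : Set G) := by
  exact mem_normalizer_fintype h

omit [Finite G] in
/-- the hypotheses of **U1** -/
structure U1H (z t : G) (Q : Subgroup G) : Prop where
  z2 : z * z = 1
  t2 : t * t = 1
  pg : IsPGroup 2 Q
  zQ : z ∈ Q
  cm : ∀ u ∈ Q, ∀ v ∈ Q, u * v * u⁻¹ * v⁻¹ ∈ zpowers z
  zc : ∀ u ∈ Q, u * z = z * u
  sq : ∀ u ∈ Q, u * u ∈ zpowers z
  cen : ∀ u ∈ Q, (∀ v ∈ Q, u * v = v * u) → u ∈ zpowers z
  Qt : ∀ u ∈ Q, u * t = t * u
  nQ : ∀ g, g * z = z * g → g * t = t * g → g ∈ normalizer (Q : Set G)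
  iso : ∀ s, IsConj t s → s * t = t * s → (∀ u ∈ Q, u * s = s * u) → s = t
  nb : ¬ IsConj t (t * z)


omit [Finite G] in
/-- the `C(z)`-class of `t` -/
def U1D (z t d : G) : Prop := ∃ g, g * z = z * g ∧ g * t * g⁻¹ = d

omit [Finite G] in
theorem U1D.self (z t : G) : U1D z t t := ⟨1, by simp, by simp⟩

omit [Finite G] in
theorem U1D.cj {z t d g : G} (h : U1D z t d) (hg : g * z = z * g) : U1D z t (g * d * g⁻¹) := by
  obtain ⟨k, hk, rfl⟩ := h
  refine ⟨g * k, ?_, by group⟩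
  rw [mul_assoc, hk, ← mul_assoc, hg, mul_assoc]

omit [Finite G] in
theorem u1_inv {z g : G} (hg : g * z = z * g) : g⁻¹ * z = z * g⁻¹ :=
  (show Commute g z from hg).inv_left

omit [Finite G] in
theorem U1D.trans {z t d e : G} (h : U1D z t d) (h' : U1D z d e) : U1D z t e := by
  obtain ⟨k, hk, rfl⟩ := h'
  exact h.cj hk

omit [Finite G] in
theorem U1D.symm {z t d : G} (h : U1D z t d) : U1D z d t := by
  obtain ⟨k, hk, rfl⟩ := h
  exact ⟨k⁻¹, u1_inv hk, by group⟩

omit [Finite G] in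
/-- a commuting pair in the class and a `2`-subgroup of its centraliser -/
structure U1T (z t d e : G) (P : Subgroup G) : Prop where
  hd : U1D z t d
  he : U1D z t e
  ne : d ≠ e
  cm : d * e = e * d
  pg : IsPGroup 2 P
  cz : P ≤ centralizer {z}
  cd : P ≤ centralizer {d}
  ce : P ≤ centralizer {e}

omit [Finite G] in
/-- a maximal configuration -/
structure U1M (z t s : G) (P : Subgroup G) : Prop where
  tr : U1T z t t s P
  mx : ∀ d e P', U1T z t d e P' → Nat.card P' ≤ Nat.card P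

omit [Finite G] in
theorem U1M.symm {z t s : G} {P : Subgroup G} (m : U1M z t s P) : U1M z s t P :=
  ⟨⟨U1D.self _ _, m.tr.he.symm, m.tr.ne.symm, m.tr.cm.symm, m.tr.pg, m.tr.cz, m.tr.ce, m.tr.cd⟩,
    fun d e P' h => m.mx d e P'
      ⟨m.tr.he.trans h.hd, m.tr.he.trans h.he, h.ne, h.cm, h.pg, h.cz, h.cd, h.ce⟩⟩

theorem U1M.le {z t s : G} {P X : Subgroup G} (m : U1M z t s P) (hX : IsPGroup 2 X)
    (hN : P ≤ normalizer (X : Set G)) (hz : X ≤ centralizer {z}) (ht : X ≤ centralizer {t})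
    (hs : X ≤ centralizer {s}) : X ≤ P := by
  have h1 := m.mx t s (X ⊔ P) ⟨m.tr.hd, m.tr.he, m.tr.ne, m.tr.cm,
    hX.to_sup_of_normal_left' m.tr.pg hN, sup_le hz m.tr.cz, sup_le ht m.tr.cd, sup_le hs m.tr.ce⟩
  have h2 := eq_of_le_of_card_ge (le_sup_right : P ≤ X ⊔ P) h1
  rw [h2]
  exact le_sup_left

namespace U1H

variable {z t : G} {Q : Subgroup G} (h : U1H z t Q)
include h

omit [Finite G] in
theorem z1 : z ≠ 1 := by
  rintro rfl
  exact h.nb (by rw [mul_one])

omit [Finite G] in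
theorem tz : t * z = z * t := (h.Qt z h.zQ).symm

omit [Finite G] in
theorem dz {d : G} (hd : U1D z t d) : d * z = z * d := by
  obtain ⟨g, hg, rfl⟩ := hd
  exact ((show Commute g z from hg).mul_left h.tz).mul_left (show Commute g z from hg).inv_left

omit [Finite G] in
theorem d2 {d : G} (hd : U1D z t d) : d * d = 1 := by
  obtain ⟨g, hg, rfl⟩ := hd
  calc _ = g * (t * t) * g⁻¹ := by group
    _ = 1 := by rw [h.t2]; group

omit [Finite G] in
theorem zcm {e x : G} (he : e ∈ zpowers z) (hx : x * z = z * x) : x * e = e * x := by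
  rcases u1_zp h.z2 he with rfl | rfl
  · simp
  · exact hx

omit [Finite G] in
theorem card_z : Nat.card (zpowers z) = 2 := by
  rw [Nat.card_zpowers]
  exact orderOf_eq_prime (by rw [pow_two, h.z2]) h.z1

omit [Finite G] in
/-- (0) -/
theorem zero {d x : G} (hd : U1D z t d) (hx : x * z = z * x)
    (hc : d * x * d⁻¹ * x⁻¹ ∈ zpowers z) : d * x = x * d := by
  rcases u1_zp h.z2 hc with h1 | h1
  · rw [mul_inv_eq_one, mul_inv_eq_iff_eq_mul] at h1
    exact h1
  · exfalso
    have hdz := h.dz hd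
    obtain ⟨g, hg, rfl⟩ := hd
    apply h.nb
    have e1 : g * t * g⁻¹ * x = z * x * (g * t * g⁻¹) := by
      rw [← h1]; group
    have e2 : x⁻¹ * (g * t * g⁻¹) * x = g * (t * z) * g⁻¹ := by
      rw [mul_assoc x⁻¹, e1, ← hx]
      calc x⁻¹ * (x * z * (g * t * g⁻¹)) = z * (g * t * g⁻¹) := by group
        _ = g * t * g⁻¹ * z := hdz.symm
        _ = g * t * (g⁻¹ * z) := by group
        _ = _ := by rw [u1_inv hg]; group
    rw [isConj_iff]
    refine ⟨g⁻¹ * x⁻¹ * g, ?_⟩
    calc _ = g⁻¹ * (x⁻¹ * (g * t * g⁻¹) * x) * g := by group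
      _ = _ := by rw [e2]; group

omit [Finite G] in
theorem conj {g : G} (hg : g * z = z * g) :
    U1H z (g * t * g⁻¹) (Q.map (MulAut.conj g).toMonoidHom) := by
  have hgi := u1_inv hg
  have hz : ∀ e ∈ zpowers z, g * e * g⁻¹ = e := fun e he => by
    rw [h.zcm he hg]; group
  have hz' : ∀ e, g⁻¹ * e * g ∈ zpowers z → e ∈ zpowers z := fun e he => by
    have := hz _ he
    rw [show g * (g⁻¹ * e * g) * g⁻¹ = e by group] at this
    rwa [this]
  have hcz : ∀ x, x * z = z * x → g⁻¹ * x * g * z = z * (g⁻¹ * x * g) := fun x hx =>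
    ((show Commute g⁻¹ z from hgi).mul_left hx).mul_left hg
  refine ⟨h.z2, h.d2 ⟨g, hg, rfl⟩, h.pg.map _, ?_, ?_, ?_, ?_, ?_, ?_, ?_, ?_, ?_⟩
  · rw [SylTools.mem_map_conj, hgi]
    simpa using h.zQ
  · intro u hu v hv
    rw [SylTools.mem_map_conj] at hu hv
    apply hz'
    have := h.cm _ hu _ hv
    convert this using 1
    group
  · intro u hu
    rw [SylTools.mem_map_conj] at hu
    have := h.zc _ hu
    calc u * z = g * (g⁻¹ * u * g) * (g⁻¹ * z) := by group
      _ = g * (g⁻¹ * u * g * z) * g⁻¹ := by rw [hgi]; group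
      _ = g * z * g⁻¹ * u := by rw [this]; group
      _ = _ := by rw [hg]; group
  · intro u hu
    rw [SylTools.mem_map_conj] at hu
    apply hz'
    have := h.sq _ hu
    convert this using 1
    group
  · intro u hu hc
    rw [SylTools.mem_map_conj] at hu
    apply hz'
    apply h.cen _ hu
    intro v hv
    have := hc (g * v * g⁻¹) (by rw [SylTools.mem_map_conj]; simpa [mul_assoc] using hv)
    calc _ = g⁻¹ * (u * (g * v * g⁻¹)) * g := by group
      _ = _ := by rw [this]; group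
  · intro u hu
    rw [SylTools.mem_map_conj] at hu
    have := h.Qt _ hu
    calc _ = g * (g⁻¹ * u * g * t) * g⁻¹ := by group
      _ = _ := by rw [this]; group
  · intro k hk hkt
    have h1 : g⁻¹ * k * g ∈ normalizer (Q : Set G) := by
      apply h.nQ _ (hcz k hk)
      calc _ = g⁻¹ * (k * (g * t * g⁻¹)) * g := by group
        _ = _ := by rw [hkt]; group
    rw [mem_normalizer_iff] at h1 ⊢
    intro m
    rw [SylTools.mem_map_conj, SylTools.mem_map_conj, h1]
    constructor <;> intro hm <;> convert hm using 1 <;> group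
  · intro s hs hst hQ
    have h1 : g⁻¹ * s * g = t := by
      apply h.iso
      · rw [isConj_iff] at hs ⊢
        obtain ⟨c, rfl⟩ := hs
        exact ⟨g⁻¹ * c * g, by group⟩
      · calc _ = g⁻¹ * (s * (g * t * g⁻¹)) * g := by group
          _ = _ := by rw [hst]; group
      · intro u hu
        have := hQ (g * u * g⁻¹) (by rw [SylTools.mem_map_conj]; simpa [mul_assoc] using hu)
        calc _ = g⁻¹ * (g * u * g⁻¹ * s) * g := by group
          _ = _ := by rw [this]; group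
    rw [← h1]; group
  · intro hc
    apply h.nb
    rw [isConj_iff] at hc ⊢
    obtain ⟨c, hc⟩ := hc
    refine ⟨g⁻¹ * c * g, ?_⟩
    calc _ = g⁻¹ * (c * (g * t * g⁻¹) * c⁻¹) * g := by group
      _ = t * (g⁻¹ * z) * g := by rw [hc]; group
      _ = _ := by rw [hgi]; group

omit [Finite G] in
theorem cm_or {a b : G} (ha : a ∈ Q) (hb : b ∈ Q) : a * b = b * a ∨ a * b = z * (b * a) := by
  rcases u1_zp h.z2 (h.cm a ha b hb) with h1 | h1
  · left
    rw [mul_inv_eq_one, mul_inv_eq_iff_eq_mul] at h1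
    exact h1
  · right
    rw [← h1]; group

omit [Finite G] in
theorem cm_mul {a a' b : G} (ha : a ∈ Q) (ha' : a' ∈ Q) (hb : b ∈ Q) :
    Commute (a * a') b ↔ (Commute a b ↔ Commute a' b) := by
  constructor
  · intro hc
    constructor
    · intro h1
      simpa using h1.inv_left.mul_left hc
    · intro h1
      simpa using hc.mul_left h1.inv_left
  · intro hc
    by_cases h1 : Commute a b
    · exact h1.mul_left (hc.1 h1)
    · have h2 : ¬ Commute a' b := fun h2 => h1 (hc.2 h2)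
      have e1 := (h.cm_or ha hb).resolve_left h1
      have e2 := (h.cm_or ha' hb).resolve_left h2
      show a * a' * b = b * (a * a')
      calc a * a' * b = a * (a' * b) := by group
        _ = (a * z) * b * a' := by rw [e2]; group
        _ = z * (a * b) * a' := by rw [h.zc a ha]; group
        _ = (z * z) * b * a * a' := by rw [e1]; group
        _ = _ := by rw [h.z2]; group

omit [Finite G] in
/-- invariance of the commutator form -/
theorem f1 {a b k : G} (ha : a ∈ Q) (hb : b ∈ Q) (hk : k ∈ normalizer (Q : Set G)) :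
    Commute (a * k * a⁻¹ * k⁻¹) b ↔ (Commute a b ↔ Commute a (k⁻¹ * b * k)) := by
  have h1 : k * a⁻¹ * k⁻¹ ∈ Q := (mem_normalizer_iff.1 hk _).1 (Q.inv_mem ha)
  rw [show a * k * a⁻¹ * k⁻¹ = a * (k * a⁻¹ * k⁻¹) by group, h.cm_mul ha h1 hb]
  have : Commute (k * a⁻¹ * k⁻¹) b ↔ Commute a (k⁻¹ * b * k) := by
    rw [← Commute.inv_left_iff (a := a), ← Commute.conj_iff k (a := a⁻¹)]
    simp [mul_assoc]
  rw [this]

theorem nz {M : Subgroup G} (hM : M ≤ Q) (hz : z ∈ M) {u : G} (hu : u ∈ Q) :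
    u ∈ normalizer (M : Set G) := by
  apply u1_norm_of
  intro m hm
  have := (zpowers_le.2 hz) (h.cm u hu m (hM hm))
  simpa using M.mul_mem this hm

theorem perp_le (A : Subgroup G) : A ≤ Q →
    Nat.card A * Nat.card (Q ⊓ centralizer (A : Set G) : Subgroup G) ≤ 2 * Nat.card Q := by
  induction A using WellFoundedGT.induction with
  | ind A ih =>
  intro hA
  by_cases hQ : Q ≤ A
  · have e : A = Q := le_antisymm hA hQ
    subst e
    rw [mul_comm, ← h.card_z]
    apply Nat.mul_le_mul_right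
    apply card_le_of_le
    intro u hu
    exact h.cen u hu.1 fun v hv => (hu.2 v hv).symm
  · obtain ⟨x, hx, hxA⟩ := SetLike.not_le_iff_exists.1 hQ
    have hlt : A < A ⊔ zpowers x := by
      refine lt_of_le_of_ne le_sup_left fun e => hxA ?_
      rw [e]
      exact (le_sup_right : zpowers x ≤ _) (mem_zpowers x)
    have h1 := ih _ hlt (sup_le hA (zpowers_le.2 hx))
    have h2 : 2 * Nat.card A ≤ Nat.card (A ⊔ zpowers x : Subgroup G) := by
      obtain ⟨k, hk⟩ := card_dvd_of_le hlt.le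
      have h3 : Nat.card A < Nat.card (A ⊔ zpowers x : Subgroup G) :=
        lt_of_not_ge fun h3 => hlt.ne (eq_of_le_of_card_ge hlt.le h3)
      have hp : 0 < Nat.card A := Nat.card_pos
      rw [hk] at h3 ⊢
      have : 1 < k := by
        by_contra hn
        have : k ≤ 1 := by omega
        have := Nat.mul_le_mul_left (Nat.card A) this
        omega
      nlinarith
    set Y := Q ⊓ centralizer (A : Set G) with hY
    set Y' := Q ⊓ centralizer ((A ⊔ zpowers x : Subgroup G) : Set G) with hY'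
    have hm : ∀ b ∈ Y, Commute b x → b ∈ Y' := by
      intro b hb hc
      refine ⟨hb.1, ?_⟩
      have : A ⊔ zpowers x ≤ centralizer {b} := by
        refine sup_le (fun a ha => ?_) (zpowers_le.2 ?_)
        · rw [mem_centralizer_singleton_iff]; exact hb.2 a ha
        · rw [mem_centralizer_singleton_iff]; exact hc.symm
      intro a ha
      exact mem_centralizer_singleton_iff.1 (this ha)
    have hle : Y' ≤ Y := inf_le_inf_left _ (centralizer_le (SetLike.coe_subset_coe.2 le_sup_left))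
    have h3 : Y'.relIndex Y ∣ 2 := by
      rw [relIndex_dvd_two_iff]
      by_cases hall : ∀ b ∈ Y, Commute b x
      · exact ⟨1, Y.one_mem, fun b hb => Or.inr (hm b hb (hall b hb))⟩
      · push Not at hall
        obtain ⟨a, ha, hax⟩ := hall
        refine ⟨a, ha, fun b hb => ?_⟩
        by_cases hbx : Commute b x
        · exact Or.inr (hm b hb hbx)
        · exact Or.inl (hm _ (Y.mul_mem hb ha) ((h.cm_mul hb.1 ha.1 hx).2 (by simp [hax, hbx])))
    have h4 : Nat.card Y ≤ 2 * Nat.card Y' := by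
      have e := card_mul_index (Y'.subgroupOf Y)
      rw [Nat.card_congr (subgroupOfEquivOfLe hle).toEquiv] at e
      rw [← e, mul_comm]
      exact Nat.mul_le_mul_right _ (Nat.le_of_dvd two_pos h3)
    calc Nat.card A * Nat.card Y ≤ Nat.card A * (2 * Nat.card Y') := Nat.mul_le_mul_left _ h4
      _ = 2 * Nat.card A * Nat.card Y' := by ring
      _ ≤ _ := Nat.mul_le_mul_right _ h2
      _ ≤ _ := h1


section Max

variable {s : G} {P : Subgroup G} (m : U1M z t s P)
include m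

theorem tP : t ∈ P := by
  refine zpowers_le.1 (m.le (u1_pg h.t2) (fun p hp => u1_norm_of fun x hx => ?_) ?_ ?_ ?_)
  · have h1 := mem_centralizer_singleton_iff.1 (m.tr.cd hp)
    rcases u1_zp h.t2 hx with rfl | rfl
    · simp
    · rw [h1]; simp
  · exact zpowers_le.2 (mem_centralizer_singleton_iff.2 h.tz)
  · exact zpowers_le.2 (mem_centralizer_singleton_iff.2 rfl)
  · exact zpowers_le.2 (mem_centralizer_singleton_iff.2 m.tr.cm)

omit [Finite G] in
theorem PN : P ≤ normalizer (Q : Set G) := fun _ hp =>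
  h.nQ _ (mem_centralizer_singleton_iff.1 (m.tr.cz hp))
    (mem_centralizer_singleton_iff.1 (m.tr.cd hp))

theorem AP {a : G} (ha : a ∈ Q) (hs : a * s = s * a) : a ∈ P := by
  have : Q ⊓ centralizer {s} ≤ P := by
    refine m.le h.pg.to_inf_left (fun p hp => u1_norm_of fun x hx => ⟨?_, ?_⟩) ?_ ?_ inf_le_right
    · exact (mem_normalizer_iff.1 (h.PN m hp) x).1 hx.1
    · exact (centralizer {s}).mul_mem ((centralizer {s}).mul_mem (m.tr.ce hp) hx.2)
        ((centralizer {s}).inv_mem (m.tr.ce hp))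
    · exact fun x hx => mem_centralizer_singleton_iff.2 (h.zc x hx.1)
    · exact fun x hx => mem_centralizer_singleton_iff.2 (h.Qt x hx.1)
  exact this ⟨ha, mem_centralizer_singleton_iff.2 hs⟩

theorem exu : ∃ u ∈ Q, u * s ≠ s * u ∧ u ∈ normalizer (P : Set G) ∧
    ∀ d, U1D z t d → P ≤ centralizer {d} → u * d = d * u → d = t := by
  have hpg : IsPGroup 2 (Q ⊔ P : Subgroup G) := h.pg.to_sup_of_normal_left' m.tr.pg (h.PN m)
  have hne : P ≠ Q ⊔ P := by
    intro e
    apply m.tr.ne.symm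
    apply h.iso s _ m.tr.cm.symm
    · intro u hu
      exact mem_centralizer_singleton_iff.1 (m.tr.ce (e ▸ (le_sup_left : Q ≤ Q ⊔ P) hu))
    · obtain ⟨g, -, hg⟩ := m.tr.he
      exact isConj_iff.2 ⟨g, hg⟩
  obtain ⟨y, hy, hyN, hyP⟩ := SylTools.exists_mem_normalizer_not_mem hpg le_sup_right hne
  have hy' : y ∈ ((Q ⊔ P : Subgroup G) : Set G) := hy
  rw [coe_mul_of_right_le_normalizer_left _ _ (h.PN m)] at hy'
  obtain ⟨u, hu, p, hp, rfl⟩ := hy'
  have huP : u ∉ P := fun hu => hyP (P.mul_mem hu hp)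
  have huN : u ∈ normalizer (P : Set G) := by
    simpa using mul_mem hyN (inv_mem (le_normalizer hp))
  refine ⟨u, hu, fun hc => huP (h.AP m hu hc), huN, fun d hd hPd hud => ?_⟩
  by_contra hdt
  have h1 := m.mx t d (P ⊔ zpowers u) ⟨m.tr.hd, hd, Ne.symm hdt,
    mem_centralizer_singleton_iff.1 (hPd (h.tP m)),
    hpg.to_le (sup_le le_sup_right ((zpowers_le.2 hu).trans le_sup_left)),
    sup_le m.tr.cz (zpowers_le.2 (mem_centralizer_singleton_iff.2 (h.zc u hu))),
    sup_le m.tr.cd (zpowers_le.2 (mem_centralizer_singleton_iff.2 (h.Qt u hu))),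
    sup_le hPd (zpowers_le.2 (mem_centralizer_singleton_iff.2 hud))⟩
  have h2 := eq_of_le_of_card_ge (le_sup_left : P ≤ P ⊔ zpowers u) h1
  apply huP
  rw [h2]
  exact (le_sup_right : zpowers u ≤ _) (mem_zpowers u)

theorem exk : ∃ R u, U1H z s R ∧ u ∈ Q ∧ u * s ≠ s * u ∧ u ∈ normalizer (P : Set G) ∧
    Nat.card (Q ⊓ P : Subgroup G) = Nat.card (R ⊓ P : Subgroup G) ∧
    ∀ b ∈ R, u * b * u⁻¹ * b⁻¹ ∈ Q ⊓ R → b ∈ Q := by
  obtain ⟨g, hg, hgs⟩ := m.tr.he
  have hs := h.conj hg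
  rw [hgs] at hs
  set R := Q.map (MulAut.conj g).toMonoidHom with hR
  obtain ⟨u, hu, hus, huN, hud⟩ := h.exu m
  obtain ⟨u', hu', -, hu'N, hu'd⟩ := hs.exu m.symm
  set T := closure {u, u'} with hT
  have hTle : ∀ W : Subgroup G, u ∈ W → u' ∈ W → T ≤ W := fun W h1 h2 => by
    rw [hT, closure_le]
    rintro x (rfl | rfl)
    exacts [h1, h2]
  have huT : u ∈ T := subset_closure (by simp)
  have hu'T : u' ∈ T := subset_closure (by simp)
  have hTz : ∀ k ∈ T, k * z = z * k := fun k hk => mem_centralizer_singleton_iff.1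
    (hTle (centralizer {z}) (mem_centralizer_singleton_iff.2 (h.zc u hu))
      (mem_centralizer_singleton_iff.2 (hs.zc u' hu')) hk)
  have hTN : T ≤ normalizer (P : Set G) := hTle _ huN hu'N
  let O := {d : G // ∃ k ∈ T, k * t * k⁻¹ = d}
  have hOD : ∀ d : O, U1D z t d := fun d => by
    obtain ⟨k, hk, e⟩ := d.2
    exact ⟨k, hTz k hk, e⟩
  have hOP : ∀ d : O, P ≤ centralizer {(d : G)} := fun d p hp => by
    obtain ⟨k, hk, e⟩ := d.2
    rw [mem_centralizer_singleton_iff, ← e]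
    have h1 : k⁻¹ * p * k ∈ P := (mem_normalizer_iff''.1 (hTN hk) p).1 hp
    have h2 := mem_centralizer_singleton_iff.1 (m.tr.cd h1)
    calc _ = k * (k⁻¹ * p * k * t) * k⁻¹ := by group
      _ = _ := by rw [h2]; group
  let c : ∀ v ∈ T, O → O := fun v hv d => ⟨v * d * v⁻¹, by
    obtain ⟨k, hk, e⟩ := d.2
    exact ⟨v * k, T.mul_mem hv hk, by rw [← e]; group⟩⟩
  have hc : ∀ v (hv : v ∈ T), v * v ∈ zpowers z → ∀ d, c v hv (c v hv d) = d := by
    intro v hv hvv d
    apply Subtype.ext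
    show v * (v * d * v⁻¹) * v⁻¹ = d
    have := h.zcm hvv (h.dz (hOD d))
    calc _ = (v * v * d) * (v * v)⁻¹ := by group
      _ = _ := by rw [← this]; group
  obtain ⟨d, hd⟩ := u1_parity (c u huT) (c u' hu'T) (hc u huT (h.sq u hu))
    (hc u' hu'T (hs.sq u' hu')) ⟨t, 1, T.one_mem, by simp⟩ (fun d => by
      constructor
      · intro e
        have e' : u * d * u⁻¹ = d := congrArg Subtype.val e
        exact Subtype.ext (hud d (hOD d) (hOP d) (mul_inv_eq_iff_eq_mul.1 e'))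
      · rintro rfl
        apply Subtype.ext
        show u * t * u⁻¹ = t
        rw [h.Qt u hu]; group)
  have hds : (d : G) = s := by
    have e' : u' * d * u'⁻¹ = d := congrArg Subtype.val hd
    exact hu'd d (m.tr.he.symm.trans (hOD d)) (hOP d) (mul_inv_eq_iff_eq_mul.1 e')
  obtain ⟨k, hk, hkt⟩ := d.2
  rw [hds] at hkt
  have hkR : ∀ x, x ∈ R ↔ k⁻¹ * x * k ∈ Q := by
    intro x
    have h1 : g⁻¹ * k ∈ normalizer (Q : Set G) := by
      apply h.nQ
      · exact ((show Commute g z from hg).inv_left).mul_left (hTz k hk)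
      · calc _ = g⁻¹ * (k * t * k⁻¹) * k := by group
          _ = _ := by rw [hkt, ← hgs]; group
    rw [hR, SylTools.mem_map_conj, mem_normalizer_iff''.1 h1]
    constructor <;> intro hm <;> convert hm using 1 <;> group
  refine ⟨R, u, hs, hu, hus, huN, ?_, fun b hb hub => ?_⟩
  · have : R ⊓ P = (Q ⊓ P).map (MulAut.conj k).toMonoidHom := by
      ext x
      rw [SylTools.mem_map_conj, mem_inf, mem_inf, hkR, mem_normalizer_iff''.1 (hTN hk) x]
    rw [this, card_map_of_injective (MulAut.conj k).injective]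
  · let W : Subgroup G :=
      { carrier := {v | v ∈ normalizer ((Q ⊓ R : Subgroup G) : Set G) ∧ v * b * v⁻¹ * b⁻¹ ∈ Q ⊓ R}
        one_mem' := ⟨one_mem _, by simp⟩
        mul_mem' := fun {v w} hv hw => ⟨mul_mem hv.1 hw.1, by
          have := mul_mem ((mem_normalizer_iff.1 hv.1 _).1 hw.2) hv.2
          convert this using 1
          group⟩
        inv_mem' := fun {v} hv => ⟨inv_mem hv.1, by
          have := (mem_normalizer_iff''.1 hv.1 _).1 (inv_mem hv.2)
          convert this using 1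
          group⟩ }
    have hz : z ∈ Q ⊓ R := ⟨h.zQ, hs.zQ⟩
    have hW : T ≤ W := hTle W ⟨h.nz inf_le_left hz hu, hub⟩
      ⟨hs.nz inf_le_right hz hu', zpowers_le.2 hz (hs.cm u' hu' b hb)⟩
    have h1 := (hW (T.inv_mem hk)).2.1
    have h2 := (hkR b).1 hb
    have h3 := Q.mul_mem (Q.inv_mem h1) h2
    convert h3 using 1
    group


theorem core : False := by
  obtain ⟨R, u, hs, hu, hus, huN, hcard, hinj⟩ := h.exk m
  have hsD := m.tr.he
  have hsP : s ∈ P := hs.tP m.symm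
  have hsN : s ∈ normalizer (Q : Set G) := h.PN m hsP
  have hsi : s⁻¹ = s := inv_eq_of_mul_eq_one_right hs.t2
  have hPs : ∀ p ∈ P, p * s = s * p := fun p hp => mem_centralizer_singleton_iff.1 (m.tr.ce hp)
  have hz0 : z ∈ Q ⊓ R := ⟨h.zQ, hs.zQ⟩
  have hcQ : ∀ x ∈ Q, ∀ k ∈ normalizer (Q : Set G), x * k * x⁻¹ * k⁻¹ ∈ Q := fun x hx k hk => by
    have := Q.mul_mem hx ((mem_normalizer_iff.1 hk _).1 (Q.inv_mem hx))
    simpa only [mul_assoc] using this
  -- commutators with `s`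
  have hvs : ∀ x ∈ Q, (x * s * x⁻¹ * s⁻¹) * s = s * (x * s * x⁻¹ * s⁻¹) := fun x hx => by
    have hv := hcQ x hx s hsN
    symm
    apply h.zero hsD (h.zc _ hv)
    have := h.sq _ (Q.inv_mem hv)
    convert this using 1
    rw [hsi]
    calc _ = s * x * s * x⁻¹ * (s * s) * (x * s * x⁻¹ * s)⁻¹ := by group
      _ = s⁻¹ * x * s⁻¹ * x⁻¹ * (x * s * x⁻¹ * s)⁻¹ := by rw [hs.t2, hsi]; group
      _ = _ := by group
  have hvA : ∀ x ∈ Q, ∀ a ∈ Q ⊓ P, Commute (x * s * x⁻¹ * s⁻¹) a := fun x hx a ha => by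
    rw [h.f1 hx ha.1 hsN, mul_assoc, hPs a ha.2, inv_mul_cancel_left]
  have hv2 : ∀ x ∈ Q, (x * s * x⁻¹ * s⁻¹) * (x * s * x⁻¹ * s⁻¹) = 1 := fun x hx => by
    have h1 := hvs x hx
    calc _ = (x * s * x⁻¹ * s⁻¹) * s⁻¹ * (s * (x * s * x⁻¹ * s⁻¹)) := by group
      _ = (x * s * x⁻¹) * (s * s)⁻¹ * (x * s * x⁻¹) := by rw [← h1]; group
      _ = (x * s * x⁻¹) * (x * s * x⁻¹) := by rw [hs.t2, inv_one, mul_one]
      _ = x * (s * s) * x⁻¹ := by group
      _ = 1 := by rw [hs.t2]; group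
  have hvR : ∀ y ∈ Q, y * s * y⁻¹ * s⁻¹ ∈ R → y * s * y⁻¹ * s⁻¹ = 1 := fun y hy hr => by
    have hD : U1D z t (y * s * y⁻¹) := hsD.cj (h.zc y hy)
    have : y * s * y⁻¹ = s := by
      apply hs.iso _ (isConj_iff.2 ⟨y, rfl⟩)
      · have := hs.Qt _ hr
        calc _ = (y * s * y⁻¹ * s⁻¹ * s) * s := by group
          _ = _ := by rw [this]; group
      · intro x hx
        symm
        apply h.zero hD (hs.zc x hx)
        have h1 := hs.cm _ hr x hx
        have h2 := hs.Qt x hx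
        convert h1 using 1
        calc _ = y * s * y⁻¹ * s⁻¹ * (s * x) * (y * s * y⁻¹)⁻¹ * x⁻¹ := by group
          _ = _ := by rw [← h2]; group
    rw [this]; group
  -- `A = [u, B] D₀`
  have hD0A : Q ⊓ R ≤ Q ⊓ P := fun d hd => ⟨hd.1, h.AP m hd.1 (hs.Qt d hd.2)⟩
  have hD0B : Q ⊓ R ≤ R ⊓ P := fun d hd => ⟨hd.2, (hD0A hd).2⟩
  have hub : ∀ b ∈ R ⊓ P, u * b * u⁻¹ * b⁻¹ ∈ Q ⊓ P := fun b hb =>
    ⟨hcQ u hu b (h.PN m hb.2), P.mul_mem ((mem_normalizer_iff.1 huN b).1 hb.2) (P.inv_mem hb.2)⟩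
  have hA := u1_surj (X := R ⊓ P) (K := Q ⊓ R) (E := Q ⊓ R) (T := Q ⊓ P)
    (fun b => u * b * u⁻¹ * b⁻¹) hD0B (fun b hb e he => mul_mem (hub b hb) (hD0A he))
    (fun x hx y hy hxy => by
      have hb : y⁻¹ * x ∈ R := R.mul_mem (R.inv_mem hy.1) hx.1
      refine ⟨hinj _ hb ?_, hb⟩
      have := (mem_normalizer_iff''.1 (hs.nz inf_le_right hz0 hy.1) _).1 hxy
      convert this using 1
      group) (by rw [hcard])
  have hubD : ∀ b ∈ R ⊓ P, ∀ d ∈ Q ⊓ R, Commute (u * b * u⁻¹ * b⁻¹) d := fun b hb d hd => by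
    rw [h.f1 hu hd.1 (h.PN m hb.2)]
    have h1 := hs.cm _ (R.inv_mem hb.1) d hd.2
    have h2 : Commute u (b⁻¹ * d * b⁻¹⁻¹ * d⁻¹) := h.zcm h1 (h.zc u hu)
    rw [show b⁻¹ * d * b = (b⁻¹ * d * b⁻¹⁻¹ * d⁻¹) * d by group]
    constructor
    · exact fun h3 => h2.mul_right h3
    · intro h3
      simpa only [inv_mul_cancel_left] using h2.inv_right.mul_right h3
  -- duality
  have hdual := u1_surj (X := Q) (K := Q ⊓ P) (E := zpowers z)
    (T := Q ⊓ centralizer ((Q ⊓ P : Subgroup G) : Set G)) (fun x => x * s * x⁻¹ * s⁻¹) inf_le_left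
    (fun x hx e he => ⟨Q.mul_mem (hcQ x hx s hsN) (zpowers_le.2 h.zQ he), fun a ha =>
      ((hvA x hx a ha).symm.mul_right (h.zcm he (h.zc a ha.1)))⟩)
    (fun x hx y hy hxy => by
      have hb : y⁻¹ * x ∈ Q := Q.mul_mem (Q.inv_mem hy) hx
      refine ⟨hb, h.AP m hb (h.zero hsD (h.zc _ hb) ?_).symm⟩
      have h1 := h.zcm hxy (h.dz hsD)
      have h2 := h.zcm hxy (h.zc y hy)
      set e := (y * s * y⁻¹ * s⁻¹)⁻¹ * (x * s * x⁻¹ * s⁻¹) with he
      have h3 : y⁻¹ * (s⁻¹ * e * s) * y = e := by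
        rw [mul_assoc s⁻¹, ← h1, inv_mul_cancel_left, mul_assoc, ← h2, inv_mul_cancel_left]
      rw [← h3] at hxy
      convert hxy using 1
      rw [he]
      calc _ = s⁻¹ * (y⁻¹ * x) * s * (y⁻¹ * x)⁻¹ := by rw [hsi]
        _ = _ := by group)
    (by
      have := h.perp_le (Q ⊓ P) inf_le_left
      rw [h.card_z, mul_comm, mul_comm _ 2]
      exact this)
  -- the contradiction
  have hc : ¬ ∀ x ∈ Q, (u * s * u⁻¹ * s⁻¹) * x = x * (u * s * u⁻¹ * s⁻¹) := fun hc => by
    have h1 := (zpowers z).inv_mem (h.cen _ (hcQ u hu s hsN) hc)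
    apply hus
    symm
    apply h.zero hsD (h.zc u hu)
    convert h1 using 1
    group
  apply hc
  intro x hx
  obtain ⟨b, hb, d, hd, hv⟩ :=
    hA (x * s * x⁻¹ * s⁻¹) ⟨hcQ x hx s hsN, h.AP m (hcQ x hx s hsN) (hvs x hx)⟩
  have hdA : d ∈ Q ⊓ centralizer ((Q ⊓ P : Subgroup G) : Set G) := by
    refine ⟨hd.1, fun a ha => ?_⟩
    obtain ⟨b', hb', d', hd', rfl⟩ := hA a ha
    have h1 : Commute d d' := by
      have h2 := (hubD b hb d' hd').inv_left.mul_left (hvA x hx d' (hD0A hd'))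
      rw [hv] at h2
      simpa only [inv_mul_cancel_left] using h2
    exact (hubD b' hb' d hd).mul_left h1.symm
  obtain ⟨y, hy, e, he, hde⟩ := hdual d hdA
  have hdz : d ∈ zpowers z := by
    have h1 : y * s * y⁻¹ * s⁻¹ ∈ R := by
      have := R.mul_mem hd.2 (R.inv_mem (zpowers_le.2 hs.zQ he))
      rwa [hde, mul_inv_cancel_right] at this
    rw [hde, hvR y hy h1, one_mul]
    exact he
  have hw := (hub b hb).1
  set w := u * b * u⁻¹ * b⁻¹ with hwe
  have hd2 : d * d = 1 := by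
    rcases u1_zp h.z2 hdz with e | e <;> rw [e]
    exacts [one_mul _, h.z2]
  have hw2 : w * w = 1 := by
    have h1 := hv2 x hx
    have h2 := h.zcm hdz (h.zc w hw)
    rw [hv] at h1
    calc w * w = w * w * (d * d) := by rw [hd2, mul_one]
      _ = w * (w * d) * d := by group
      _ = _ := by rw [h2, ← h1]; group
  have huw : Commute u w := by
    have h1 := h.zcm (h.sq u hu) (hs.zc b hb.1)
    have h2 : w * u⁻¹ * w = u⁻¹ := by
      calc _ = u * (b * (u * u)⁻¹) * b⁻¹ := by rw [hwe]; group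
        _ = _ := by rw [(show Commute b (u * u) from h1).inv_right.eq]; group
    have h3 : w⁻¹ = w := inv_eq_of_mul_eq_one_right hw2
    have h4 : Commute w u⁻¹ := by
      show w * u⁻¹ = u⁻¹ * w
      calc _ = w * u⁻¹ * w * w⁻¹ := by group
        _ = _ := by rw [h2, h3]
    simpa using h4.symm
  have huv : Commute (x * s * x⁻¹ * s⁻¹) u := by
    rw [hv]
    exact (huw.mul_right (h.zcm hdz (h.zc u hu))).symm
  rw [h.f1 hx hu hsN] at huv
  show Commute _ _
  rw [h.f1 hu hx hsN, Commute.symm_iff (a := u), huv, Commute.symm_iff (a := u),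
    ← Commute.conj_iff s (a := x), hsi]
  have : s * (s * u * s) * s = u := by
    calc _ = (s * s) * u * (s * s) := by group
      _ = _ := by rw [hs.t2]; group
  rw [this]

end Max

/-- `t` is isolated in `C(z)` -/
theorem isolated {g : G} (hg : g * z = z * g) (hc : g * t * g⁻¹ * t = t * (g * t * g⁻¹)) :
    g * t * g⁻¹ = t := by
  by_contra hne
  obtain ⟨⟨d, e, P⟩, hT, hmax⟩ := Set.exists_max_image
    {p : G × G × Subgroup G | U1T z t p.1 p.2.1 p.2.2} (fun p => Nat.card p.2.2) (Set.toFinite _)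
    ⟨(g * t * g⁻¹, t, ⊥), ⟨g, hg, rfl⟩, U1D.self _ _, hne, hc, IsPGroup.of_bot, bot_le, bot_le,
      bot_le⟩
  obtain ⟨k, hk, hkd⟩ := hT.hd
  have hd := h.conj hk
  rw [hkd] at hd
  exact hd.core (s := e) (P := P) ⟨⟨U1D.self _ _, hT.hd.symm.trans hT.he, hT.ne, hT.cm, hT.pg,
    hT.cz, hT.cd, hT.ce⟩, fun d' e' P' h' => hmax (d', e', P')
      ⟨hT.hd.trans h'.hd, hT.hd.trans h'.he, h'.ne, h'.cm, h'.pg, h'.cz, h'.cd, h'.ce⟩⟩

/-- **U1** -/
theorem cent {P : Subgroup G} (hP : IsPGroup 2 P) (hz : ∀ p ∈ P, p * z = z * p) (ht : t ∈ P) :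
    ∀ p ∈ P, p * t = t * p := by
  by_contra hn
  have hne : P ⊓ centralizer {t} ≠ P := fun e => hn fun p hp =>
    mem_centralizer_singleton_iff.1 (e.ge hp).2
  obtain ⟨u, hu, huN, huA⟩ := SylTools.exists_mem_normalizer_not_mem hP inf_le_left hne
  have h1 := (mem_normalizer_iff.1 huN t).1 ⟨ht, mem_centralizer_singleton_iff.2 rfl⟩
  have h2 := h.isolated (hz u hu) (mem_centralizer_singleton_iff.1 h1.2)
  exact huA ⟨hu, mem_centralizer_singleton_iff.2 (mul_inv_eq_iff_eq_mul.1 h2)⟩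

end U1H

end CfsgLib.SLE
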