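import Mathlib
import Cfsg.Agent.Lib.SLE.Rt

/-!
# Basic relations in an `Amb` system
-/

set_option autoImplicit false
set_option linter.unusedSectionVars false

namespace CfsgLib.SLE

open CfsgLib.RGD CfsgLib.Stein Subgroup
open scoped commutatorElement Pointwise

universe u

variable {ι κ : Type} [Fintype κ] [DecidableEq κ] [Finite ι] {Φ : RootSys ι κ} {E : ER Φ}
  {F : Type} [Field F] [Finite F] [CharP F 2] {G : Type u} [Group G] [Finite G]
  {S : StSys Φ F G}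

theorem cj_x (g : G) (r : ι) (c : F) : (cj S g).x r c = g * S.x r c * g⁻¹ := rfl

namespace BA

theorem card_F (F : Type) [Field F] [Finite F] [CharP F 2] : ∃ n, Nat.card F = 2 ^ (n + 1) := by
  have := Fintype.ofFinite F
  obtain ⟨⟨n, hn⟩, -, h⟩ := FiniteField.card F 2
  exact ⟨n - 1, by rw [Nat.card_eq_fintype_card, h, Nat.sub_add_cancel hn]; rfl⟩

theorem odd_q (F : Type) [Field F] [Finite F] [CharP F 2] : Odd (Nat.card F - 1) := by
  obtain ⟨n, h⟩ := card_F F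
  rw [h]
  exact Nat.Even.sub_odd Nat.one_le_two_pow (by simp [pow_succ]) odd_one

section Map

omit [Finite ι] [Finite F] [CharP F 2] [Finite G]

theorem norm_map (e : G ≃* G) {K : Subgroup G} {x : G} :
    e x ∈ normalizer (K.map e.toMonoidHom : Set G) ↔ x ∈ normalizer (K : Set G) := by
  have k : ∀ y, e y ∈ K.map e.toMonoidHom ↔ y ∈ K := fun _ => mem_map_iff_mem e.injective
  rw [mem_normalizer_iff, mem_normalizer_iff, e.surjective.forall]
  simp only [← map_inv, ← map_mul, k]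

theorem cent_map (e : G ≃* G) {K : Subgroup G} {x : G} :
    e x ∈ centralizer (K.map e.toMonoidHom : Set G) ↔ x ∈ centralizer (K : Set G) := by
  have k : ∀ y, e y ∈ K.map e.toMonoidHom ↔ y ∈ K := fun _ => mem_map_iff_mem e.injective
  rw [mem_centralizer_iff, mem_centralizer_iff, e.surjective.forall]
  simp only [SetLike.mem_coe, ← map_mul, k, e.injective.eq_iff]

theorem map_le (e : G ≃* G) {K K' : Subgroup G} (h : ∀ x ∈ K, e x ∈ K') : K.map e.toMonoidHom ≤ K' :=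
  map_le_iff_le_comap.2 h

theorem exists_map (e : G ≃* G) (K : Subgroup G) : ∃ K' : Subgroup G, K = K'.map e.toMonoidHom :=
  ⟨K.comap e.toMonoidHom, (map_comap_eq_self_of_surjective e.surjective K).symm⟩

variable {S' : StSys Φ F G} (e : G ≃* G) (he : ∀ r c, e (S.x r c) = S'.x r c)
include he

theorem UU_eq (T : Set ι) : S'.UU T = (S.UU T).map e.toMonoidHom := (map_UU e.toMonoidHom he T).symm

theorem mem_UU {T : Set ι} {x : G} : e x ∈ S'.UU T ↔ x ∈ S.UU T := by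
  rw [UU_eq e he]
  exact mem_map_iff_mem e.injective

theorem mem_NL {x : G} : e x ∈ NL S' ↔ x ∈ NL S := by
  rw [NL, StSys.grp, UU_eq e he]
  exact norm_map e

theorem mem_CL {x : G} : e x ∈ CL S' ↔ x ∈ CL S := by
  rw [CL, StSys.grp, UU_eq e he]
  exact cent_map e

theorem map_xprod (L : List ι) (t : ι → F) : e (S.xprod L t) = S'.xprod L t := by
  simp only [StSys.xprod, map_list_prod, List.map_map, Function.comp_def, he]

theorem amb (A : Amb E S) : Amb E S' := by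
  refine ⟨nondeg_of_map e.symm.toMonoidHom (fun r c => e.symm_apply_eq.2 (he r c).symm) A.nd,
    ⟨S'.x_add, fun a b r h u v => ?_, fun a b h u v => ?_⟩, fun r c d hc hd => ?_, ?_, fun K => ?_,
    fun T hT r hr => ?_, ?_, fun h0 d h1 h2 h3 => ?_⟩
  · simp only [← he, ← map_inv, ← map_mul, A.rel.cm a b r h]
  · simp only [← he, ← map_mul, A.rel.com a b h]
  · simp only [← map_h e.toMonoidHom he, ← map_mul, A.r3 r c d hc hd]
  · refine e.surjective.forall.2 fun g hg => ?_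
    obtain ⟨π, σ, h, l, hl, d, h1, h2⟩ := A.aut g ((mem_NL e he).1 hg)
    exact ⟨π, σ, h, e l, (mem_UU e he).2 hl, d, h1, fun r c => by simp only [← he, ← map_inv, ← map_mul, h2]⟩
  · obtain ⟨K, rfl⟩ := exists_map e K
    intro h1 h2
    refine (A.simp K (fun x hx => (mem_UU e he).1 (h1 (mem_map_of_mem _ hx)))
      fun x hx => (norm_map e).1 (h2 ((mem_UU e he).2 hx))).imp
      (fun h => map_le e fun x hx => (mem_CL e he).2 (h hx)) fun h => ?_
    rw [h, StSys.grp, StSys.grp, UU_eq e he]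
  · refine e.surjective.forall.2 fun w hw => ?_
    simp only [← he, ← map_inv, ← map_mul, mem_UU e he]
    exact A.linf T hT r hr w ((mem_UU e he).1 hw)
  · refine e.surjective.forall.2 fun l hl h1 h2 => ?_
    obtain ⟨g, hg, h⟩ := A.dc l ((mem_UU e he).1 hl) (e.injective (by rw [map_mul, h1, map_one]))
      fun h => h2 (by rw [h, map_one])
    refine ⟨e g, (mem_UU e he).2 hg, ?_⟩
    simpa only [← he, ← map_xprod e he, ← map_inv, ← map_mul, e.injective.eq_iff] using h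
  · refine e.surjective.forall.2 fun v hv h4 => ?_
    obtain ⟨P, h5, h6, h7, h8⟩ := A.lbg h0 d h1 h2 h3 v ((mem_UU e he).1 hv)
      (e.injective (by rw [map_mul, h4, map_one]))
    refine ⟨P.map e.toMonoidHom, (map_mono h5).trans ?_, h6.map _, map_le e fun x hx => ?_,
      by rwa [card_map_of_injective e.injective]⟩
    · rw [map_le_iff_le_comap, twG, closure_le]
      rintro _ ⟨r, hr, c, ⟨h, h', rfl⟩ | ⟨h, rfl⟩⟩
      · exact subset_closure ⟨r, hr, c, .inl ⟨h, h', he r c⟩⟩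
      · exact subset_closure ⟨r, hr, c, .inr ⟨h, (map_mul e _ _).trans (by rw [he, he])⟩⟩
    · rw [mem_centralizer_singleton_iff, ← map_mul, ← map_mul, mem_centralizer_singleton_iff.1 (h7 hx)]

theorem le_CL {P : Subgroup G} (h : P.map e.toMonoidHom ≤ CL S') : P ≤ CL S := fun _ hx =>
  (mem_CL e he).1 (h (mem_map_of_mem _ hx))

end Map

end BA

theorem cj_UU (g : G) (T : Set ι) : (cj S g).UU T = MulAut.conj g • S.UU T :=
  BA.UU_eq (MulAut.conj g) (fun _ _ => rfl) T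

theorem mem_cj_UU {g x : G} {T : Set ι} : x ∈ (cj S g).UU T ↔ g⁻¹ * x * g ∈ S.UU T := by
  rw [← BA.mem_UU (S' := cj S g) (MulAut.conj g) fun _ _ => rfl]
  simp [mul_assoc]

theorem cj_cj (g h : G) : cj (cj S h) g = cj S (g * h) := by
  unfold cj
  congr 1
  funext r c
  group

theorem mem_cj_NL {g x : G} : x ∈ NL (cj S g) ↔ g⁻¹ * x * g ∈ NL S := by
  rw [← BA.mem_NL (S' := cj S g) (MulAut.conj g) fun _ _ => rfl]
  simp [mul_assoc]

theorem mem_cj_CL {g x : G} : x ∈ CL (cj S g) ↔ g⁻¹ * x * g ∈ CL S := by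
  rw [← BA.mem_CL (S' := cj S g) (MulAut.conj g) fun _ _ => rfl]
  simp [mul_assoc]

theorem cj_grp_of_mem {g : G} (hg : g ∈ NL S) : (cj S g).grp = S.grp := by
  ext x
  exact mem_cj_UU.trans (mem_normalizer_iff''.1 hg x).symm

theorem Amb.cj (A : Amb E S) (g : G) : Amb E (cj S g) :=
  BA.amb (MulAut.conj g) (fun _ _ => rfl) A

theorem Sit.cj {t : G} (h : Sit E S t) (g : G) : Sit E (cj S g) (g * t * g⁻¹) := by
  refine ⟨h.amb.cj g, by rw [conj_mul, h.t2]; group, fun e => h.t1 (by simpa using e),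
    mem_cj_CL.2 (by simpa [mul_assoc] using h.tC), fun x hx => mem_cj_NL.2 (h.CN ?_), fun P h1 h2 => ?_⟩
  · rw [mem_centralizer_singleton_iff] at hx ⊢
    rw [show g⁻¹ * x * g * t = g⁻¹ * (x * (g * t * g⁻¹)) * g by group, hx]
    group
  · obtain ⟨P, rfl⟩ := BA.exists_map (MulAut.conj g) P
    have e := P.equivMapOfInjective (MulAut.conj g).toMonoidHom (MulAut.conj g).injective
    exact e.isCyclic.1 (h.cyc P (BA.le_CL (MulAut.conj g) (fun _ _ => rfl) h1) (h2.of_equiv e.symm))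

theorem Two.cj (h : Two S) (g : G) : Two (cj S g) := fun P h1 h2 => by
  obtain ⟨P, rfl⟩ := BA.exists_map (MulAut.conj g) P
  have e := P.equivMapOfInjective (MulAut.conj g).toMonoidHom (MulAut.conj g).injective
  rw [← Nat.card_congr e.toEquiv]
  exact h P (BA.le_CL (MulAut.conj g) (fun _ _ => rfl) h1) (h2.of_equiv e.symm)

theorem Exa.conj_mem {g : G} {w : Equiv.Perm ι} (h : Exa S g w) {T T' : Set ι}
    (hT : ∀ r ∈ T, w r ∈ T') {u : G} (hu : u ∈ S.UU T) : g * u * g⁻¹ ∈ S.UU T' :=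
  (S.UU_le_iff (K := (S.UU T').comap (MulAut.conj g).toMonoidHom)).2
    (fun r hr c => (h r c).symm.subst (motive := (· ∈ S.UU T')) (S.x_mem_UU (hT r hr) _)) hu

theorem StdD.conj_mem {g : G} {π : Equiv.Perm ι} {d : ι → F} {σ : F ≃+* F} (h : StdD S g π d σ)
    {T T' : Set ι} (hT : ∀ r ∈ T, π r ∈ T') {u : G} (hu : u ∈ S.UU T) :
    g * u * g⁻¹ ∈ S.UU T' :=
  (S.UU_le_iff (K := (S.UU T').comap (MulAut.conj g).toMonoidHom)).2
    (fun r hr c => (h.2 r c).symm.subst (motive := (· ∈ S.UU T')) (S.x_mem_UU (hT r hr) _)) hu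

theorem Exa.mul {g k : G} {v w : Equiv.Perm ι} (h : Exa S g v) (h' : Exa S k w) : Exa S (g * k) (v * w) :=
  fun r c => by rw [Equiv.Perm.mul_apply, ← h, ← h']; group

theorem Exa.inv {g : G} {w : Equiv.Perm ι} (h : Exa S g w) : Exa S g⁻¹ w⁻¹ := fun r c => by
  obtain ⟨r, rfl⟩ := w.surjective r
  rw [← h, Equiv.Perm.coe_inv, Equiv.symm_apply_apply]; group

theorem Exa.acts {g : G} {w : Equiv.Perm ι} (h : Exa S g w) : S.Acts g w :=
  ⟨fun _ => 1, fun _ => one_mul 1, fun r c => by rw [h, one_mul]⟩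

theorem mem_cent_UU {T : Set ι} {g : G} : g ∈ centralizer (S.UU T : Set G) ↔
    ∀ r ∈ T, ∀ c, S.x r c * g = g * S.x r c :=
  ⟨fun h _ hr c => h _ (S.x_mem_UU hr c), fun h _ hu => mem_centralizer_singleton_iff.1
    ((S.UU_le_iff (K := centralizer {g})).2 (fun r hr c => mem_centralizer_singleton_iff.2 (h r hr c)) hu)⟩

theorem Pf.conj {M : Subgroup G} (h : Pf M) (g : G) : Pf (MulAut.conj g • M) := by
  show Pf (M.map (MulAut.conj g).toMonoidHom)
  refine ⟨by rw [← map_commutator]; exact map_mono h.1, (map_mono h.2).trans ?_⟩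
  rw [MonoidHom.map_closure]
  refine closure_mono ?_
  rintro _ ⟨x, hx, rfl⟩
  exact ⟨mem_map_of_mem _ hx.1, by rw [← map_mul, hx.2, map_one]⟩

theorem Pf.sup {M M' : Subgroup G} (h : Pf M) (h' : Pf M') : Pf (M ⊔ M') :=
  ⟨sup_le (h.1.trans (commutator_mono le_sup_left le_sup_left))
    (h'.1.trans (commutator_mono le_sup_right le_sup_right)),
    sup_le (h.2.trans (closure_mono fun _ k => ⟨mem_sup_left k.1, k.2⟩))
      (h'.2.trans (closure_mono fun _ k => ⟨mem_sup_right k.1, k.2⟩))⟩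

/-- the subgroup generated by the `n_d(1)` -/
def N1 (S : StSys Φ F G) : Subgroup G := closure {g | ∃ d, g = S.n d 1}

namespace Amb

variable (A : Amb E S)
include A

theorem x_sq (r : ι) (c : F) : S.x r c * S.x r c = 1 := by
  rw [← S.x_add, CharTwo.add_self_eq_zero, S.x_zero]

theorem x_inv (r : ι) (c : F) : (S.x r c)⁻¹ = S.x r c := inv_eq_of_mul_eq_one_right (A.x_sq r c)

theorem x_eq_one {r : ι} {c : F} : S.x r c = 1 ↔ c = 0 :=
  ⟨A.nd.eq_zero_of_x_eq_one, fun h => h ▸ S.x_zero r⟩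

theorem x_inj {r s : ι} {c d : F} (hc : c ≠ 0) (h : S.x r c = S.x s d) : r = s ∧ c = d := by
  obtain rfl := A.nd.root_eq_of_x_eq hc h
  exact ⟨rfl, A.nd.x_injective r h⟩

theorem com {a b : ι} (h : 0 ≤ ip Φ a b) (u v : F) : S.x a u * S.x b v = S.x b v * S.x a u :=
  A.rel.com a b h u v

theorem conj_x {a b r : ι} (h : RAdd Φ a b r) (u v : F) :
    S.x a u * S.x b v * (S.x a u)⁻¹ = S.x b v * S.x r (u * v) := by
  rw [A.com (a := b) (b := r) (by rw [(E.radd_ip h).2.2]; norm_num), ← A.rel.cm a b r h, inv_mul_cancel_right]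

/-- the action of `n_d(c)` -/
theorem n_conj (d s : ι) {c : F} (hc : c ≠ 0) (u : F) :
    S.n d c * S.x s u * (S.n d c)⁻¹ = S.x (rf Φ d s) (c ^ (-ip Φ d s) * u) := by
  have e : ∀ y, S.n d c * y * (S.n d c)⁻¹ =
      S.x d c * (S.x (Φ.neg d) c⁻¹ * (S.x d c * y * (S.x d c)⁻¹) * (S.x (Φ.neg d) c⁻¹)⁻¹) * (S.x d c)⁻¹ := fun y => by
    rw [StSys.n, CharTwo.neg_eq]; group
  have f : ∀ {a b}, 0 ≤ ip Φ a b → ∀ u v, S.x a u * S.x b v * (S.x a u)⁻¹ = S.x b v := fun h u v => by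
    rw [A.com h, mul_inv_cancel_right]
  have k : ∀ {a k}, RAdd Φ a d k → (∀ u, S.n d c * S.x a u * (S.n d c)⁻¹ = S.x (rf Φ d a) (c ^ (-ip Φ d a) * u)) ∧
      ∀ u, S.n d c * S.x k u * (S.n d c)⁻¹ = S.x (rf Φ d k) (c ^ (-ip Φ d k) * u) := fun {a k} h => by
    obtain ⟨h1, h2, h3⟩ := E.radd_ip h
    rw [ip_comm] at h1
    refine ⟨fun u => ?_, fun u => ?_⟩
    · rw [e, A.conj_x h.symm, ← conj_mul (b := S.x (Φ.neg d) c⁻¹), f (by rw [ip_neg_left, h1]; norm_num), A.conj_x h.sub.symm,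
        inv_mul_cancel_left₀ hc, ← mul_assoc (S.x a u), A.com (by rw [h2]; norm_num), mul_assoc _ (S.x a u), A.x_sq,
        mul_one, f (by rw [h3]; norm_num), (E.rf_add h).1, h1, neg_neg, zpow_one]
    · rw [e, f (by rw [h3]; norm_num), A.conj_x h.sub.symm, ← conj_mul, f (by rw [h3]; norm_num),
        A.conj_x h.symm, mul_inv_cancel_left₀ hc, A.com (by rw [h2]; norm_num), ← mul_assoc, A.x_sq, one_mul,
        (E.rf_add h).2, h3, zpow_neg_one]
  have k1 : ∀ {a}, ip Φ d a = 1 ∨ ip Φ d a = -1 →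
      ∀ u, S.n d c * S.x a u * (S.n d c)⁻¹ = S.x (rf Φ d a) (c ^ (-ip Φ d a) * u) := fun h =>
    h.elim (fun h => (E.exists_sub h).elim fun _ h => (k h.symm).2) fun h => (E.exists_add h).elim fun _ h => (k h.symm).1
  have k2 : s = d ∨ s = Φ.neg d →
      S.n d c * S.x s u * (S.n d c)⁻¹ = S.x (rf Φ d s) (c ^ (-ip Φ d s) * u) := fun h => by
    obtain ⟨a, b, hs⟩ := E.exists_radd s
    obtain ⟨-, h2, h3⟩ := E.radd_ip hs
    have k3 : ∀ {a}, ip Φ a s = 1 → ip Φ d a = 1 ∨ ip Φ d a = -1 := fun h' => h.imp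
      (fun e => by rw [← h', e, ip_comm]) fun e => by rw [← h', e, ip_neg_right, neg_neg, ip_comm]
    rw [← mul_one u, ← A.rel.cm a b s hs, ← conj_mul, ← conj_mul, ← conj_mul, ← conj_inv, ← conj_inv, k1 (k3 h2),
      k1 (k3 h3), A.rel.cm _ _ _ (hs.apply (rf_mem d)), hs.ip_right, neg_add, zpow_add₀ hc]
    congr 1
    ring
  rcases E.ip_cases d s with h | h | h | h | h
  · exact k2 (.inl h.1)
  · exact k1 (.inl h) u
  · rw [e, f h.ge, f (by rw [ip_neg_left, h]; norm_num), f h.ge, E.rf_orth h, h, neg_zero, zpow_zero, one_mul]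
  · exact k1 (.inr h) u
  · exact k2 (.inr h.1)

theorem exa_n (d : ι) : Exa S (S.n d 1) (rf Φ d) := fun r c => by
  rw [A.n_conj d r one_ne_zero, one_zpow, one_mul]

theorem n_sq (d : ι) : S.n d 1 * S.n d 1 = 1 := by
  rw [mul_eq_one_iff_eq_inv, ← S.n_neg, CharTwo.neg_eq]

theorem h_conj (d s : ι) {c : F} (hc : c ≠ 0) (u : F) :
    S.h d c * S.x s u * (S.h d c)⁻¹ = S.x s (c ^ ip Φ d s * u) := by
  obtain ⟨s, rfl⟩ := (rf Φ d).surjective s
  rw [S.h_eq, ← A.exa_n d s u, show ∀ a b y : G, a * b⁻¹ * (b * y * b⁻¹) * (a * b⁻¹)⁻¹ = a * y * a⁻¹ by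
    intros; group, A.n_conj d s hc, ← ip_neg_left, ← ip_apply (rf_mem d), (E.rf_self d).2]

theorem hRule : HRule S := fun i s _ u hc => by rw [A.h_conj _ s hc, E.wt_eq]

theorem N1_le : N1 S ≤ S.N := le_sup_right

theorem exa_of_mem {n : G} (hn : n ∈ N1 S) : ∃ w ∈ Φ.W, Exa S n w := by
  induction hn using closure_induction with
  | mem g hg =>
    obtain ⟨d, rfl⟩ := hg
    exact ⟨_, rf_mem d, A.exa_n d⟩
  | one => exact ⟨1, one_mem _, fun _ _ => by simp⟩
  | mul a b _ _ ha hb =>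
    obtain ⟨v, hv, ha⟩ := ha
    obtain ⟨w, hw, hb⟩ := hb
    exact ⟨_, mul_mem hv hw, ha.mul hb⟩
  | inv a _ ha =>
    obtain ⟨v, hv, ha⟩ := ha
    exact ⟨_, inv_mem hv, ha.inv⟩

theorem exists_exa {w : Equiv.Perm ι} (hw : w ∈ Φ.W) : ∃ n ∈ N1 S, Exa S n w := by
  induction hw using closure_induction with
  | mem g hg =>
    obtain ⟨i, rfl⟩ := hg
    exact ⟨_, subset_closure ⟨_, rfl⟩, E.rf_simple i ▸ A.exa_n _⟩
  | one => exact ⟨1, one_mem _, fun _ _ => by simp⟩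
  | mul a b _ _ ha hb =>
    obtain ⟨v, hv, ha⟩ := ha
    obtain ⟨w, hw, hb⟩ := hb
    exact ⟨_, mul_mem hv hw, ha.mul hb⟩
  | inv a _ ha =>
    obtain ⟨v, hv, ha⟩ := ha
    exact ⟨_, inv_mem hv, ha.inv⟩

theorem H_pow {a : G} (ha : a ∈ S.H) : a ^ (Nat.card F - 1) = 1 := by
  obtain ⟨t, rfl⟩ := (A.r3.range_hHom (Finset.nodup_toList Finset.univ) (by simp)).ge ha
  rw [← map_pow, show t ^ (Nat.card F - 1) = 1 from funext fun i => ?_, map_one]
  rw [Pi.pow_apply, ← Nat.card_units, pow_card_eq_one', Pi.one_apply]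

theorem H_odd : Odd (Nat.card S.H) := by
  rw [← A.r3.range_hHom (Finset.nodup_toList Finset.univ) (by simp)]
  refine Odd.of_dvd_nat ?_ (card_range_dvd _)
  rw [Nat.card_fun, Nat.card_units]
  exact (BA.odd_q F).pow

theorem H_two (hq : Nat.card F = 2) : S.H = ⊥ :=
  eq_bot_iff.2 fun a ha => by simpa [hq] using A.H_pow ha

end Amb

end CfsgLib.SLE
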