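import Mathlib
import Cfsg.Agent.Lib.SLE.BasA
import Cfsg.Agent.Lib.Transfer.Thompson

/-!
# Basic relations in an `Amb` system
-/

set_option autoImplicit false
set_option linter.unusedSectionVars false

namespace CfsgLib.SLE

open CfsgLib.RGD CfsgLib.Stein Subgroup
open scoped commutatorElement Pointwise

universe u

variable {ι κ : Type} [Fintype κ] [DecidableEq κ] [Finite ι] {Φ : RootSys ι κ} {E : ER Φ}
  {F : Type} [Field F] [Finite F] [CharP F 2] {G : Type u} [Group G] [Finite G]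
  {S : StSys Φ F G}

theorem ER.pos_θβ (E : ER Φ) {r : ι} (h : 1 ≤ ip Φ r E.θ + ip Φ r E.β) : Φ.Pos r := by
  refine (Φ.pos_or_neg r).resolve_right fun hn => ?_
  have h1 := E.nonneg_θ (Φ.pos_neg_iff.2 hn)
  have h2 := E.nonneg_β (Φ.pos_neg_iff.2 hn) fun e => by
    rw [← Φ.neg_neg r, e, ip_neg_left, ip_neg_left, E.ip_αθ, E.ip_αβ] at h
    omega
  rw [ip_neg_left] at h1 h2
  omega

theorem Exa.conj_xprod {g : G} {w : Equiv.Perm ι} (h : Exa S g w) (L : List ι) (t : ι → F) :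
    g * S.xprod L t * g⁻¹ = S.xprod (L.map w) fun r => t (w⁻¹ r) := by
  induction L with
  | nil => simp [S.xprod_nil]
  | cons r L ih => rw [List.map_cons, S.xprod_cons, S.xprod_cons, ← conj_mul, ih, h]; simp

namespace Amb

variable (A : Amb E S)
include A

theorem Z_le_H : S.grp ⊓ CL S ≤ S.H := fun _ h => A.nd.mem_H_of_central h.1 fun g hg => (h.2 g hg).symm

theorem Z_odd : Odd (Nat.card (S.grp ⊓ CL S : Subgroup G)) :=
  A.H_odd.of_dvd_nat (card_dvd_of_le A.Z_le_H)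

theorem eq_one {g : G} (h1 : g ∈ S.grp) (h2 : g ∈ CL S) (hp : IsPGroup 2 (zpowers g)) : g = 1 :=
  UFP.eq_one_of_odd hp (mem_zpowers g) (BA.odd_q F) (A.H_pow (A.Z_le_H ⟨h1, h2⟩))

theorem pg_U : IsPGroup 2 S.U := St.isPGroup_U A.nd 2

theorem card_U : Nat.card S.U = Nat.card F ^ NP Φ := A.nd.card_U

theorem odd_relIndex : Odd (S.U.relIndex S.grp) := by
  rw [← StSys.P_univ, ← Nat.not_even_iff_odd, even_iff_two_dvd]
  exact St.not_dvd_relIndex_U A.nd 2 A.H_odd.not_two_dvd_nat _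

theorem syl_U : Tech.IsSylowIn 2 S.U S.grp := ⟨S.U_le_grp, A.pg_U, A.odd_relIndex.not_two_dvd_nat⟩

/-- `U` is a Sylow subgroup -/
theorem le_U {P : Subgroup G} (hP : IsPGroup 2 P) (h1 : P ≤ S.grp) (h2 : S.U ≤ P) : P ≤ S.U :=
  (A.syl_U.eq_of_le hP h2 h1).le

theorem exists_conj_U {P : Subgroup G} (hP : IsPGroup 2 P) (h1 : P ≤ S.grp) :
    ∃ l ∈ S.grp, ∀ p ∈ P, l * p * l⁻¹ ∈ S.U :=
  (A.syl_U.exists_cj_le hP h1).imp fun _ h => ⟨h.1, Tech.cj_le_iff.1 h.2⟩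

theorem card_le_U {P : Subgroup G} (hP : IsPGroup 2 P) (h1 : P ≤ S.grp) :
    Nat.card P ≤ Nat.card F ^ NP Φ := A.card_U ▸ A.syl_U.card_le hP h1

/-- a 2-subgroup of full order is a conjugate of `U` -/
theorem eq_cj_U {P : Subgroup G} (hP : IsPGroup 2 P) (h1 : P ≤ S.grp)
    (h2 : Nat.card F ^ NP Φ ≤ Nat.card P) : ∃ l ∈ S.grp, P = (SLE.cj S l).U := by
  obtain ⟨l, hl, e⟩ := A.syl_U.exists_cj_eq (A.syl_U.of_card_le hP h1 (A.card_U ▸ h2))
  refine ⟨l, hl, ext fun x => ?_⟩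
  rw [← e, Tech.mem_cj]
  exact mem_cj_UU.symm

theorem pg_Q (r : ι) : IsPGroup 2 (Q S r) := by
  obtain ⟨w, hw, rfl⟩ := E.exists_θ r
  obtain ⟨n, -, h⟩ := A.exists_exa hw
  refine (Tech.isPGroup_cj n A.pg_U).to_le fun u hu => Tech.mem_cj.2 ?_
  simpa only [inv_inv, StSys.U] using h.inv.conj_mem (T' := {r | Φ.Pos r}) (fun s hs => E.pos_of_θ (by
    rw [← ip_apply hw]; simpa using hs)) hu

theorem pg_R2 : IsPGroup 2 (R2 S E.θ E.β) :=
  A.pg_U.to_le (S.UU_le_U fun _ h => E.pos_θβ h.2.2)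

theorem U_le_Y : S.U ≤ Y S E.θ := S.UU_mono fun _ h => E.nonneg_θ h

theorem Q_le_U : Q S E.θ ≤ S.U := S.UU_le_U fun _ h => E.pos_of_θ h

theorem Y_le_cent (r : ι) : Y S r ≤ centralizer (S.X r : Set G) :=
  S.UU_le_iff.2 fun _ hs c => mem_cent_UU.2 fun _ e d => (e ▸ A.com hs c d :).symm

theorem Y_norm_Q (r : ι) : Y S r ≤ normalizer (Q S r : Set G) :=
  S.UU_le_normalizer fun a (ha : 0 ≤ ip Φ a r) s (hs : 1 ≤ ip Φ s r) => by
    have h : s ≠ Φ.neg a := fun e => by rw [e, ip_neg_left] at hs; omega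
    refine ⟨h, fun k hk => show 1 ≤ ip Φ k r from ?_⟩
    rw [((E.isSum_iff h).1 hk).ip_left]
    omega

theorem Y2_norm_R2 : Y2 S E.θ E.β ≤ normalizer (R2 S E.θ E.β : Set G) :=
  S.UU_le_normalizer fun a ⟨h1, h2⟩ s ⟨h3, h4, h5⟩ => by
    have h : s ≠ Φ.neg a := fun e => by rw [e, ip_neg_left, ip_neg_left] at h5; omega
    refine ⟨h, fun k hk => show 0 ≤ ip Φ k E.θ ∧ 0 ≤ ip Φ k E.β ∧ 1 ≤ ip Φ k E.θ + ip Φ k E.β from ?_⟩
    rw [((E.isSum_iff h).1 hk).ip_left, ((E.isSum_iff h).1 hk).ip_left]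
    omega

/-- all root involutions are conjugate -/
theorem exists_conj_x (r : ι) {c : F} (hc : c ≠ 0) :
    ∃ l ∈ S.N, l * S.x E.θ 1 * l⁻¹ = S.x r c ∧ ∃ w ∈ Φ.W, w E.θ = r ∧ S.Acts l w := by
  obtain ⟨w, hw, e⟩ := E.exists_θ r
  obtain ⟨n, hn, h⟩ := A.exists_exa hw
  obtain ⟨a, b, h1⟩ := E.exists_radd r
  refine ⟨S.h a c * n, mul_mem (S.H_le_N (S.h_mem_H a hc)) (A.N1_le hn), ?_, w, hw, e,
    by simpa only [one_mul] using (S.acts_h a hc).mul h.acts hw⟩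
  rw [show ∀ x y z : G, x * y * z * (x * y)⁻¹ = x * (y * z * y⁻¹) * x⁻¹ by intros; group, h, e, A.h_conj a r hc,
    (E.radd_ip h1).2.1, zpow_one, mul_one]

theorem n_mem_Y {r d : ι} (h : ip Φ d r = 0) (c : F) : S.n d c ∈ Y S r :=
  S.n_mem_UU h.ge (show 0 ≤ ip Φ (Φ.neg d) r by rw [ip_neg_left, h, neg_zero]) c

theorem h_mem_Y {r d : ι} (h : ip Φ d r = 0) (c : F) : S.h d c ∈ Y S r := mul_mem (A.n_mem_Y h _) (A.n_mem_Y h _)

theorem exists_H_eq {a : G} (ha : a ∈ S.H) : ∃ c, c ≠ 0 ∧ ∃ y ∈ S.H ⊓ Y S E.θ, a = S.h E.α c * y := by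
  obtain ⟨t, rfl⟩ := (A.r3.range_hHom (Finset.nodup_toList Finset.univ) (by simp)).ge ha
  refine ⟨t E.i₀, (t E.i₀).ne_zero, hprod S Finset.univ.toList (Function.update t E.i₀ 1),
    ⟨hprod_mem_H S _ _, list_prod_mem ?_⟩, ?_⟩
  · simp only [List.mem_map]
    rintro _ ⟨i, -, rfl⟩
    by_cases h : i = E.i₀
    · rw [h, Function.update_self, Units.val_one, S.h_one]
      exact one_mem _
    · exact A.h_mem_Y (by rw [E.top, if_neg h]) _
  · rw [ER.α, ← hprod_mulSingle S (Finset.nodup_toList Finset.univ) (by simp), ← A.r3.hprod_mul]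
    show hprod S _ t = _
    congr 1
    funext i
    by_cases h : i = E.i₀
    · simp [h]
    · simp [h]

theorem cent_θ {g : G} (hg : g ∈ S.grp) (h : g ∈ centralizer {S.x E.θ 1}) : g ∈ Y S E.θ := by
  have k : Y S E.θ ≤ centralizer {S.x E.θ 1} :=
    (A.Y_le_cent _).trans (centralizer_le (Set.singleton_subset_iff.2 (S.x_mem_X _ _)))
  obtain ⟨u, hu, n, hn, w, hw, ha, u', hu', rfl⟩ := A.nd.exists_bruhat hg
  have h1 := A.U_le_Y hu
  have h2 := A.U_le_Y (S.UU_le_U (fun _ h => h.1) hu')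
  rw [mul_mem_cancel_right (k h2), mul_mem_cancel_left (k h1)] at h
  refine mul_mem (mul_mem h1 ?_) h2
  obtain ⟨l, -, e⟩ := ha.exists_conj_x E.θ
  have h3 : w E.θ = E.θ := (A.x_inj one_ne_zero (by
    rw [← e, mem_centralizer_singleton_iff.1 h, mul_inv_cancel_right])).1.symm
  have h4 : w ∈ Φ.WJ {i | i ≠ E.i₀} := Φ.mem_WJ_of_Inv hw fun r hr => (E.orth_θ_iff r).1 (by
    have h5 := E.nonneg_θ hr.1
    have h6 := E.nonneg_θ (Φ.pos_neg_iff.2 hr.2)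
    rw [ip_neg_left, ← h3, ip_apply hw] at h6
    omega)
  obtain ⟨a, ha', L, hL, rfl⟩ := S.mem_NJ_iff.1 (A.nd.mem_NJ_of_acts hn h4 ha)
  have h5 : S.nprod L ∈ Y S E.θ := list_prod_mem (by
    simp only [List.mem_map]
    rintro _ ⟨i, hi, rfl⟩
    exact A.n_mem_Y (by rw [E.top, if_neg (hL i hi)]) _)
  obtain ⟨c, hc, y, hy, rfl⟩ := A.exists_H_eq ha'
  rw [mul_mem_cancel_right (k h5), mul_mem_cancel_right (k hy.2), mem_centralizer_singleton_iff,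
    ← mul_inv_eq_iff_eq_mul, A.h_conj _ _ hc, E.ip_αθ, zpow_one, mul_one] at h
  rw [A.nd.x_injective _ h, S.h_one, one_mul]
  exact mul_mem hy.2 h5

theorem cent_x (r : ι) {c : F} (hc : c ≠ 0) : S.grp ⊓ centralizer {S.x r c} = Y S r := by
  refine le_antisymm (fun g hg => ?_) (le_inf (S.UU_le_grp _)
    ((A.Y_le_cent _).trans (centralizer_le (Set.singleton_subset_iff.2 (S.x_mem_X _ _)))))
  obtain ⟨l, hl, e, w, hw, e', ha⟩ := A.exists_conj_x r hc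
  have h1 := A.cent_θ (mul_mem (mul_mem (inv_mem (S.N_le_grp hl)) hg.1) (S.N_le_grp hl)) (by
    rw [mem_centralizer_singleton_iff, show l⁻¹ * g * l * S.x E.θ 1 = l⁻¹ * (g * (l * S.x E.θ 1 * l⁻¹)) * l by group,
      e, mem_centralizer_singleton_iff.1 hg.2, ← e]
    group)
  simpa [mul_assoc, Y] using ha.conj_mem_UU (Ψ' := {s | 0 ≤ ip Φ s r})
    (fun s hs => show 0 ≤ ip Φ (w s) r by rwa [← e', ip_apply hw]) h1

theorem pf_UU {T : Set ι} (h : ∀ d ∈ T, ∃ a ∈ T, ∃ b ∈ T, RAdd Φ a b d) : Pf (S.UU T) := by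
  refine ⟨S.UU_le_iff.2 fun d hd c => ?_, S.UU_le_iff.2 fun d hd c => subset_closure ⟨S.x_mem_UU hd c, A.x_sq d c⟩⟩
  obtain ⟨a, ha, b, hb, e⟩ := h d hd
  rw [← mul_one c, ← A.rel.cm a b d e]
  exact commutator_mem_commutator (S.x_mem_UU ha c) (S.x_mem_UU hb 1)

theorem pf_grp : Pf S.grp :=
  A.pf_UU fun d _ => (E.exists_radd d).elim fun a h => h.elim fun b h => ⟨a, trivial, b, trivial, h⟩

theorem pf_Y (r : ι) : Pf (Y S r) := by
  obtain ⟨w, hw, rfl⟩ := E.exists_θ r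
  refine A.pf_UU (w.surjective.forall.2 fun d hd => ?_)
  obtain ⟨a, b, ha, hb, h⟩ := E.dec1 d (ip_apply hw d _ ▸ hd)
  exact ⟨w a, (ip_apply hw a _).ge.trans' ha, w b, (ip_apply hw b _).ge.trans' hb, h.apply hw⟩

theorem pf_Y2 : Pf (Y2 S E.θ E.β) := A.pf_UU fun d hd => by
  obtain ⟨a, b, h1, h2, h3, h4, h⟩ := E.dec2 d hd.1 hd.2
  exact ⟨a, ⟨h1, h2⟩, b, ⟨h3, h4⟩, h⟩

/-- uniqueness of products of root elements which pair positively with two (possibly equal) roots -/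
theorem xprod_inj' {a b : ι} (hab : 0 ≤ ip Φ a b) {L : List ι} (hL : L.Nodup)
    (h : ∀ r ∈ L, 1 ≤ ip Φ r a + ip Φ r b) {t t' : ι → F} (e : S.xprod L t = S.xprod L t') :
    ∀ r ∈ L, t r = t' r := by
  obtain ⟨w, hw, k⟩ : ∃ w ∈ Φ.W, ∀ r, 1 ≤ ip Φ r (w a) + ip Φ r (w b) → Φ.Pos r := by
    rcases E.ip_cases a b with h1 | h1 | h1 | h1 | h1
    · obtain ⟨w, hw, e1, e2⟩ := E.ptrans (h1.2.trans (E.ip_self E.θ).symm)
      exact ⟨w, hw, fun r hr => E.pos_of_θ (by rw [e1, e2] at hr; omega)⟩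
    · obtain ⟨w, hw, e1, e2⟩ := E.ptrans (h1.trans E.ip_βθ.symm)
      exact ⟨w, hw, fun r hr => E.pos_θβ (by rwa [e1, e2, add_comm] at hr)⟩
    · obtain ⟨w, hw, e1, e2⟩ := E.ptrans (h1.trans E.ort.symm)
      exact ⟨w, hw, fun r hr => E.idl_orth.1 r (by rwa [e1, e2] at hr)⟩
    · omega
    · omega
  obtain ⟨n, -, hn⟩ := A.exists_exa hw
  intro r hr
  have := A.nd.xprod_inj (hL.map w.injective) (by
    simp only [List.mem_map]
    rintro _ ⟨r, hr, rfl⟩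
    exact k _ (by rw [ip_apply hw, ip_apply hw]; exact h r hr))
    ((hn.conj_xprod L t).symm.trans (by rw [e, hn.conj_xprod L t'])) (w r) (List.mem_map_of_mem hr)
  simpa using this

end Amb

namespace Sit

variable {t : G} (h : Sit E S t)
include h

theorem t_not_mem : t ∉ S.grp := fun e => h.t1 (h.amb.eq_one e h.tC (UFP.pgroup_zpowers_of_sq h.t2))

theorem com {l : G} (hl : l ∈ S.grp) : l * t = t * l := h.tC l hl

theorem eq_of_two {P : Subgroup G} (hP : IsPGroup 2 P) {a b : G} (ha : a ∈ P) (hb : b ∈ P)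
    (ha' : a ∈ CL S) (hb' : b ∈ CL S) (a2 : a * a = 1) (b2 : b * b = 1) (a1 : a ≠ 1) (b1 : b ≠ 1) :
    a = b :=
  Transfer.eq_of_orderOf_eq_two_of_isCyclic (h.cyc (P ⊓ CL S) inf_le_right hP.to_inf_left) ⟨ha, ha'⟩ ⟨hb, hb'⟩
    (orderOf_eq_prime ((pow_two a).trans a2) a1) (orderOf_eq_prime ((pow_two b).trans b2) b1)

theorem pg_sup {c : G} (hc : IsPGroup 2 (zpowers c)) (ct : c * t = t * c) :
    IsPGroup 2 (zpowers t ⊔ zpowers c : Subgroup G) :=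
  (UFP.pgroup_zpowers_of_sq h.t2).to_sup_of_normal_left' hc (zpowers_le.2 (centralizer_le_normalizer _ (by
    rw [zpowers_eq_closure, centralizer_closure]
    exact mem_centralizer_singleton_iff.2 ct)))

theorem eq_t {c : G} (hc : c ∈ CL S) (c2 : c * c = 1) (ct : c * t = t * c) : c = 1 ∨ c = t :=
  or_iff_not_imp_left.2 fun c1 => h.eq_of_two (h.pg_sup (UFP.pgroup_zpowers_of_sq c2) ct)
    (mem_sup_right (mem_zpowers c)) (mem_sup_left (mem_zpowers t)) hc h.tC c2 h.t2 c1 h.t1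

theorem two_of (hs : ∀ c ∈ CL S, c * c ≠ t) : Two S := fun P h1 h2 => by
  obtain ⟨T, hT, ht⟩ := Tech.exists_isSylowIn_ge (UFP.pgroup_zpowers_of_sq h.t2) (zpowers_le.2 h.tC)
  refine (hT.card_le h2 h1).trans ?_
  obtain ⟨g, rfl⟩ := Frob.exists_zpowers_eq_of_isCyclic (h.cyc T hT.le hT.pgroup)
  obtain ⟨k, hk⟩ := Tech.isPGroup_zpowers_iff.1 hT.pgroup
  rw [Nat.card_zpowers, hk]
  match k with
  | 0 => norm_num
  | 1 => norm_num
  | k + 2 =>
    have m : ∀ n : ℕ, g ^ n ∈ zpowers g := fun n => pow_mem (mem_zpowers g) n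
    refine absurd (h.eq_of_two hT.pgroup (mul_mem (m _) (m _)) (ht (mem_zpowers t))
      (hT.le (mul_mem (m _) (m _))) h.tC ?_ h.t2 ?_ h.t1) (hs (g ^ 2 ^ k) (hT.le (m _)))
    · rw [← pow_add, ← pow_add, ← pow_orderOf_eq_one g, hk]
      congr 1
      ring
    · rw [← pow_add]
      exact pow_ne_one_of_lt_orderOf (by positivity) (by have := Nat.two_pow_pos k; rw [hk, pow_add]; omega)

theorem odd_or (h2 : Two S) {c : G} (hc : c ∈ CL S) (ct : c * t = t * c) :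
    Odd (orderOf c) ∨ Odd (orderOf (c * t)) := by
  obtain ⟨m, hm, hp⟩ := UFP.exists_two_pow c
  have h1 := h.pg_sup hp (Commute.pow_left ct m)
  have h3 : zpowers t = zpowers t ⊔ zpowers (c ^ m) := eq_of_le_of_card_ge le_sup_left (by
    rw [Nat.card_zpowers, orderOf_eq_prime ((pow_two t).trans h.t2) h.t1]
    exact h2 _ (sup_le (zpowers_le.2 h.tC) (zpowers_le.2 (pow_mem hc m))) h1)
  obtain ⟨k, hk⟩ := mem_zpowers_iff.1 (h3.ge (mem_sup_right (mem_zpowers _)))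
  have h4 : c ^ m * c ^ m = 1 := by rw [← hk, ← Commute.mul_zpow rfl, h.t2, one_zpow]
  refine (h.eq_t (pow_mem hc m) h4 (Commute.pow_left ct m)).imp
    (fun e => hm.of_dvd_nat (orderOf_dvd_of_pow_eq_one e)) fun e => hm.of_dvd_nat (orderOf_dvd_of_pow_eq_one ?_)
  obtain ⟨j, rfl⟩ := hm
  rw [Commute.mul_pow ct, e, pow_succ, pow_mul, pow_two, h.t2, one_pow, one_mul, h.t2]

end Sit

end CfsgLib.SLE
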