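import Mathlib
import Cfsg.Agent.Lib.RGD.Coef
import Cfsg.Agent.Lib.RGD.Levi
import Cfsg.Agent.Lib.SLE.Bas
import Cfsg.Agent.Lib.SLE.AutF

/-!
# The normaliser of `L`
-/

set_option autoImplicit false

namespace CfsgLib.SLE

open CfsgLib.RGD CfsgLib.Stein Subgroup
open scoped commutatorElement Pointwise

universe u

variable {ι κ : Type} [Fintype κ] [DecidableEq κ] [Finite ι] {Φ : RootSys ι κ} {E : ER Φ}
  {F : Type} [Field F] [Finite F] [CharP F 2] {G : Type u} [Group G] [Finite G]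
  {S : StSys Φ F G}

section Std

variable {g g' : G} {π π' : Equiv.Perm ι} {d d' : ι → F} {σ σ' : F ≃+* F}

theorem StdD.ne_zero (h : StdD S g π d σ) (r : ι) : d r ≠ 0 := left_ne_zero_of_mul_eq_one (h.1 r)

theorem StdD.mem_NL (h : StdD S g π d σ) : g ∈ NL S := mem_normalizer_fintype fun _ hn =>
  h.conj_mem (T := Set.univ) (T' := Set.univ) (fun _ _ => trivial) hn

theorem StdD.mul (h : StdD S g π d σ) (h' : StdD S g' π' d' σ')
    (hn : ∀ r, π' (Φ.neg r) = Φ.neg (π' r)) :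
    StdD S (g * g') (π * π') (fun r => d (π' r) * σ (d' r)) (σ * σ') := by
  refine ⟨fun r => ?_, fun r c => ?_⟩
  · have e1 := h.1 (π' r)
    have e2 : σ (d' r) * σ (d' (Φ.neg r)) = 1 := by rw [← map_mul, h'.1, map_one]
    simp only [hn]
    linear_combination (σ (d' r) * σ (d' (Φ.neg r))) * e1 + e2
  · have e : g * g' * S.x r c * (g * g')⁻¹ = g * (g' * S.x r c * g'⁻¹) * g⁻¹ := by group
    rw [e, h'.2, h.2, map_mul, ← mul_assoc]
    rfl

theorem Std.mul (h : Std S g π σ) (h' : Std S g' π' σ') (hn : ∀ r, π' (Φ.neg r) = Φ.neg (π' r)) :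
    Std S (g * g') (π * π') (σ * σ') := by
  obtain ⟨d, h⟩ := h
  obtain ⟨d', h'⟩ := h'
  exact ⟨_, h.mul h' hn⟩

theorem aa_neg_inv (hn : ∀ r, π (Φ.neg r) = Φ.neg (π r)) (r : ι) :
    π⁻¹ (Φ.neg r) = Φ.neg (π⁻¹ r) := by
  apply π.injective
  rw [hn]
  simp

theorem StdD.inv (h : StdD S g π d σ) (hn : ∀ r, π (Φ.neg r) = Φ.neg (π r)) :
    StdD S g⁻¹ π⁻¹ (fun r => σ⁻¹ (d (π⁻¹ r))⁻¹) σ⁻¹ := by
  refine ⟨fun r => ?_, fun r c => ?_⟩
  · rw [← map_mul, ← mul_inv, aa_neg_inv hn, h.1, inv_one, map_one]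
  · have e := h.2 (π⁻¹ r) (σ⁻¹ (d (π⁻¹ r))⁻¹ * σ⁻¹ c)
    have e2 : d (π⁻¹ r) * σ (σ⁻¹ (d (π⁻¹ r))⁻¹ * σ⁻¹ c) = c := by
      rw [← map_mul, RingAut.inv_apply, RingEquiv.apply_symm_apply,
        mul_inv_cancel_left₀ (h.ne_zero _)]
    rw [e2, show π (π⁻¹ r) = r by simp] at e
    rw [← e]
    group

theorem Std.inv (h : Std S g π σ) (hn : ∀ r, π (Φ.neg r) = Φ.neg (π r)) :
    Std S g⁻¹ π⁻¹ σ⁻¹ := by
  obtain ⟨d, h⟩ := h
  exact ⟨_, h.inv hn⟩

theorem Std.typ (h : Std S g π σ) : Typ S g π σ := ⟨1, one_mem _, by rwa [one_mul]⟩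

theorem Std.mem_NL (h : Std S g π σ) : g ∈ NL S := h.choose_spec.mem_NL

theorem aa_conj_grp (hg : g ∈ NL S) {l : G} (hl : l ∈ S.grp) : g * l * g⁻¹ ∈ S.grp :=
  (mem_normalizer_iff.1 hg l).1 hl

theorem aa_conj_grp' (hg : g ∈ NL S) {l : G} (hl : l ∈ S.grp) : g⁻¹ * l * g ∈ S.grp := by
  simpa using aa_conj_grp (inv_mem hg) hl

theorem aa_grp_le : S.grp ≤ NL S := le_normalizer

theorem aa_CL_le : CL S ≤ NL S := centralizer_le_normalizer _

theorem aa_CL_comm {c l : G} (hc : c ∈ CL S) (hl : l ∈ S.grp) : l * c = c * l :=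
  mem_centralizer_iff.1 hc l hl

theorem aa_mem_CL (h : ∀ r c, g * S.x r c * g⁻¹ = S.x r c) : g ∈ CL S :=
  mem_cent_UU.2 fun r _ c => by rw [← mul_inv_eq_iff_eq_mul.1 (h r c)]

theorem aa_conj_CL (hg : g ∈ NL S) {c : G} (hc : c ∈ CL S) : g * c * g⁻¹ ∈ CL S := by
  refine mem_centralizer_iff.2 fun l hl => ?_
  have := aa_CL_comm hc (aa_conj_grp' hg hl)
  calc l * (g * c * g⁻¹) = g * (g⁻¹ * l * g * c) * g⁻¹ := by group
    _ = g * c * g⁻¹ * l := by rw [this]; group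

theorem aa_exists_mul (h : g ∈ S.grp ⊔ CL S) : ∃ l ∈ S.grp, ∃ c ∈ CL S, g = l * c := by
  have e := coe_mul_of_right_le_normalizer_left S.grp (CL S) aa_CL_le
  have : g ∈ ((S.grp ⊔ CL S : Subgroup G) : Set G) := h
  rw [e] at this
  obtain ⟨l, hl, c, hc, rfl⟩ := this
  exact ⟨l, hl, c, hc, rfl⟩

theorem Typ.mem_NL (h : Typ S g π σ) : g ∈ NL S := by
  obtain ⟨l, hl, h⟩ := h
  simpa using mul_mem (inv_mem (aa_grp_le hl)) h.mem_NL

theorem std_of_mem_CL (h : g ∈ CL S) : StdD S g 1 (fun _ => 1) 1 := by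
  refine ⟨fun _ => one_mul _, fun r c => ?_⟩
  rw [← aa_CL_comm h (S.x_mem_grp r c), mul_inv_cancel_right, one_mul]
  rfl

theorem std_of_mem_H (h : g ∈ S.H) : Std S g 1 1 := by
  obtain ⟨l, h1, h2⟩ := S.acts_of_mem_H h
  exact ⟨l, h1, h2⟩

theorem typ_of_mem (h : g ∈ S.grp ⊔ CL S) : Typ S g 1 1 := by
  obtain ⟨l, hl, c, hc, rfl⟩ := aa_exists_mul h
  exact ⟨l⁻¹, inv_mem hl, _, by simpa using std_of_mem_CL hc⟩

theorem Typ.mul (h : Typ S g π σ) (h' : Typ S g' π' σ') (hn : ∀ r, π' (Φ.neg r) = Φ.neg (π' r)) :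
    Typ S (g * g') (π * π') (σ * σ') := by
  have hg := h.mem_NL
  obtain ⟨l, hl, h⟩ := h
  obtain ⟨l', hl', h'⟩ := h'
  refine ⟨l * (g * l' * g⁻¹), mul_mem hl (aa_conj_grp hg hl'), ?_⟩
  have e : l * (g * l' * g⁻¹) * (g * g') = l * g * (l' * g') := by group
  rw [e]
  exact h.mul h' hn

theorem Typ.inv (h : Typ S g π σ) (hn : ∀ r, π (Φ.neg r) = Φ.neg (π r)) :
    Typ S g⁻¹ π⁻¹ σ⁻¹ := by
  have hg := h.mem_NL
  obtain ⟨l, hl, h⟩ := h
  refine ⟨g⁻¹ * l⁻¹ * g, aa_conj_grp' hg (inv_mem hl), ?_⟩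
  have e : g⁻¹ * l⁻¹ * g * g⁻¹ = (l * g)⁻¹ := by group
  rw [e]
  exact h.inv hn

theorem Typ.conj (h : Typ S g π σ) (hn : ∀ r, π (Φ.neg r) = Φ.neg (π r)) {l : G}
    (hl : l ∈ S.grp) : Typ S (l * g * l⁻¹) π σ := by
  have hg := h.mem_NL
  have _ := hn
  obtain ⟨m, hm, h⟩ := h
  refine ⟨m * (g * l * g⁻¹) * l⁻¹, mul_mem (mul_mem hm (aa_conj_grp hg hl)) (inv_mem hl), ?_⟩
  have e : m * (g * l * g⁻¹) * l⁻¹ * (l * g * l⁻¹) = m * g := by group
  rwa [e]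

theorem Typ.cj (h : Typ S g π σ) (a : G) : Typ (cj S a) (a * g * a⁻¹) π σ := by
  obtain ⟨m, hm, d, h1, h2⟩ := h
  refine ⟨a * m * a⁻¹, mem_cj_UU.2 (by simpa [mul_assoc, StSys.grp] using hm), d, h1, fun r c => ?_⟩
  rw [cj_x, cj_x, ← h2]
  group

/-- the type does not depend on the choice of the Sylow subgroup -/
theorem typ_cj_iff (hn : ∀ r, π (Φ.neg r) = Φ.neg (π r)) {l : G} (hl : l ∈ S.grp) :
    Typ (cj S l) g π σ ↔ Typ S g π σ := by
  constructor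
  · rintro ⟨m, hm, d, h1, h2⟩
    rw [cj_grp_of_mem (aa_grp_le hl)] at hm
    have h3 : StdD S (l⁻¹ * (m * g) * l) π d σ := by
      refine ⟨h1, fun r c => ?_⟩
      have := h2 r c
      rw [cj_x, cj_x] at this
      calc l⁻¹ * (m * g) * l * S.x r c * (l⁻¹ * (m * g) * l)⁻¹
          = l⁻¹ * (m * g * (l * S.x r c * l⁻¹) * (m * g)⁻¹) * l := by group
        _ = _ := by rw [this]; group
    have hg : g ∈ NL S := by
      have := mul_mem (inv_mem (aa_grp_le hm))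
        (mul_mem (mul_mem (aa_grp_le hl) h3.mem_NL) (inv_mem (aa_grp_le hl)))
      simpa [mul_assoc] using this
    refine ⟨l⁻¹ * m * (g * l * g⁻¹), mul_mem (mul_mem (inv_mem hl) hm) (aa_conj_grp hg hl), d, ?_⟩
    have e : l⁻¹ * m * (g * l * g⁻¹) * g = l⁻¹ * (m * g) * l := by group
    rwa [e]
  · intro h
    have := (h.conj hn (inv_mem hl)).cj l
    simpa [mul_assoc] using this

end Std

/-- the elements inducing inner-diagonal automorphisms -/
def N0 (S : StSys Φ F G) : Subgroup G where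
  carrier := {g | Typ S g 1 1}
  one_mem' := typ_of_mem (one_mem _)
  mul_mem' h h' := by simpa using Typ.mul h h' fun _ => rfl
  inv_mem' h := by simpa using Typ.inv h fun _ => rfl

theorem mem_N0 {g : G} : g ∈ N0 S ↔ Typ S g 1 1 := Iff.rfl

theorem N0_le : N0 S ≤ NL S := fun _ h => Typ.mem_NL h

theorem le_N0 : S.grp ⊔ CL S ≤ N0 S := fun _ h => typ_of_mem h

theorem aa_gp_mul {π π' : Equiv.Perm ι} (h : π = 1 ∨ π = E.γ) (h' : π' = 1 ∨ π' = E.γ) :
    π * π' = 1 ∨ π * π' = E.γ := by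
  rcases h with rfl | rfl <;> rcases h' with rfl | rfl <;> simp [E.γ_mul]

theorem aa_gp_inv {π : Equiv.Perm ι} (h : π = 1 ∨ π = E.γ) : π⁻¹ = π := by
  rcases h with rfl | rfl
  · simp
  · exact inv_eq_of_mul_eq_one_right E.γ_mul

theorem aa_gp_sq {π : Equiv.Perm ι} (h : π = 1 ∨ π = E.γ) : π * π = 1 := by
  rcases h with rfl | rfl
  · simp
  · exact E.γ_mul

theorem aa_gp_comm {π π' : Equiv.Perm ι} (h : π = 1 ∨ π = E.γ) (h' : π' = 1 ∨ π' = E.γ) :
    π * π' = π' * π := by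
  rcases h with rfl | rfl <;> rcases h' with rfl | rfl <;> simp

namespace Amb

variable (A : Amb E S) {g : G} {π π' : Equiv.Perm ι} {d : ι → F} {σ σ' : F ≃+* F}
include A

theorem d_add' (h : StdD S g π d σ) {a b r : ι} (hr : RAdd Φ a b r)
    (hr' : RAdd Φ (π a) (π b) (π r)) : d r = d a * d b := by
  have e1 := A.rel.cm a b r hr 1 1
  have e2 := A.rel.cm _ _ _ hr' (d a * σ 1) (d b * σ 1)
  rw [← h.2, ← h.2] at e2
  have e3 := h.2 r (1 * 1)
  rw [← e1] at e3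
  have e4 : S.x (π r) (d r * σ (1 * 1)) = S.x (π r) (d a * σ 1 * (d b * σ 1)) := by
    rw [← e3, ← e2]
    group
  simpa using A.nd.x_injective _ e4

theorem d_add (h : StdD S g π d σ) (hπ : E.Gp π) {a b r : ι} (hr : RAdd Φ a b r) :
    d r = d a * d b := A.d_add' h hr (hπ.add _ _ _ hr)

theorem std_norm {T : Set ι} (h : Std S g π σ) (hT : ∀ r ∈ T, π r ∈ T) :
    g ∈ normalizer (S.UU T : Set G) := by
  have _ := A
  obtain ⟨d, h⟩ := h
  exact mem_normalizer_fintype fun _ hn => h.conj_mem hT hn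

/-- a standard element which is trivial on a generating set of root elements -/
theorem d_eq_one (h : StdD S g 1 d σ) {T : Set ι} (hT : Gen Φ T) (h1 : ∀ r ∈ T, d r = 1) (r : ι) :
    d r = 1 := by
  refine hT {r | d r = 1} h1 (fun r hr => ?_) (fun a ha b hb k hk => ?_) r
  · have := h.1 r
    rw [show d r = 1 from hr, one_mul] at this
    exact this
  · show d k = 1
    rw [A.d_add' h hk hk, show d a = 1 from ha, show d b = 1 from hb, one_mul]

omit A in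
theorem std_conj_n (h : StdD S g π d σ) (hn : ∀ r, π (Φ.neg r) = Φ.neg (π r)) (r : ι) (c : F) :
    g * S.n r c * g⁻¹ = S.n (π r) (d r * σ c) := by
  have e : d (Φ.neg r) * σ (-c⁻¹) = -(d r * σ c)⁻¹ := by
    rw [map_neg, map_inv₀, mul_inv, eq_inv_of_mul_eq_one_right (h.1 r), mul_neg]
  rw [StSys.n, StSys.n, ← e, ← hn, ← h.2, ← h.2]
  group

theorem std_conj_h (h : Std S g π σ) (hπ : E.Gp π) (r : ι) {c : F} (hc : c ≠ 0) :
    g * S.h r c * g⁻¹ = S.h (π r) (σ c) := by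
  obtain ⟨d, h⟩ := h
  have e : g * S.h r c * g⁻¹ = g * S.n r c * g⁻¹ * (g * S.n r 1 * g⁻¹)⁻¹ := by
    rw [S.h_eq]; group
  have hσ : σ c ≠ 0 := by simpa using hc
  rw [e, std_conj_n h hπ.neg, std_conj_n h hπ.neg, S.n_eq _ (d r * σ c), S.n_eq _ (d r * σ 1),
    map_one, mul_one, mul_comm (d r), ← A.r3 _ _ _ hσ (h.ne_zero r)]
  group

/-- a standard element of `U` has trivial type -/
theorem std_U (h : StdD S g π d σ) (hn : ∀ r, π (Φ.neg r) = Φ.neg (π r))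
    (ha : ∀ a b k, RAdd Φ a b k → RAdd Φ (π a) (π b) (π k)) (hU : g ∈ S.U) :
    π = 1 ∧ σ = 1 ∧ ∀ r, d r = 1 := by
  have k1 : ∀ i c, S.scoef i (S.x (π (Φ.simple i)) (d (Φ.simple i) * σ c)) = c := fun i c => by
    rw [← h.2, A.nd.scoef_conj_U i hU (S.x_mem_U (Φ.pos_simple i) c), A.nd.scoef_x_self]
  have k2 : ∀ i, π (Φ.simple i) = Φ.simple i := fun i => by
    by_contra hne
    have hp : Φ.Pos (π (Φ.simple i)) := by
      refine A.nd.pos_of_x_mem_B (t := d (Φ.simple i) * σ 1) (by simpa using h.ne_zero _) ?_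
      rw [← h.2]
      exact S.U_le_B (mul_mem (mul_mem hU (S.x_mem_U (Φ.pos_simple i) _)) (inv_mem hU))
    have := k1 i 1
    rw [A.nd.scoef_x_of_ne hp hne] at this
    exact zero_ne_one this
  have k3 : ∀ i c, d (Φ.simple i) * σ c = c := fun i c => by
    have := k1 i c
    rwa [k2, A.nd.scoef_x_self] at this
  have k4 : ∀ i, d (Φ.simple i) = 1 := fun i => by simpa using k3 i 1
  have k5 : π = 1 := by
    ext r
    refine E.gen_simple {r | π r = r} ?_ (fun r hr => ?_) (fun a h1 b h2 k hk => ?_) r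
    · rintro _ ⟨i, rfl⟩
      exact k2 i
    · show π (Φ.neg r) = Φ.neg r
      rw [hn, show π r = r from hr]
    · have := ha _ _ _ hk
      rw [show π a = a from h1, show π b = b from h2] at this
      exact this.unique' hk
  refine ⟨k5, ?_, ?_⟩
  · ext c
    have := k3 E.i₀ c
    rwa [k4, one_mul] at this
  · subst k5
    exact A.d_eq_one h E.gen_simple (by rintro _ ⟨i, rfl⟩; exact k4 i)

/-- a standard element of `L` with type in `{1, γ}` has trivial type and lies in `B` -/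
theorem std_grp (h : Std S g π σ) (hπ : E.Gp π) (hg : g ∈ S.grp) : π = 1 ∧ σ = 1 := by
  have hB : g ∈ S.B := by
    rw [← A.nd.normalizer_U]
    exact ⟨A.std_norm h fun r hr => (hπ.pos r).2 hr, hg⟩
  obtain ⟨u, hu, a, ha, rfl⟩ := S.mem_B_iff.1 hB
  obtain ⟨d, h'⟩ := h.mul (std_of_mem_H (inv_mem ha)) fun _ => rfl
  rw [mul_inv_cancel_right, mul_one, mul_one] at h'
  obtain ⟨h1, h2, -⟩ := A.std_U h' hπ.neg hπ.add hu
  exact ⟨h1, h2⟩

theorem typ_unique (h : Typ S g π σ) (h' : Typ S g π' σ') (hπ : π = 1 ∨ π = E.γ)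
    (hπ' : π' = 1 ∨ π' = E.γ) : π = π' ∧ σ = σ' := by
  obtain ⟨l, hl, h⟩ := h
  obtain ⟨l', hl', h'⟩ := h'
  have h2 := h.mul (h'.inv (E.gp hπ').neg) (aa_neg_inv (E.gp hπ').neg)
  have e : l * g * (l' * g)⁻¹ = l * l'⁻¹ := by group
  rw [e, aa_gp_inv hπ'] at h2
  obtain ⟨h3, h4⟩ := A.std_grp h2 (E.gp (aa_gp_mul hπ hπ')) (mul_mem hl (inv_mem hl'))
  exact ⟨by rw [← aa_gp_inv hπ']; exact eq_inv_of_mul_eq_one_left h3, mul_inv_eq_one.1 h4⟩

theorem sq_of_typ (h : Typ S g π σ) (hπ : π = 1 ∨ π = E.γ) (g2 : g * g ∈ N0 S) : σ * σ = 1 := by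
  have h2 := h.mul h (E.gp hπ).neg
  rw [aa_gp_sq hπ] at h2
  exact (A.typ_unique h2 g2 (Or.inl rfl) (Or.inl rfl)).2

theorem norm_N0 : NL S ≤ normalizer (N0 S : Set G) := by
  intro a ha
  refine mem_normalizer_fintype fun n hn => ?_
  obtain ⟨π, σ, hπ, h⟩ := A.aut a ha
  have := (h.mul (mem_N0.1 hn) fun _ => rfl).mul (h.inv (E.gp hπ).neg) (aa_neg_inv (E.gp hπ).neg)
  exact mem_N0.2 (by simpa using this)

theorem comm_mem_N0 {a b : G} (ha : a ∈ NL S) (hb : b ∈ NL S) : a * b * a⁻¹ * b⁻¹ ∈ N0 S := by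
  obtain ⟨π, σ, hπ, h⟩ := A.aut a ha
  obtain ⟨π', σ', hπ', h'⟩ := A.aut b hb
  have := ((h.mul h' (E.gp hπ').neg).mul (h.inv (E.gp hπ).neg) (aa_neg_inv (E.gp hπ).neg)).mul
    (h'.inv (E.gp hπ').neg) (aa_neg_inv (E.gp hπ').neg)
  rw [aa_gp_comm hπ hπ', aut_mul_comm σ σ'] at this
  exact mem_N0.2 (by simpa using this)

theorem commutator_le_N0 : ⁅NL S, NL S⁆ ≤ N0 S :=   commutator_le.2 fun _ ha _ hb => A.comm_mem_N0 ha hb

theorem relIndex_N0 : (N0 S).relIndex (NL S) ≤ 2 * Nat.card (F ≃+* F) := by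
  have : Finite (F ≃+* F) := Finite.of_injective _ DFunLike.coe_injective
  choose π σ hπ h using fun a : NL S => A.aut a a.2
  have key : Function.Injective fun q : NL S ⧸ (N0 S).subgroupOf (NL S) =>
      ((π q.out = 1 : Prop), σ q.out) := by
    intro q q' e
    obtain ⟨e1, e2⟩ := Prod.mk.inj e
    have e3 : π q.out = π q'.out := by
      by_cases h1 : π q.out = 1
      · rw [h1, e1.mp h1]
      · rw [(hπ q.out).resolve_left h1, (hπ q'.out).resolve_left fun h2 => h1 (e1.mpr h2)]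
    have := ((h q.out).inv (E.gp (hπ _)).neg).mul (h q'.out) (E.gp (hπ _)).neg
    rw [e2, e3, inv_mul_cancel, inv_mul_cancel] at this
    rw [← q.out_eq', ← q'.out_eq', QuotientGroup.eq]
    exact this
  have := Nat.card_le_card_of_injective _ key
  rwa [Nat.card_prod, Nat.card_eq_fintype_card (α := Prop), Fintype.card_prop] at this

end Amb

end CfsgLib.SLE
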