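import Mathlib
import Cfsg.Agent.Lib.Core.Basic
import Cfsg.Agent.Lib.SLE.AutA

/-!
# The normaliser of `L`
-/

set_option autoImplicit false

namespace CfsgLib.SLE

open CfsgLib.RGD CfsgLib.Stein Subgroup
open scoped commutatorElement Pointwise

universe u

variable {ι κ : Type} [Fintype κ] [DecidableEq κ] [Finite ι] {Φ : RootSys ι κ} {E : ER Φ}
  {F : Type} [Field F] [Finite F] [CharP F 2] {G : Type u} [Group G] [Finite G]
  {S : StSys Φ F G}

theorem au_exists_pow {g : G} {k n : ℕ} (hk : g ^ 2 ^ k = 1) (hn : Odd n) :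
    ∃ m, (g ^ n) ^ m = g :=
  exists_pow_eq_self_of_coprime (Nat.Coprime.coprime_dvd_right (orderOf_dvd_of_pow_eq_one hk)
    ((Nat.coprime_two_right.2 hn).pow_right k))

theorem au_pow_mul {l g : G} (hl : l ∈ S.grp) (hg : g ∈ NL S) (n : ℕ) :
    ∃ m ∈ S.grp, (l * g) ^ n = m * g ^ n := by
  induction n with
  | zero => exact ⟨1, one_mem _, by simp⟩
  | succ n ih =>
    obtain ⟨m, hm, e⟩ := ih
    refine ⟨m * (g ^ n * l * (g ^ n)⁻¹), mul_mem hm (aa_conj_grp (pow_mem hg n) hl), ?_⟩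
    rw [pow_succ, e, pow_succ]
    group

omit [Fintype κ] [DecidableEq κ] [Finite ι] in
theorem au_odd_q : Odd (Nat.card F - 1) := by
  have : Finite (F ≃+* F) := Finite.of_injective _ DFunLike.coe_injective
  rw [card_aut]
  exact Nat.Even.sub_odd Nat.one_le_two_pow
    ((Nat.even_pow' Nat.card_pos.ne').2 even_two) odd_one

theorem au_eq_one_of_pow {d : F} {k : ℕ} (h : d ^ 2 ^ k = 1) : d = 1 := by
  induction k with
  | zero => simpa using h
  | succ k ih =>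
    rw [pow_succ, pow_mul, sq_eq_one_iff, CharTwo.neg_eq, or_self] at h
    exact ih h

/-- a group with cyclic Sylow 2-subgroups has a derived group of odd order -/
theorem au_odd_comm (C : Subgroup G) (hc : ∀ P ≤ C, IsPGroup 2 P → IsCyclic P) :
    ∃ O ≤ C, (∀ o ∈ O, Odd (orderOf o)) ∧ ∀ a ∈ C, ∀ b ∈ C, a * b * a⁻¹ * b⁻¹ ∈ O := by
  rcases Nat.even_or_odd (Nat.card C) with h | h
  · have hp : (Nat.card C).minFac = 2 := (Nat.minFac_eq_two_iff _).2 h.two_dvd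
    obtain ⟨P⟩ : Nonempty (Sylow 2 C) := inferInstance
    have hP : IsCyclic P := by
      have := hc (P.1.map C.subtype) (map_subtype_le _) (P.2.map _)
      exact isCyclic_of_surjective _ (P.1.equivMapOfInjective _ C.subtype_injective).symm.surjective
    have hn := hP.normalizer_le_centralizer hp
    refine ⟨(MonoidHom.transferSylow P hn).ker.map C.subtype, map_subtype_le _, ?_, ?_⟩
    · intro o ho
      have h1 := MonoidHom.not_dvd_card_ker_transferSylow P hn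
      rw [← Core.card_map_subtype] at h1
      have h2 := orderOf_dvd_natCard _ ho
      rw [← Nat.not_even_iff_odd]
      exact fun h3 => h1 (h3.two_dvd.trans h2)
    · intro a ha b hb
      refine ⟨⟨a, ha⟩ * ⟨b, hb⟩ * ⟨a, ha⟩⁻¹ * ⟨b, hb⟩⁻¹, ?_, rfl⟩
      have hcm := hP.isMulCommutative.is_comm.comm (MonoidHom.transferSylow P hn ⟨a, ha⟩)
        (MonoidHom.transferSylow P hn ⟨b, hb⟩)
      show _ ∈ MonoidHom.ker _
      rw [MonoidHom.mem_ker, map_mul, map_mul, map_mul, map_inv, map_inv, hcm]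
      group
  · exact ⟨C, le_rfl, fun o ho => h.of_dvd_nat (orderOf_dvd_natCard _ ho), fun a ha b hb =>
      mul_mem (mul_mem (mul_mem ha hb) (inv_mem ha)) (inv_mem hb)⟩

theorem au_std_pow {g : G} {d : ι → F} {π : Equiv.Perm ι} {r : ι} (h : StdD S g π d 1) (hr : π r = r)
    (n : ℕ) (c : F) : g ^ n * S.x r c * (g ^ n)⁻¹ = S.x r (d r ^ n * c) := by
  induction n with
  | zero => simp
  | succ n ih =>
    have e : g ^ (n + 1) * S.x r c * (g ^ (n + 1))⁻¹ = g * (g ^ n * S.x r c * (g ^ n)⁻¹) * g⁻¹ := by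
      rw [pow_succ']; group
    rw [e, ih, h.2, hr, pow_succ', mul_assoc]
    rfl

namespace Amb

variable (A : Amb E S) {g : G} {π π' : Equiv.Perm ι} {d : ι → F} {σ σ' : F ≃+* F}
include A

omit A in
theorem std_pow' (h : Std S g 1 1) : g ^ (Nat.card F - 1) ∈ CL S := by
  obtain ⟨d, h⟩ := h
  refine aa_mem_CL fun r c => ?_
  have := Fintype.ofFinite F
  rw [au_std_pow h rfl, Nat.card_eq_fintype_card,
    FiniteField.pow_card_sub_one_eq_one _ (h.ne_zero r), one_mul]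

theorem pow_Z {z : G} (h1 : z ∈ S.grp) (h2 : z ∈ CL S) :
    z ^ Nat.card (S.grp ⊓ CL S : Subgroup G) = 1 :=
  orderOf_dvd_iff_pow_eq_one.1 (orderOf_dvd_natCard _ (mem_inf.2 ⟨h1, h2⟩))

/-- 2-elements of `N0` induce inner automorphisms -/
theorem exists_mul_of_N0 (hg : g ∈ N0 S) (hp : IsPGroup 2 (zpowers g)) :
    ∃ l ∈ S.grp, ∃ c ∈ CL S, g = l * c ∧ IsPGroup 2 (zpowers l) ∧ IsPGroup 2 (zpowers c) := by
  obtain ⟨k, hk⟩ := Core.isPGroup_zpowers_iff.1 hp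
  have hN := N0_le hg
  obtain ⟨l, hl, h⟩ := hg
  obtain ⟨m, hm, e⟩ := au_pow_mul hl hN (Nat.card F - 1)
  have h1 : g ^ (Nat.card F - 1) ∈ S.grp ⊔ CL S := by
    have := mul_mem (mem_sup_left (T := CL S) (inv_mem hm)) (mem_sup_right (std_pow' h))
    rwa [e, inv_mul_cancel_left] at this
  obtain ⟨a, ha⟩ := au_exists_pow hk (au_odd_q (F := F))
  obtain ⟨l, hl, c, hc, e⟩ := aa_exists_mul (ha ▸ pow_mem h1 a)
  have hlc : Commute l c := aa_CL_comm hc hl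
  have e1 : l ^ 2 ^ k * c ^ 2 ^ k = 1 := by rw [← hlc.mul_pow, ← e, hk]
  have e2 : l ^ 2 ^ k ∈ CL S := by
    rw [eq_inv_of_mul_eq_one_left e1]; exact inv_mem (pow_mem hc _)
  have e3 : c ^ 2 ^ k ∈ S.grp := by
    rw [eq_inv_of_mul_eq_one_right e1]; exact inv_mem (pow_mem hl _)
  obtain ⟨b, hb⟩ := au_exists_pow hk A.Z_odd
  refine ⟨_, pow_mem (pow_mem hl (Nat.card (S.grp ⊓ CL S : Subgroup G))) b, _,
    pow_mem (pow_mem hc (Nat.card (S.grp ⊓ CL S : Subgroup G))) b, ?_, ?_, ?_⟩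
  · rw [← (hlc.pow_pow _ _).mul_pow, ← hlc.mul_pow, ← e, hb]
  · refine Core.isPGroup_zpowers_iff.2 ⟨k, ?_⟩
    rw [pow_right_comm, pow_right_comm l, A.pow_Z (pow_mem hl _) e2, one_pow]
  · refine Core.isPGroup_zpowers_iff.2 ⟨k, ?_⟩
    rw [pow_right_comm, pow_right_comm c, A.pow_Z e3 (pow_mem hc _), one_pow]

theorem inv_split (hg : g ∈ N0 S) (g2 : g * g = 1) :
    ∃ l ∈ S.grp, ∃ c ∈ CL S, g = l * c ∧ l * l = 1 ∧ c * c = 1 := by
  obtain ⟨l, hl, c, hc, e, p, -⟩ := A.exists_mul_of_N0 hg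
    (Core.isPGroup_zpowers_iff.2 ⟨1, by simpa [sq] using g2⟩)
  have hlc : Commute l c := aa_CL_comm hc hl
  have e1 : l * l * (c * c) = 1 := by rw [← g2, e, hlc.symm.mul_mul_mul_comm]
  have e2 : l * l = 1 := A.eq_one (mul_mem hl hl)
    (by rw [eq_inv_of_mul_eq_one_left e1]; exact inv_mem (mul_mem hc hc))
    (p.to_le (zpowers_le.2 (mul_mem (mem_zpowers l) (mem_zpowers l))))
  exact ⟨l, hl, c, hc, e, e2, by rwa [e2, one_mul] at e1⟩

/-- splitting of 2-elements is unique -/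
theorem split_unique {l l' c c' : G} (hl : l ∈ S.grp) (hl' : l' ∈ S.grp) (hc : c ∈ CL S)
    (hc' : c' ∈ CL S) (p : IsPGroup 2 (zpowers l)) (p' : IsPGroup 2 (zpowers l'))
    (e : l * c = l' * c') : l = l' ∧ c = c' := by
  obtain ⟨k, hk⟩ := Core.isPGroup_zpowers_iff.1 p
  obtain ⟨k', hk'⟩ := Core.isPGroup_zpowers_iff.1 p'
  have e1 : l'⁻¹ * l = c' * c⁻¹ := by
    rw [inv_mul_eq_iff_eq_mul, ← mul_assoc, ← e, mul_inv_cancel_right]
  have hz : l'⁻¹ * l ∈ CL S := e1 ▸ mul_mem hc' (inv_mem hc)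
  have hcm : Commute l' (l'⁻¹ * l) := aa_CL_comm hz hl'
  have e2 : (l'⁻¹ * l) ^ 2 ^ (k + k') = 1 := by
    have := hcm.mul_pow (2 ^ (k + k'))
    rw [mul_inv_cancel_left, pow_add, pow_mul, hk, one_pow, mul_comm (2 ^ k), pow_mul l', hk',
      one_pow, one_mul] at this
    rw [pow_add, mul_comm (2 ^ k), ← this]
  have e3 := A.eq_one (mul_mem (inv_mem hl') hl) hz (Core.isPGroup_zpowers_iff.2 ⟨_, e2⟩)
  have e4 : l = l' := (inv_mul_eq_one.1 e3).symm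
  exact ⟨e4, by rw [e4] at e; exact mul_left_cancel e⟩

/-- **PERF** -/
theorem pf_le (hc : ∀ P ≤ CL S, IsPGroup 2 P → IsCyclic P) {M : Subgroup G} (hM : Pf M)
    (h : M ≤ NL S) : M ≤ S.grp := by
  have h0 : M ≤ N0 S := hM.1.trans ((commutator_mono h h).trans A.commutator_le_N0)
  have h1 : M ≤ S.grp ⊔ CL S := hM.2.trans ((closure_le _).2 fun g hg => by
    obtain ⟨l, hl, c, hc, rfl, -⟩ := A.inv_split (h0 hg.1) hg.2
    exact mul_mem (mem_sup_left hl) (mem_sup_right hc))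
  obtain ⟨O, hO, ho, hcm⟩ := au_odd_comm (CL S) hc
  have h2 : M ≤ S.grp ⊔ O := hM.1.trans (commutator_le.2 fun a ha b hb => by
    obtain ⟨l, hl, c, hc, rfl⟩ := aa_exists_mul (h1 ha)
    obtain ⟨l', hl', c', hc', rfl⟩ := aa_exists_mul (h1 hb)
    have k1 : Commute l c := aa_CL_comm hc hl
    have k2 : Commute l' c := aa_CL_comm hc hl'
    have k3 : Commute l c' := aa_CL_comm hc' hl
    have k4 : Commute l' c' := aa_CL_comm hc' hl'
    have e : ⁅l * c, l' * c'⁆ = l * l' * l⁻¹ * l'⁻¹ * (c * c' * c⁻¹ * c'⁻¹) := by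
      rw [commutatorElement_def, k1.mul_inv, k4.mul_inv, k2.symm.mul_mul_mul_comm,
        ((k1.symm.mul_left k3.symm).inv_right).mul_mul_mul_comm,
        (((k2.symm.mul_left k4.symm).mul_left k2.symm.inv_left).inv_right).mul_mul_mul_comm]
    rw [e]
    exact mul_mem (mem_sup_left (mul_mem (mul_mem (mul_mem hl hl') (inv_mem hl)) (inv_mem hl')))
      (mem_sup_right (hcm c hc c' hc')))
  refine hM.2.trans ((closure_le _).2 fun g hg => ?_)
  obtain ⟨l, hl, c, hc, e, -, c2⟩ := A.inv_split (h0 hg.1) hg.2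
  obtain ⟨l', hl', o, hoO, e'⟩ :=
    (Core.mem_sup_of_le_normalizer_left (hO.trans aa_CL_le)).1 (h2 hg.1)
  have e1 : c = l⁻¹ * l' * o := by rw [mul_assoc, e', e, inv_mul_cancel_left]
  have hz : l⁻¹ * l' ∈ CL S := by
    rw [← mul_inv_eq_iff_eq_mul.2 e1]; exact mul_mem hc (inv_mem (hO hoO))
  have hz' := mul_mem (inv_mem hl) hl'
  have hcm : Commute (l⁻¹ * l') o := aa_CL_comm (hO hoO) hz'
  obtain ⟨a, ha⟩ := au_exists_pow (g := c) (k := 1) (by simpa [sq] using c2)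
    (A.Z_odd.mul (ho o hoO))
  have e2 : c ^ (Nat.card (S.grp ⊓ CL S : Subgroup G) * orderOf o) = 1 := by
    rw [e1, hcm.mul_pow, pow_mul, A.pow_Z hz' hz, mul_comm _ (orderOf o), pow_mul, pow_orderOf_eq_one]
    simp
  rw [e2, one_pow] at ha
  rw [e, ← ha, mul_one]
  exact hl

/-- **SYL** -/
theorem exists_norm_U {P : Subgroup G} (hP : IsPGroup 2 P) (h : P ≤ NL S) :
    ∃ l ∈ S.grp, ∀ p ∈ P, l * p * l⁻¹ ∈ normalizer (S.U : Set G) := by
  obtain ⟨T, hT⟩ := (hP.comap_subtype (K := NL S)).exists_le_sylow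
  obtain ⟨T', hT'⟩ := (A.pg_U.comap_subtype (K := NL S)).exists_le_sylow
  obtain ⟨k, hk⟩ := MulAction.exists_smul_eq (NL S) T T'
  have hU : ∀ u ∈ S.U, u ∈ T'.1.map (NL S).subtype := fun u hu =>
    ⟨⟨u, aa_grp_le (S.U_le_grp hu)⟩, hT' hu, rfl⟩
  have h1 : T'.1.map (NL S).subtype ⊓ S.grp ≤ S.U :=
    A.le_U (T'.2.map _).to_inf_left inf_le_right (le_inf hU S.U_le_grp)
  have h2 : T'.1.map (NL S).subtype ≤ normalizer (S.U : Set G) := fun t ht =>
    mem_normalizer_fintype fun u hu => h1 (mem_inf.2 ⟨mul_mem (mul_mem ht (hU u hu)) (inv_mem ht),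
      aa_conj_grp (map_subtype_le _ ht) (S.U_le_grp hu)⟩)
  obtain ⟨l, hl, h3⟩ := A.exists_conj_U (A.pg_U.map (MulAut.conj (k : G)⁻¹).toMonoidHom)
    (by rintro _ ⟨u, hu, rfl⟩; exact aa_conj_grp (inv_mem k.2) (S.U_le_grp hu))
  have h4 : l * (k : G)⁻¹ ∈ normalizer (S.U : Set G) := mem_normalizer_fintype fun u hu => by
    have := h3 _ ⟨u, hu, rfl⟩
    simpa [mul_assoc] using this
  refine ⟨l, hl, fun p hp => ?_⟩
  have h5 : (k : G) * p * (k : G)⁻¹ ∈ T'.1.map (NL S).subtype := by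
    refine ⟨k * ⟨p, h hp⟩ * k⁻¹, ?_, rfl⟩
    rw [← hk]
    exact smul_mem_pointwise_smul (⟨p, h hp⟩ : NL S) (MulAut.conj k) T.1 (hT hp)
  have := mul_mem (mul_mem h4 (h2 h5)) (inv_mem h4)
  simpa [mul_assoc] using this

theorem exists_norm_cj {P : Subgroup G} (hP : IsPGroup 2 P) (h : P ≤ NL S) :
    ∃ l ∈ S.grp, P ≤ normalizer ((SLE.cj S l).U : Set G) := by
  obtain ⟨l, hl, h1⟩ := A.exists_norm_U hP h
  refine ⟨l⁻¹, inv_mem hl, fun p hp => mem_normalizer_fintype fun u hu => ?_⟩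
  have := (mem_normalizer_iff.1 (h1 p hp) _).1 (mem_cj_UU.1 hu)
  exact mem_cj_UU.2 (by simpa [mul_assoc, StSys.U] using this)

theorem mem_U_of_norm (hg : g ∈ S.grp) (hp : IsPGroup 2 (zpowers g))
    (h : g ∈ normalizer (S.U : Set G)) : g ∈ S.U :=   A.le_U (hp.to_sup_of_normal_right' A.pg_U (zpowers_le.2 h))
    (sup_le (zpowers_le.2 hg) S.U_le_grp) le_sup_right (mem_sup_left (mem_zpowers g))

theorem exists_std (h : Typ S g π σ) (hπ : π = 1 ∨ π = E.γ) (hU : g ∈ normalizer (S.U : Set G)) :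
    ∃ u ∈ S.U, Std S (u * g) π σ := by
  obtain ⟨l, hl, h⟩ := h
  have h1 : l * g ∈ normalizer (S.U : Set G) := A.std_norm h fun r hr => ((E.gp hπ).pos r).2 hr
  have hB : l ∈ S.B := by
    rw [← A.nd.normalizer_U]
    exact ⟨by simpa using mul_mem h1 (inv_mem hU), hl⟩
  obtain ⟨a, ha, u, hu, rfl⟩ := S.mem_B_iff'.1 hB
  refine ⟨u, hu, ?_⟩
  simpa [mul_assoc] using (std_of_mem_H (inv_mem ha)).mul h (E.gp hπ).neg

theorem eq_one_of_std (h : Std S g π σ) (hπ : E.Gp π) (hU : g ∈ S.U) : g = 1 := by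
  obtain ⟨d, h⟩ := h
  obtain ⟨rfl, rfl, h1⟩ := A.std_U h hπ.neg hπ.add hU
  refine A.eq_one (S.U_le_grp hU) (aa_mem_CL fun r c => ?_) (A.pg_U.to_le (zpowers_le.2 hU))
  rw [h.2, h1, one_mul]
  rfl

/-- the standard part of an involution is an involution -/
theorem exists_std_inv (h : Typ S g π σ) (hπ : π = 1 ∨ π = E.γ)
    (hU : g ∈ normalizer (S.U : Set G)) (g2 : g * g = 1) :
    ∃ u ∈ S.U, Std S (u * g) π σ ∧ u * g * (u * g) = 1 := by
  obtain ⟨u, hu, h1⟩ := A.exists_std h hπ hU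
  refine ⟨u, hu, h1, A.eq_one_of_std (h1.mul h1 (E.gp hπ).neg) (E.gp (aa_gp_mul hπ hπ)) ?_⟩
  have e : u * g * (u * g) = u * (g * u * g⁻¹) * (g * g) := by group
  rw [e, g2, mul_one]
  exact mul_mem hu ((mem_normalizer_iff.1 hU u).1 hu)

/-- standard elements of type `(1, 1)` -/
theorem std_pow (h : Std S g 1 1) : g ^ (Nat.card F - 1) ∈ CL S := by
  have _ := A
  exact std_pow' h

theorem ht_β_lt : Φ.ht E.β < Φ.ht E.θ := by
  have _ := A
  refine E.ht_lt_θ fun h => ?_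
  have := E.ip_βθ
  rw [h, E.ip_self] at this
  omega

theorem U_norm_W : S.U ≤ normalizer (S.UU {E.θ, E.β} : Set G) := by
  refine S.UU_le_normalizer fun r hr s hs => ?_
  have hs' : Φ.Pos s ∧ Φ.ht E.β ≤ Φ.ht s := by
    rcases hs with rfl | rfl
    exacts [⟨E.pos_θ, A.ht_β_lt.le⟩, ⟨E.pos_β, le_rfl⟩]
  refine ⟨Φ.ne_neg_of_pos hr hs'.1, fun k hk => ?_⟩
  by_contra hne
  simp only [Set.mem_insert_iff, Set.mem_singleton_iff, not_or] at hne
  have h1 := E.ht_lt_β hne.1 hne.2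
  have h2 := hk.ht_le hr hs'.1
  have h3 := Φ.ht_pos hr
  omega

theorem norm_U_Z (hg : g ∈ NL S) (hU : g ∈ normalizer (S.U : Set G)) :
    g ∈ normalizer (S.X E.θ : Set G) ∧ g ∈ normalizer (Q S E.θ : Set G) ∧
      g ∈ normalizer (Y S E.θ : Set G) ∧ g ∈ normalizer (S.UU {E.θ, E.β} : Set G) := by
  obtain ⟨π, σ, hπ, h⟩ := A.aut g hg
  obtain ⟨u, hu, h1⟩ := A.exists_std h hπ hU
  have p := E.gp hπ
  have key : ∀ T : Set ι, (∀ r ∈ T, π r ∈ T) → S.U ≤ normalizer (S.UU T : Set G) →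
      g ∈ normalizer (S.UU T : Set G) := fun T h2 h3 => by
    simpa using mul_mem (inv_mem (h3 hu)) (A.std_norm h1 h2)
  have k : ∀ r, ip Φ (π r) E.θ = ip Φ r E.θ := fun r => by rw [← p.ip r, p.θ]
  refine ⟨key _ ?_ (A.U_le_Y.trans ((A.Y_le_cent _).trans (centralizer_le_normalizer _))),
    key _ (fun r hr => le_of_le_of_eq hr (k r).symm) (A.U_le_Y.trans (A.Y_norm_Q _)),
    key _ (fun r hr => le_of_le_of_eq hr (k r).symm) (A.U_le_Y.trans le_normalizer), key _ ?_ A.U_norm_W⟩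
  · rintro r rfl
    exact p.θ
  · rintro r (rfl | rfl)
    exacts [Or.inl p.θ, Or.inr p.β]

/-- a 2-element normalising `U` which is not semilinear centralises `Z` -/
theorem cent_Z (h : Typ S g π 1) (hπ : π = 1 ∨ π = E.γ) (hU : g ∈ normalizer (S.U : Set G))
    (hp : IsPGroup 2 (zpowers g)) : g ∈ centralizer (S.X E.θ : Set G) := by
  obtain ⟨u, hu, d, h1⟩ := A.exists_std h hπ hU
  obtain ⟨k, hk⟩ := Core.isPGroup_zpowers_iff.1 hp
  have hc : ∀ c, u * S.x E.θ c = S.x E.θ c * u := fun c =>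
    (mem_cent_UU.1 (A.Y_le_cent _ (A.U_le_Y hu)) _ rfl c).symm
  have k1 : ∀ c, g * S.x E.θ c * g⁻¹ = S.x E.θ (d E.θ * c) := fun c => by
    have := h1.2 E.θ c
    rw [(E.gp hπ).θ] at this
    calc g * S.x E.θ c * g⁻¹ = u⁻¹ * (u * g * S.x E.θ c * (u * g)⁻¹) * u := by group
      _ = _ := by rw [this, mul_assoc, ← hc, inv_mul_cancel_left]; rfl
  have k2 : ∀ n : ℕ, g ^ n * S.x E.θ 1 * (g ^ n)⁻¹ = S.x E.θ (d E.θ ^ n) := fun n => by
    induction n with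
    | zero => simp
    | succ n ih => rw [pow_succ' (d _), ← k1, ← ih, pow_succ']; group
  have k3 := k2 (2 ^ k)
  rw [hk, one_mul, inv_one, mul_one] at k3
  have k4 := au_eq_one_of_pow (A.nd.x_injective _ k3).symm
  refine mem_cent_UU.2 ?_
  rintro r rfl c
  rw [mul_inv_eq_iff_eq_mul.1 (k1 c), k4, one_mul]

/-- root groups are trivial intersection sets -/
theorem norm_of_conj_x (hg : g ∈ NL S) {r s : ι} {c e : F} (hc : c ≠ 0)
    (h : g * S.x r c * g⁻¹ = S.x s e) : (∀ x ∈ S.X r, g * x * g⁻¹ ∈ S.X s) ∧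
      (∀ x ∈ Q S r, g * x * g⁻¹ ∈ Q S s) ∧ ∀ x ∈ Y S r, g * x * g⁻¹ ∈ Y S s := by
  obtain ⟨π, σ, hπ, l, hl, d, h1⟩ := A.aut g hg
  have p := E.gp hπ
  have hc' : d r * σ c ≠ 0 := mul_ne_zero (h1.ne_zero r) (by simpa using hc)
  have he : e ≠ 0 := by
    rintro rfl
    rw [S.x_zero, mul_inv_eq_one, mul_eq_left, A.x_eq_one] at h
    exact hc h
  obtain ⟨n₁, hn₁, e₁, w₁, hw₁, f₁, a₁⟩ := A.exists_conj_x (π r) hc'
  obtain ⟨n₂, hn₂, e₂, w₂, hw₂, f₂, a₂⟩ := A.exists_conj_x s he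
  have ha := a₂.mul (a₁.inv hw₁) (inv_mem hw₁)
  have hw := mul_mem hw₂ (inv_mem hw₁)
  have f : (w₂ * w₁⁻¹) (π r) = s := by rw [← f₁, ← f₂]; simp
  have hy : l⁻¹ * (n₂ * n₁⁻¹)⁻¹ ∈ Y S s := by
    rw [← A.cent_x s he]
    refine mem_inf.2 ⟨mul_mem (inv_mem hl) (inv_mem (S.N_le_grp (mul_mem hn₂ (inv_mem hn₁)))),
      mem_centralizer_singleton_iff.2 ?_⟩
    have e3 := h1.2 r c
    rw [← e₁] at e3
    calc l⁻¹ * (n₂ * n₁⁻¹)⁻¹ * S.x s e = l⁻¹ * (n₁ * S.x E.θ 1 * n₁⁻¹) * (n₂ * n₁⁻¹)⁻¹ := by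
          rw [← e₂]; group
      _ = _ := by rw [← e3, ← h]; group
  have key : ∀ T T' : Set ι, (∀ a ∈ T, (w₂ * w₁⁻¹) (π a) ∈ T') →
      Y S s ≤ normalizer (S.UU T' : Set G) → ∀ x ∈ S.UU T, g * x * g⁻¹ ∈ S.UU T' := by
    intro T T' h2 h3 x hx
    have := (mem_normalizer_iff.1 (h3 hy) _).1
      (ha.conj_mem_UU (Ψ := {a | (w₂ * w₁⁻¹) a ∈ T'}) (fun _ h => h) (h1.conj_mem h2 hx))
    simpa [mul_assoc] using this
  have k : ∀ a, ip Φ ((w₂ * w₁⁻¹) (π a)) s = ip Φ a r := fun a => by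
    rw [← f, ip_apply hw, p.ip]
  refine ⟨key _ _ ?_ ((A.Y_le_cent _).trans (centralizer_le_normalizer _)),
    key _ _ (fun a ha => le_of_le_of_eq ha (k a).symm) (A.Y_norm_Q _),
    key _ _ (fun a ha => le_of_le_of_eq ha (k a).symm) le_normalizer⟩
  rintro a rfl
  exact f

theorem norm_of_cent_x (hg : g ∈ NL S) {r : ι} {c : F} (hc : c ≠ 0) (h : g * S.x r c = S.x r c * g) :
    g ∈ normalizer (S.X r : Set G) ∧ g ∈ normalizer (Q S r : Set G) ∧
      g ∈ normalizer (Y S r : Set G) := by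
  obtain ⟨h1, h2, h3⟩ := A.norm_of_conj_x hg hc (mul_inv_eq_iff_eq_mul.2 h)
  exact ⟨mem_normalizer_fintype h1, mem_normalizer_fintype h2, mem_normalizer_fintype h3⟩

theorem card_le (h2 : Two S) {P : Subgroup G} (hP : IsPGroup 2 P) (h : P ≤ NL S) :
    Nat.card P ≤ 4 * Nat.card (F ≃+* F) * Nat.card F ^ NP Φ := by
  have hN : NL S ≤ normalizer (CL S : Set G) := Core.normalizer_le_normalizer_centralizer _
  have h0 : P ⊓ N0 S ≤ S.grp ⊔ CL S := fun g hg => by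
    obtain ⟨l, hl, c, hc, rfl, -⟩ := A.exists_mul_of_N0 hg.2 (hP.to_le (zpowers_le.2 hg.1))
    exact mul_mem (mem_sup_left hl) (mem_sup_right hc)
  have e1 := Core.card_sup_mul_card_inf_of_le_normalizer ((inf_le_left (b := N0 S)).trans (h.trans hN))
  have e2 := Core.card_sup_dvd_of_le_normalizer (aa_grp_le.trans hN)
  have e3 := card_dvd_of_le (sup_le h0 le_sup_right)
  have e4 : Nat.card (P ⊓ N0 S : Subgroup G) ∣
      Nat.card (P ⊓ N0 S ⊓ CL S : Subgroup G) * Nat.card S.U * S.U.relIndex S.grp := by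
    refine Nat.dvd_of_mul_dvd_mul_right (Nat.card_pos (α := CL S)) ?_
    rw [← e1, mul_assoc _ (Nat.card S.U), Core.card_mul_relIndex_of_le S.U_le_grp, mul_assoc,
      mul_comm]
    exact Nat.mul_dvd_mul_left _ (e3.trans e2)
  have e5 := Nat.le_of_dvd (Nat.mul_pos Nat.card_pos Nat.card_pos)
    ((Core.isPGroup_coprime_card hP.to_inf_left
      (Nat.coprime_two_right.2 A.odd_relIndex)).dvd_of_dvd_mul_right e4)
  have e6 := h2 (P ⊓ N0 S ⊓ CL S) inf_le_right hP.to_inf_left.to_inf_left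
  have e7 := (relIndex_le_of_le_right (H := N0 S) h FiniteIndex.index_ne_zero).trans A.relIndex_N0
  rw [← Core.card_inf_mul_relIndex (N0 S) P, inf_comm, ← A.card_U]
  calc _ ≤ 2 * Nat.card S.U * (2 * Nat.card (F ≃+* F)) :=
        Nat.mul_le_mul (e5.trans (Nat.mul_le_mul_right _ e6)) e7
    _ = _ := by ring

end Amb

end CfsgLib.SLE
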