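import Mathlib
import Cfsg.Agent.Lib.SLE.Aut
import Cfsg.Agent.Lib.LAE.Sylow

/-!
# Normal 2-subgroups of `Y` and `Y2`
-/

set_option autoImplicit false
set_option linter.unusedSectionVars false

namespace CfsgLib.SLE

open CfsgLib.RGD CfsgLib.Stein Subgroup
open scoped commutatorElement Pointwise

universe u

variable {ι κ : Type} [Fintype κ] [DecidableEq κ] [Finite ι] {Φ : RootSys ι κ} {E : ER Φ}
  {F : Type} [Field F] [Finite F] [CharP F 2] {G : Type u} [Group G] [Finite G]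
  {S : StSys Φ F G}

theorem lev_nprod {J : Set κ} {L : List κ} (hL : ∀ i ∈ L, i ∈ J) :
    S.nprod L ∈ S.UU {r | Φ.InSub J r} := by
  induction L with
  | nil => exact one_mem _
  | cons i L ih =>
    have hi : Φ.InSub J (Φ.simple i) := Φ.inSub_simple_iff.2 (hL i List.mem_cons_self)
    rw [S.nprod_cons]
    exact mul_mem (S.n_mem_UU hi (Φ.inSub_neg_iff.2 hi) 1)
      (ih fun j hj => hL j (List.mem_cons_of_mem _ hj))

theorem lev_norm {M R : Subgroup G} (hR : IsPGroup 2 R) (h1 : R ≤ M)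
    (h2 : M ≤ normalizer (R : Set G))
    (h3 : ∀ K : Subgroup G, IsPGroup 2 K → K ≤ M → M ≤ normalizer (K : Set G) → K ≤ R) {g : G}
    (hg : g ∈ normalizer (M : Set G)) : g ∈ normalizer (R : Set G) := by
  have e := LAE.mem_normalizer_iff_conjS.1 hg
  refine LAE.mem_normalizer_of_conjS_le (h3 _ (LAE.isPGroup_conjS hR g)
    ((LAE.conjS_mono h1).trans e.le) ?_)
  rw [← LAE.conjS_normalizer]
  exact e.ge.trans (LAE.conjS_mono h2)

namespace Amb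

variable (A : Amb E S)
include A

theorem o2_levi (J : Set κ) {K : Subgroup G} (hK : IsPGroup 2 K) (h1 : K ≤ S.UU {r | Φ.InSub J r})
    (h2 : S.UU {r | Φ.InSub J r} ≤ normalizer (K : Set G)) : K = ⊥ := by
  have LP : S.UU {r | Φ.InSub J r} ≤ S.P J := le_sup_right.trans (S.LJ_le_P J)
  have l1 : S.UU {r | Φ.Pos r ∧ Φ.InSub J r} ≤ S.UU {r | Φ.InSub J r} :=
    S.UU_mono fun _ hr => hr.2
  have p1 : IsPGroup 2 (S.UU {r | Φ.Pos r ∧ Φ.InSub J r} ⊔ K : Subgroup G) :=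
    LAE.isPGroup_sup (A.pg_U.to_le (S.UU_mono fun _ hr => hr.1)) hK (l1.trans h2)
  have p2 := LAE.isPGroup_sup p1 (A.pg_U.to_le (S.UJ_le_U J))
    ((sup_le l1 h1).trans (LP.trans (S.P_le_normalizer_UJ J)))
  have KU : K ≤ S.U := (le_sup_right.trans le_sup_left).trans (A.le_U p2
    (sup_le ((sup_le l1 h1).trans (S.UU_le_grp _)) (S.UU_le_grp _))
    (S.UU_le_iff.2 fun r hr t => by
      by_cases e : Φ.InSub J r
      · exact mem_sup_left (mem_sup_left (S.x_mem_UU (by exact ⟨hr, e⟩) t))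
      · exact mem_sup_right (S.x_mem_UU (by exact ⟨hr, e⟩) t)))
  obtain ⟨w, hw, neg⟩ := Φ.exists_longest J
  obtain ⟨L, hL, rfl⟩ := Φ.mem_WJ_iff.1 hw
  refine eq_bot_iff.2 fun k hk => ?_
  have m : k ∈ S.UU {r | Φ.Pos r ∧ Φ.InSub J r} :=
    (A.nd.U_inf_LJ J).le (mem_inf.2 ⟨KU hk, mem_sup_right (h1 hk)⟩)
  have := A.nd.eq_one_of_mem_B_of_mem_V
    (S.U_le_B (KU ((mem_normalizer_iff.1 (h2 (lev_nprod hL)) k).1 hk)))
    ((S.acts_nprod L).conj_mem_UU (fun s hs => neg s hs.1 hs.2) m)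
  simpa using this

theorem lev_o2 (J : Set κ) {T : Set ι} (hT : ∀ r, r ∈ T ↔ Φ.InSub J r) {M R K : Subgroup G}
    (hR : IsPGroup 2 R) (r1 : M ≤ normalizer (R : Set G)) (r2 : S.UU T ≤ M)
    (r3 : ∀ y ∈ M, ∃ v ∈ R, ∃ l ∈ S.UU T, y = v * l) (hK : IsPGroup 2 K) (h1 : K ≤ M)
    (h2 : M ≤ normalizer (K : Set G)) : K ≤ R := by
  obtain rfl : T = {r | Φ.InSub J r} := Set.ext hT
  have := A.o2_levi J ((LAE.isPGroup_sup hK hR (h1.trans r1)).to_le
    (inf_le_left (b := S.UU {r | Φ.InSub J r}))) inf_le_right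
    (LAE.le_normalizer_inf (LAE.le_normalizer_sup (r2.trans h2) (r2.trans r1)) le_normalizer)
  intro k hk
  obtain ⟨v, hv, l, hl, rfl⟩ := r3 k (h1 hk)
  have e := this.le (mem_inf.2 ⟨(Subgroup.mul_mem_cancel_left _ (mem_sup_right hv)).1
    (mem_sup_left hk), hl⟩)
  rwa [mem_bot.1 e, mul_one]

theorem lev_le : S.UU {r | ip Φ r E.θ = 0} ≤ Y S E.θ := S.UU_mono fun _ hr => Eq.ge hr

theorem lev_le2 : S.UU {r | ip Φ r E.θ = 0 ∧ ip Φ r E.β = 0} ≤ Y2 S E.θ E.β :=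
  S.UU_mono fun _ hr => ⟨hr.1.ge, hr.2.ge⟩

theorem lev_R2_le : R2 S E.θ E.β ≤ Y2 S E.θ E.β := S.UU_mono fun _ hr => ⟨hr.1, hr.2.1⟩

theorem exists_Y {y : G} (hy : y ∈ Y S E.θ) :
    ∃ v ∈ Q S E.θ, ∃ l ∈ S.UU {r | ip Φ r E.θ = 0}, y = v * l := by
  refine (LAE.mem_sup_iff_of_right_le_normalizer (A.lev_le.trans (A.Y_norm_Q _))).1
    (S.UU_le_iff.2 (fun r hr t => ?_) hy)
  have hr : 0 ≤ ip Φ r E.θ := hr
  rcases hr.eq_or_lt with e | e
  · exact mem_sup_right (S.x_mem_UU e.symm t)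
  · exact mem_sup_left (S.x_mem_UU e t)

theorem exists_Y2 {y : G} (hy : y ∈ Y2 S E.θ E.β) :
    ∃ v ∈ R2 S E.θ E.β, ∃ l ∈ S.UU {r | ip Φ r E.θ = 0 ∧ ip Φ r E.β = 0}, y = v * l := by
  refine (LAE.mem_sup_iff_of_right_le_normalizer (A.lev_le2.trans A.Y2_norm_R2)).1
    (S.UU_le_iff.2 (fun r hr t => ?_) hy)
  obtain ⟨h1, h2⟩ : 0 ≤ ip Φ r E.θ ∧ 0 ≤ ip Φ r E.β := hr
  by_cases e : 1 ≤ ip Φ r E.θ + ip Φ r E.β
  · exact mem_sup_left (S.x_mem_UU (by exact ⟨h1, h2, e⟩) t)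
  · exact mem_sup_right (S.x_mem_UU (by exact ⟨by omega, by omega⟩) t)

theorem o2_Y {K : Subgroup G} (hK : IsPGroup 2 K) (h1 : K ≤ Y S E.θ)
    (h2 : Y S E.θ ≤ normalizer (K : Set G)) : K ≤ Q S E.θ :=
  A.lev_o2 _ E.orth_θ_iff (A.pg_Q _) (A.Y_norm_Q _) A.lev_le (fun _ => A.exists_Y) hK h1 h2

theorem o2_Y2 {K : Subgroup G} (hK : IsPGroup 2 K) (h1 : K ≤ Y2 S E.θ E.β)
    (h2 : Y2 S E.θ E.β ≤ normalizer (K : Set G)) : K ≤ R2 S E.θ E.β :=
  A.lev_o2 _ E.orth_θβ_iff A.pg_R2 A.Y2_norm_R2 A.lev_le2 (fun _ => A.exists_Y2) hK h1 h2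

/-- **CW** -/
theorem cen_W (hq : Nat.card F = 2) {g : G} (hg : g ∈ S.grp) (h1 : g * S.x E.θ 1 = S.x E.θ 1 * g)
    (h2 : g * S.x E.β 1 = S.x E.β 1 * g) : g ∈ Y2 S E.θ E.β := by
  have one : ∀ l : F, l ≠ 0 → l = 1 := fun l hl => by
    obtain ⟨y, -, hy⟩ := (Nat.card_eq_two_iff' (0 : F)).1 hq
    exact (hy l hl).trans (hy 1 one_ne_zero).symm
  have RY : S.UU ({r | Φ.Pos r} \ {E.α}) ≤ Y2 S E.θ E.β :=
    S.UU_mono fun r hr => ⟨E.nonneg_θ hr.1, E.nonneg_β hr.1 hr.2⟩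
  have cθ : Y2 S E.θ E.β ≤ centralizer {S.x E.θ 1} := S.UU_le_iff.2 fun r hr t =>
    mem_centralizer_singleton_iff.2 (A.com hr.1 _ _)
  have cβ : Y2 S E.θ E.β ≤ centralizer {S.x E.β 1} := S.UU_le_iff.2 fun r hr t =>
    mem_centralizer_singleton_iff.2 (A.com hr.2 _ _)
  obtain ⟨u, hu, n, hn, w, hw, ac, u', hu', rfl⟩ := A.nd.exists_bruhat hg
  obtain ⟨r, hr, a, rfl⟩ := S.exists_mul_x Φ.closed_pos (fun _ h => h) E.α hu
  obtain ⟨b, r', hr', rfl⟩ := S.exists_x_mul Φ.closed_pos (fun _ h => h) E.α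
    (S.UU_le_U (fun _ h => h.1) hu')
  have ex : ∀ s t, n * S.x s t * n⁻¹ = S.x (w s) t := fun s t => by
    obtain ⟨l, hl, e⟩ := ac.exists_conj_x s
    rw [e, one l hl, one_mul]
  rw [show r * S.x E.α a * n * (S.x E.α b * r') = r * (S.x E.α a * n * S.x E.α b) * r' by group]
    at h1 h2 ⊢
  have g1 := (Subgroup.mul_mem_cancel_left _ (cθ (RY hr))).1
    ((Subgroup.mul_mem_cancel_right _ (cθ (RY hr'))).1 (mem_centralizer_singleton_iff.2 h1))
  have g2 := (Subgroup.mul_mem_cancel_left _ (cβ (RY hr))).1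
    ((Subgroup.mul_mem_cancel_right _ (cβ (RY hr'))).1 (mem_centralizer_singleton_iff.2 h2))
  refine mul_mem (mul_mem (RY hr) ?_) (RY hr')
  have cα : ∀ c, S.x E.α c ∈ centralizer {S.x E.θ 1} := fun c =>
    mem_centralizer_singleton_iff.2 (A.com (by rw [E.ip_αθ]; omega) _ _)
  have n1 := mem_centralizer_singleton_iff.1 ((Subgroup.mul_mem_cancel_left _ (cα a)).1
    ((Subgroup.mul_mem_cancel_right _ (cα b)).1 g1))
  have wθ : w E.θ = E.θ :=
    (A.x_inj one_ne_zero ((ex _ _).symm.trans (mul_inv_eq_iff_eq_mul.2 n1))).1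
  have e1 : S.x (w E.β) 1 * S.x E.θ b = S.x E.β 1 * S.x E.θ a := by
    have c1 := A.conj_x (a := E.α) E.hβ a 1
    have c2 := A.conj_x (a := E.α) E.hβ b 1
    have c3 := ex E.θ b
    rw [mul_one] at c1 c2
    rw [wθ] at c3
    rw [← c1, ← c3, ← ex, ← A.x_inv E.α a, inv_inv]
    calc n * S.x E.β 1 * n⁻¹ * (n * S.x E.θ b * n⁻¹) = n * (S.x E.β 1 * S.x E.θ b) * n⁻¹ := by group
      _ = (S.x E.α a)⁻¹ * (S.x E.α a * n * S.x E.α b * S.x E.β 1) * (S.x E.α b)⁻¹ * n⁻¹ := by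
        rw [← c2]; group
      _ = _ := by rw [mem_centralizer_singleton_iff.1 g2, A.x_inv E.α a]; group
  have ne : E.β ≠ E.θ := fun e => by
    have := E.ip_βθ
    rw [e, E.ip_self] at this
    omega
  have pos : ∀ s ∈ ({E.θ, E.β} : Set ι), Φ.Pos s := by
    rintro s (rfl | rfl)
    exacts [E.pos_θ, E.pos_β]
  have wβ : w E.β = E.β := by
    have cl : Φ.Closed {E.θ, E.β} := E.closed_of pos fun a ha b hb k hk => by
      have h1 := (E.radd_ip hk).1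
      have h2 := E.ip_βθ
      have h3 := ip_comm (Φ := Φ) E.θ E.β
      have h4 := E.ip_self E.θ
      have h5 := E.ip_self E.β
      rcases ha with rfl | rfl <;> rcases hb with rfl | rfl <;> omega
    rcases A.nd.mem_of_x_mem_UU cl pos one_ne_zero (r := w E.β) (by
      rw [eq_mul_inv_of_mul_eq e1]
      exact mul_mem (mul_mem (S.x_mem_UU (by simp) _) (S.x_mem_UU (by simp) _))
        (inv_mem (S.x_mem_UU (by simp) _))) with e | e
    · exact absurd (w.injective (e.trans wθ.symm)) ne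
    · exact e
  rw [wβ] at e1
  obtain rfl := A.nd.x_injective _ (mul_left_cancel e1)
  have wα : w E.α = E.α := by
    have := E.hβ.apply hw
    rw [wβ, wθ] at this
    exact this.symm.unique E.hβ.symm
  have := ex E.α b
  rw [wα, mul_inv_eq_iff_eq_mul] at this
  rw [← this, mul_assoc, A.x_sq, mul_one]
  have wJ := Φ.mem_WJ_of_Inv hw fun s hs => (E.orth_θβ_iff s).1 (by
    have p := Φ.pos_neg_iff.2 hs.2
    have a1 := ip_apply hw s E.θ
    have a2 := ip_apply hw s E.β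
    have a3 := E.nonneg_θ hs.1
    have a4 := E.nonneg_θ p
    have a5 := E.ip_αθ
    rw [wθ] at a1
    rw [wβ] at a2
    rw [ip_neg_left] at a4
    have a6 := E.nonneg_β hs.1 fun e => by rw [e] at a1 a4; omega
    have a7 := E.nonneg_β p fun e => by rw [← e, ip_neg_left] at a5; omega
    rw [ip_neg_left] at a7
    omega)
  obtain ⟨h, hh, L, hL, rfl⟩ := S.mem_NJ_iff.1 (A.nd.mem_NJ_of_acts hn wJ ac)
  rw [A.H_two hq, mem_bot] at hh
  rw [hh, one_mul]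
  exact A.lev_le2 (S.UU_mono (fun s hs => (E.orth_θβ_iff s).2 hs) (lev_nprod hL))

/-- perfect subgroups of `C(z)` -/
theorem pf_le_Y (hc : ∀ P ≤ CL S, IsPGroup 2 P → IsCyclic P) {M : Subgroup G} (hM : Pf M)
    (h : M ≤ NL S) {r : ι} {c : F} (h0 : c ≠ 0) (hz : M ≤ centralizer {S.x r c}) : M ≤ Y S r :=
  (le_inf (A.pf_le hc hM h) hz).trans (A.cent_x r h0).le

/-- an element normalising `Y` normalises `Q` -/
theorem norm_Q_of_Y {g : G} (h : g ∈ normalizer (Y S E.θ : Set G)) :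
    g ∈ normalizer (Q S E.θ : Set G) :=
  lev_norm (A.pg_Q _) (A.Q_le_U.trans A.U_le_Y) (A.Y_norm_Q _) (fun _ => A.o2_Y) h

theorem norm_R2_of_Y2 {g : G} (h : g ∈ normalizer (Y2 S E.θ E.β : Set G)) :
    g ∈ normalizer (R2 S E.θ E.β : Set G) :=
  lev_norm A.pg_R2 A.lev_R2_le A.Y2_norm_R2 (fun _ => A.o2_Y2) h

/-- the root elements of `± α` normalise `Y2` and act trivially modulo `R2` -/
theorem alpha_Y2 {a : ι} (ha : a = E.α ∨ a = Φ.neg E.α) (c : F) :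
    S.x a c ∈ normalizer (Y2 S E.θ E.β : Set G) ∧
      ∀ y ∈ Y2 S E.θ E.β, S.x a c * y * (S.x a c)⁻¹ * y⁻¹ ∈ R2 S E.θ E.β := by
  have main : ∀ y ∈ Y2 S E.θ E.β, S.x a c * y * (S.x a c)⁻¹ * y⁻¹ ∈ R2 S E.θ E.β := by
    intro y hy
    refine S.UU_induction (p := fun y => S.x a c * y * (S.x a c)⁻¹ * y⁻¹ ∈ R2 S E.θ E.β) ?_ ?_ hy
    · simp
    intro s hs t g hg ih
    have : S.x a c * S.x s t * (S.x a c)⁻¹ * (S.x s t)⁻¹ ∈ R2 S E.θ E.β := by
      obtain ⟨h1, h2⟩ : 0 ≤ ip Φ s E.θ ∧ 0 ≤ ip Φ s E.β := hs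
      by_cases h0 : 0 ≤ ip Φ a s
      · rw [A.com h0, mul_inv_cancel_right, mul_inv_cancel]
        exact one_mem _
      have a1 := E.ip_αθ
      have a2 := E.ip_αβ
      have a3 : ip Φ E.θ s = ip Φ E.α s + ip Φ E.β s := E.hβ.ip_left s
      have a4 := ip_neg_left (Φ := Φ) E.α
      rw [ip_comm E.θ, ip_comm E.β] at a3
      rcases E.ip_cases a s with ⟨-, e⟩ | e | e | e | ⟨e, -⟩
      · omega
      · omega
      · omega
      · obtain ⟨k, hk⟩ := E.exists_add e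
        rw [A.rel.cm _ _ _ hk]
        refine S.x_mem_UU (show 0 ≤ ip Φ k E.θ ∧ 0 ≤ ip Φ k E.β ∧ 1 ≤ ip Φ k E.θ + ip Φ k E.β from
          ?_) _
        rw [hk.ip_left, hk.ip_left]
        rcases ha with rfl | rfl
        · omega
        · rw [a4] at e
          rw [a4, a4]
          omega
      · exfalso
        rcases ha with rfl | rfl
        · rw [e, a4] at h1
          omega
        · rw [e, Φ.neg_neg] at h2
          omega
    convert mul_mem ih ((mem_normalizer_iff.1 (A.Y2_norm_R2 hg) _).1 this) using 1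
    group
  refine ⟨mem_normalizer_fintype fun y hy => ?_, main⟩
  simpa using mul_mem (A.lev_R2_le (main y hy)) hy

/-- for a collinear pair `a, r = a + b` the root group `X_b` normalises `Y2 a r` -/
theorem norm_Y2 {a b r : ι} (h : RAdd Φ a b r) (c : F) :
    S.x b c ∈ normalizer (Y2 S a r : Set G) := by
  obtain ⟨h1, -, h3⟩ := E.radd_ip h
  refine mem_normalizer_fintype fun y hy => S.x_conj_mem_UU (fun s hs => ?_) c hy
  obtain ⟨s1, s2⟩ : 0 ≤ ip Φ s a ∧ 0 ≤ ip Φ s r := hs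
  have ne : s ≠ Φ.neg b := fun e => by
    rw [e, ip_neg_left] at s2
    omega
  refine ⟨ne, fun k hk => ?_⟩
  have hk := (E.isSum_iff ne).1 hk
  have a1 := (E.radd_ip hk).1
  have a2 := h.ip_right s
  show 0 ≤ ip Φ k a ∧ 0 ≤ ip Φ k r
  rw [hk.ip_left, hk.ip_left, ip_comm b a]
  rw [ip_comm s b] at a2
  omega

end Amb

end CfsgLib.SLE
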