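import Mathlib
import Cfsg.Agent.Lib.SLE.CenA

/-!
# Centralisers of ideals of `U`
-/

set_option autoImplicit false

namespace CfsgLib.SLE

open CfsgLib.RGD CfsgLib.Stein Subgroup
open scoped commutatorElement Pointwise

universe u

variable {ι κ : Type} [Fintype κ] [DecidableEq κ] [Finite ι] {Φ : RootSys ι κ} {E : ER Φ}
  {F : Type} [Field F] [Finite F] [CharP F 2] {G : Type u} [Group G] [Finite G]
  {S : StSys Φ F G}

theorem cn_comm {u g x : G} (h1 : u * g * x = x * (u * g)) (h2 : g * x = x * g) : u * x = x * u := by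
  rw [mul_assoc, h2, ← mul_assoc, ← mul_assoc] at h1
  exact mul_right_cancel h1

theorem cn_triv {g x : G} (h : g * x = x * g) (K : Subgroup G) : g * x * g⁻¹ * x⁻¹ ∈ K := by
  rw [h, mul_inv_cancel_right, mul_inv_cancel]
  exact one_mem _

theorem cn_std1 {g : G} {σ : F ≃+* F} (h : StdD S g 1 (fun _ => 1) σ) (r : ι) :
    g * S.x r 1 = S.x r 1 * g := by
  rw [← mul_inv_eq_iff_eq_mul, h.2, map_one, one_mul]
  rfl

/-- transport of a centraliser along an exact element -/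
theorem cn_move {n g : G} {w : Equiv.Perm ι} (hn : Exa S n w) {T T' : Set ι}
    (hT : ∀ r ∈ T, w r ∈ T') (h : g ∈ centralizer (S.UU T' : Set G)) :
    n⁻¹ * g * n ∈ centralizer (S.UU T : Set G) := by
  refine mem_centralizer_iff.2 fun v hv => ?_
  have := mem_centralizer_iff.1 h _ (hn.conj_mem hT hv)
  calc v * (n⁻¹ * g * n) = n⁻¹ * (n * v * n⁻¹ * g) * n := by group
    _ = _ := by rw [this]; group

namespace Amb

variable (A : Amb E S) {g : G}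
include A

theorem mem_pair {a b : ι} (hab : 0 ≤ ip Φ b a) {w : G} (hw : w ∈ S.UU {a, b}) :
    ∃ c e, w = S.x a c * S.x b e := by
  refine S.UU_induction (p := fun w => ∃ c e, w = S.x a c * S.x b e)
    ⟨0, 0, by simp [S.x_zero]⟩ ?_ hw
  rintro r (rfl | rfl) t g - ⟨c, e, rfl⟩
  · exact ⟨c + t, e, by rw [mul_assoc, A.com hab, S.x_add, mul_assoc]⟩
  · exact ⟨c, e + t, by rw [S.x_add, mul_assoc]⟩

theorem cn_Q (hg : g ∈ NL S) (h : g ∈ centralizer (Q S E.θ : Set G)) :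
    ∃ c, ∃ k ∈ CL S, g = S.x E.θ c * k := by
  have h' := mem_cent_UU.1 h
  obtain ⟨u, hu, hk⟩ := A.cenU E.idl_Q E.gen_Q hg fun r hr c => cn_triv (h' r hr c).symm _
  obtain ⟨c, hc⟩ := S.mem_X_iff.1 (inv_mem (A.mem_Z_of_Q hu fun r hr =>
    cn_comm (aa_CL_comm hk (S.x_mem_grp r 1)).symm (h' r hr 1).symm))
  exact ⟨c, _, hk, by rw [← hc, inv_mul_cancel_left]⟩

theorem cn_one (hg : g ∈ NL S) (h : g ∈ centralizer (Y2 S E.θ E.β : Set G)) :
    ∃ c e, ∃ k ∈ CL S, g = S.x E.θ c * S.x E.β e * k := by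
  have h' : ∀ r, Φ.Pos r → r ≠ E.α → ∀ c, g * S.x r c = S.x r c * g := fun r h1 h2 c =>
    (mem_cent_UU.1 h r ⟨E.nonneg_θ h1, E.nonneg_β h1 h2⟩ c).symm
  obtain ⟨u, hu, hk⟩ := A.cenU (E.idl_diff E.i₀) (E.gen_diff E.i₀) hg
    fun r hr c => cn_triv (h' r hr.1 hr.2 c) _
  obtain ⟨c, e, hc⟩ := A.mem_W_iff.1 (inv_mem (A.mem_W_of_R hu fun r h1 h2 =>
    cn_comm (aa_CL_comm hk (S.x_mem_grp r 1)).symm (h' r h1 h2 1)))
  exact ⟨c, e, _, hk, by rw [← hc, inv_mul_cancel_left]⟩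

theorem cn_zero (hg : g ∈ NL S) (h : g ∈ centralizer (Y2 S E.a₀ E.b₀ : Set G)) :
    ∃ c e, ∃ k ∈ CL S, g = S.x E.a₀ c * S.x E.b₀ e * k := by
  have h' := mem_cent_UU.1 h
  have o1 := E.ort
  have o2 : ip Φ E.b₀ E.a₀ = 0 := by rw [ip_comm, o1]
  have la : ∀ r, r ≠ E.a₀ → ip Φ r E.a₀ ≤ 1 := fun r hr => by
    by_contra hne
    exact hr (E.eq_of_ip (by omega)).symm
  have lb : ∀ r, r ≠ E.b₀ → ip Φ r E.b₀ ≤ 1 := fun r hr => by
    by_contra hne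
    exact hr (E.eq_of_ip (by omega)).symm
  have sa := E.ip_self E.a₀
  have sb := E.ip_self E.b₀
  have t0 : ∀ r, ip Φ r E.a₀ + ip Φ r E.b₀ ≤ 2 := fun r => by
    by_cases h1 : r = E.a₀
    · rw [h1]; omega
    by_cases h2 : r = E.b₀
    · rw [h2]; omega
    have := la r h1
    have := lb r h2
    omega
  have t1 : ∀ r, 1 ≤ ip Φ r E.a₀ + ip Φ r E.b₀ → 0 ≤ ip Φ r E.a₀ ∧ 0 ≤ ip Φ r E.b₀ := fun r hr => by
    by_cases h1 : r = E.a₀
    · rw [h1]; omega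
    by_cases h2 : r = E.b₀
    · rw [h2]; omega
    have := la r h1
    have := lb r h2
    omega
  have ta : ∀ a b k, RAdd Φ a b k → ip Φ k E.a₀ + ip Φ k E.b₀ =
      ip Φ a E.a₀ + ip Φ a E.b₀ + (ip Φ b E.a₀ + ip Φ b E.b₀) := fun a b k hk => by
    rw [hk.ip_left, hk.ip_left]; ring
  obtain ⟨u, hu, hk⟩ := A.cenU E.idl_orth E.ogen hg fun r hr c => cn_triv (h' r (t1 r hr) c).symm _
  have hc : ∀ r, 0 ≤ ip Φ r E.a₀ ∧ 0 ≤ ip Φ r E.b₀ → u * S.x r 1 = S.x r 1 * u := fun r hr =>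
    cn_comm (aa_CL_comm hk (S.x_mem_grp r 1)).symm (h' r hr 1).symm
  have h2 := A.elim_gr (fun r => ip Φ r E.a₀ + ip Φ r E.b₀) (fun r hr => by
    by_contra hne
    refine Φ.not_neg_of_pos hr (Φ.pos_neg_iff.1 (E.idl_orth.1 _ ?_))
    show (1 : ℤ) ≤ _
    rw [ip_neg_left, ip_neg_left]
    omega) ta 2 hu fun r hr h1 => by
      obtain ⟨e, h3, h4⟩ := E.oel r hr h1
      obtain ⟨k, hk⟩ := E.exists_add h4
      exact ⟨e, k, E.idl_orth.1 e h3, hk, A.ca_cf (hc e (t1 e h3)) k⟩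
  have lay : Lay Φ {r | Φ.Pos r ∧ 2 ≤ ip Φ r E.a₀ + ip Φ r E.b₀} ∅ :=
    ⟨fun _ h => h.1, Set.empty_subset _, fun a ha b hb k hk => by
      have := ta a b k hk
      have := t0 k
      have := ha.2
      have := hb.2
      omega⟩
  have h3 : u ∈ S.UU {E.a₀, E.b₀} := A.mem_of_cf hu fun r hr hne => by
    by_cases hT : 2 ≤ ip Φ r E.a₀ + ip Φ r E.b₀
    · have h4 := la r fun e => hne (Or.inl e)
      have h5 := lb r fun e => hne (Or.inr e)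
      obtain ⟨e, e1, e2, e3⟩ := E.oel2 r (by omega) (by omega)
      obtain ⟨k, hk⟩ := E.exists_add e3
      have := A.cf_conj_add lay (a := e) ⟨fun h => by
          have := h.2
          rw [ip_neg_left, ip_neg_left] at this
          omega, fun s hs k hk => by
          have := ta _ _ _ hk
          have := hs.2
          exact ⟨E.idl_orth.1 k (by show (1 : ℤ) ≤ _; omega), by omega⟩⟩
        ⟨fun h => h, fun _ h => h.elim⟩ 1 h2 hk.symm fun h => h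
      rw [← hc e ⟨e1.ge, e2.ge⟩, mul_inv_cancel_right, one_mul] at this
      exact left_eq_add.1 this
    · exact A.cf_eq_zero (E.closed_of lay.pos fun a ha b hb k hk => (lay.add a ha b hb k hk).elim)
        lay.pos h2 fun h => hT h.2
  obtain ⟨c, e, hc⟩ := A.mem_pair o2.ge (inv_mem h3)
  exact ⟨c, e, _, hk, by rw [← hc, inv_mul_cancel_left]⟩

theorem cn_Y2 {a b a' b' : ι} (e : ip Φ a' b' = ip Φ a b) (hg : g ∈ NL S)
    (h : g ∈ centralizer (Y2 S a b : Set G))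
    (H : ∀ g ∈ NL S, g ∈ centralizer (Y2 S a' b' : Set G) →
      ∃ c e, ∃ k ∈ CL S, g = S.x a' c * S.x b' e * k) :
    ∃ c e, ∃ k ∈ CL S, g = S.x a c * S.x b e * k := by
  obtain ⟨w, hw, rfl, rfl⟩ := E.ptrans e
  obtain ⟨n, hn, hx⟩ := A.exists_exa hw
  have hN := aa_grp_le (S.N_le_grp (A.N1_le hn))
  obtain ⟨c, e, k, hk, e1⟩ := H _ (mul_mem (mul_mem (inv_mem hN) hg) hN) (cn_move hx (fun r hr => by
    show 0 ≤ ip Φ (w r) (w a') ∧ 0 ≤ ip Φ (w r) (w b')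
    rw [ip_apply hw, ip_apply hw]
    exact hr) h)
  refine ⟨c, e, _, aa_conj_CL hN hk, ?_⟩
  rw [← hx, ← hx]
  calc g = n * (n⁻¹ * g * n) * n⁻¹ := by group
    _ = _ := by rw [e1]; group

theorem center_U : S.U ⊓ centralizer (S.U : Set G) = S.X E.θ := by
  refine le_antisymm (fun u hu => A.mem_Z_of_simple hu.1 fun i =>
    (mem_centralizer_iff.1 hu.2 _ (S.x_mem_U (Φ.pos_simple i) 1)).symm) (le_inf ?_ ?_)
  · exact S.UU_le_U (by rintro r rfl; exact E.pos_θ)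
  · exact le_centralizer_iff.1 (A.U_le_Y.trans (A.Y_le_cent _))

theorem cen_U (hg : g ∈ NL S) (h : g ∈ centralizer (S.U : Set G)) :
    ∃ c, ∃ k ∈ CL S, g = S.x E.θ c * k :=   A.cn_Q hg (centralizer_le A.Q_le_U h)

theorem cen_Q (r : ι) (hg : g ∈ NL S) (h : g ∈ centralizer (Q S r : Set G)) :
    ∃ c, ∃ k ∈ CL S, g = S.x r c * k := by
  obtain ⟨w, hw, rfl⟩ := E.exists_θ r
  obtain ⟨n, hn, hx⟩ := A.exists_exa hw
  have hN := aa_grp_le (S.N_le_grp (A.N1_le hn))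
  obtain ⟨c, k, hk, e1⟩ := A.cn_Q (mul_mem (mul_mem (inv_mem hN) hg) hN) (cn_move hx (fun r hr => by
    show 1 ≤ ip Φ (w r) (w E.θ)
    rw [ip_apply hw]
    exact hr) h)
  refine ⟨c, _, aa_conj_CL hN hk, ?_⟩
  rw [← hx]
  calc g = n * (n⁻¹ * g * n) * n⁻¹ := by group
    _ = _ := by rw [e1]; group

theorem cen_Y (r : ι) (hg : g ∈ NL S) (h : g ∈ centralizer (Y S r : Set G)) :
    ∃ c, ∃ k ∈ CL S, g = S.x r c * k :=   A.cen_Q r hg (centralizer_le (S.UU_mono fun _ h => by exact (zero_le_one' ℤ).trans h) h)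

/-- centralisers for collinear and for orthogonal pairs -/
theorem cen_Y2 {a b : ι} (hab : ip Φ a b = 1 ∨ ip Φ a b = 0) (hg : g ∈ NL S)
    (h : g ∈ centralizer (Y2 S a b : Set G)) :
    ∃ c e, ∃ k ∈ CL S, g = S.x a c * S.x b e * k := by
  rcases hab with hab | hab
  · exact A.cn_Y2 (by rw [hab, ip_comm, E.ip_βθ]) hg h fun _ => A.cn_one
  · exact A.cn_Y2 (by rw [hab, E.ort]) hg h fun _ => A.cn_zero

/-- **CV** -/
theorem cen_V (hg : g ∈ NL S) (h : ∀ v ∈ Q S E.θ, g * v * g⁻¹ * v⁻¹ ∈ S.X E.θ) :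
    ∃ v ∈ Q S E.θ, ∃ k ∈ CL S, g = v * k := by
  have hQ : ∀ r, 1 ≤ ip Φ r E.θ → ∀ c, S.x r c ∈ Q S E.θ := fun r hr c => S.x_mem_UU hr c
  have hz : ∀ z ∈ S.X E.θ, ∀ v ∈ Q S E.θ, Commute z v := fun z hz v hv =>
    mem_centralizer_iff.1 (A.Y_le_cent _ (A.U_le_Y (A.Q_le_U hv))) z hz
  have k1 : ∀ c, g * S.x E.θ c = S.x E.θ c * g := fun c => by
    have ha := hQ _ E.ip_αθ.ge c
    have hb := hQ _ E.ip_βθ.ge 1
    have e := A.rel.cm _ _ _ E.hβ c 1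
    rw [mul_one] at e
    change S.x E.α c * _ * (S.x E.α c)⁻¹ * _ = _ at e
    have e1 := h _ ha
    have e2 := h _ hb
    generalize S.x E.α c = a at *
    generalize S.x E.β 1 = b at *
    generalize hy : g * a * g⁻¹ * a⁻¹ = y at e1
    generalize hz' : g * b * g⁻¹ * b⁻¹ = z at e2
    have c1 := hz y e1
    have c2 := hz z e2
    have hzQ : z ∈ Q S E.θ := S.UU_mono (by rintro r rfl; show (1 : ℤ) ≤ _; rw [E.ip_self]; omega) e2
    rw [← mul_inv_eq_iff_eq_mul, ← e]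
    calc g * (a * b * a⁻¹ * b⁻¹) * g⁻¹ = (y * a) * (z * b) * (y * a)⁻¹ * (z * b)⁻¹ := by
          rw [← hy, ← hz']; group
      _ = y * (a * (z * b) * a⁻¹) * y⁻¹ * (z * b)⁻¹ := by group
      _ = a * (z * b) * a⁻¹ * (z * b)⁻¹ := by
          rw [(c1 _ (mul_mem (mul_mem ha (mul_mem hzQ hb)) (inv_mem ha))).eq, mul_inv_cancel_right]
      _ = z * (a * b * a⁻¹ * b⁻¹) * z⁻¹ := by rw [← mul_assoc a, ← (c2 a ha).eq]; group
      _ = _ := by
          rw [(c2 _ (mul_mem (mul_mem (mul_mem ha hb) (inv_mem ha)) (inv_mem hb))).eq,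
            mul_inv_cancel_right]
  obtain ⟨u, hu, hk⟩ := A.cenU E.idl_Q E.gen_Q hg fun r hr c => by
    by_cases hθ : r = E.θ
    · rw [hθ]
      exact cn_triv (k1 c) _
    · refine S.UU_mono ?_ (h _ (hQ r hr c))
      rintro s rfl
      exact ⟨by show (1 : ℤ) ≤ _; rw [E.ip_self]; omega, E.ht_lt_θ hθ⟩
  refine ⟨u⁻¹, inv_mem (A.mem_Q_of_comm hu fun r hr => ?_), _, hk, by rw [inv_mul_cancel_left]⟩
  obtain ⟨t, ht⟩ := S.mem_X_iff.1 (h _ (hQ r hr 1))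
  have e1 := aa_CL_comm hk (aa_conj_grp' hg (S.x_mem_grp r 1))
  have e2 : u * S.x r 1 * u⁻¹ = g⁻¹ * S.x r 1 * g := by
    calc u * S.x r 1 * u⁻¹ = u * g * (g⁻¹ * S.x r 1 * g) * (u * g)⁻¹ := by group
      _ = _ := by rw [← e1, mul_inv_cancel_right]
  have e3 : g⁻¹ * S.x r 1 * g * (S.x r 1)⁻¹ = (g⁻¹ * (g * S.x r 1 * g⁻¹ * (S.x r 1)⁻¹) * g)⁻¹ := by
    group
  rw [e2, e3, ht, mul_assoc, ← k1, inv_mul_cancel_left]
  exact inv_mem (S.x_mem_X _ _)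

theorem cen_Q1 (hg : g ∈ NL S) (h : ∀ r, 1 ≤ ip Φ r E.θ → g * S.x r 1 = S.x r 1 * g) :
    ∃ u ∈ S.X E.θ, ∃ σ, StdD S (u * g) 1 (fun _ => 1) σ := by
  obtain ⟨u, hu, σ, hs⟩ := A.cenU1 E.idl_Q E.gen_Q hg fun r hr => cn_triv (h r hr) _
  exact ⟨u, A.mem_Z_of_Q hu fun r hr => cn_comm (cn_std1 hs r) (h r hr), σ, hs⟩

theorem cen_R1 (hg : g ∈ NL S) (h : ∀ r, Φ.Pos r → r ≠ E.α → g * S.x r 1 = S.x r 1 * g) :
    ∃ u ∈ S.UU {E.θ, E.β}, ∃ σ, StdD S (u * g) 1 (fun _ => 1) σ := by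
  obtain ⟨u, hu, σ, hs⟩ := A.cenU1 (E.idl_diff E.i₀) (E.gen_diff E.i₀) hg
    fun r hr => cn_triv (h r hr.1 hr.2) _
  exact ⟨u, A.mem_W_of_R hu fun r h1 h2 => cn_comm (cn_std1 hs r) (h r h1 h2), σ, hs⟩

end Amb

end CfsgLib.SLE
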