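import Mathlib
import Cfsg.Agent.Lib.SLE.Cen

/-!
# The module `V = Q / Z`
-/

set_option autoImplicit false
set_option linter.unusedSectionVars false

namespace CfsgLib.SLE

open CfsgLib.RGD CfsgLib.Stein Subgroup
open scoped commutatorElement Pointwise

universe u

variable {ι κ : Type} [Fintype κ] [DecidableEq κ] [Finite ι] {Φ : RootSys ι κ} {E : ER Φ}
  {F : Type} [Field F] [Finite F] [CharP F 2] {G : Type u} [Group G] [Finite G]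
  {S : StSys Φ F G}

open Classical in
/-- the commutator form on `Q` -/
noncomputable def bf (E : ER Φ) (S : StSys Φ F G) (u v : G) : F :=
  cf S (u * v * u⁻¹ * v⁻¹) E.θ

theorem vec_ne {r : ι} (h : ip Φ r E.θ = 1) : r ∉ ({E.θ} : Set ι) := fun e => by
  rw [Set.mem_singleton_iff.1 e, E.ip_self] at h
  omega

theorem vec_one {r : ι} (h : r ∈ {r | 1 ≤ ip Φ r E.θ}) (h' : r ∉ ({E.θ} : Set ι)) :
    ip Φ r E.θ = 1 := by
  by_contra e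
  have h : 1 ≤ ip Φ r E.θ := h
  exact h' (E.eq_of_ip (r := r) (by omega)).symm

theorem vec_mem {r : ι} (h : ip Φ r E.θ = 1) : r ∈ {r | 1 ≤ ip Φ r E.θ} := h.ge

theorem vec_stab {a : ι} (ha : ip Φ a E.θ = 0) :
    Stab Φ a {r | 1 ≤ ip Φ r E.θ} ∧ Stab Φ a {E.θ} := by
  refine ⟨⟨fun h => ?_, fun s hs k hk => ?_⟩, fun h => ?_, fun s hs k hk => ?_⟩
  · have h : 1 ≤ ip Φ (Φ.neg a) E.θ := h
    rw [ip_neg_left] at h
    omega
  · have hs : 1 ≤ ip Φ s E.θ := hs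
    show 1 ≤ ip Φ k E.θ
    rw [hk.ip_left]
    omega
  · have := E.ip_self E.θ
    rw [← Set.mem_singleton_iff.1 h, ip_neg_left, Set.mem_singleton_iff.1 h] at this
    omega
  · have := (E.radd_ip hk).1
    rw [Set.mem_singleton_iff.1 hs, ip_comm] at this
    omega

theorem vec_top {i : κ} (h : i ≠ E.i₀) : ip Φ (Φ.simple i) E.θ = 0 := by rw [E.top, if_neg h]

namespace Amb

variable (A : Amb E S)
include A

theorem lay_Q : Lay Φ {r | 1 ≤ ip Φ r E.θ} {E.θ} := by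
  refine ⟨fun r hr => E.pos_of_θ hr, fun r hr => ?_, fun a ha b hb k hk => ?_⟩
  · show 1 ≤ ip Φ r E.θ
    rw [Set.mem_singleton_iff.1 hr, E.ip_self]
    omega
  · have ha : 1 ≤ ip Φ a E.θ := ha
    have hb : 1 ≤ ip Φ b E.θ := hb
    exact (E.eq_of_ip (r := k) (by rw [hk.ip_left]; omega)).symm

theorem Z_le_Q : S.X E.θ ≤ Q S E.θ := S.UU_mono A.lay_Q.sub

theorem vec_mul {u v : G} (hu : u ∈ Q S E.θ) (hv : v ∈ Q S E.θ) {r : ι} (hr : ip Φ r E.θ = 1) :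
    cf S (u * v) r = cf S u r + cf S v r := A.cf_mul A.lay_Q hu hv (vec_ne hr)

theorem vec_mem_Z {u v : G} (hu : u ∈ Q S E.θ) (hv : v ∈ Q S E.θ)
    (h : ∀ r, ip Φ r E.θ = 1 → cf S u r = cf S v r) : u * v⁻¹ ∈ S.X E.θ :=
  A.mul_inv_mem A.lay_Q hu hv fun r h1 h2 => h r (vec_one h1 h2)

theorem vec_Q_le_Y : Q S E.θ ≤ Y S E.θ := A.Q_le_U.trans A.U_le_Y

theorem vec_cZ {y z : G} (hy : y ∈ Y S E.θ) (hz : z ∈ S.X E.θ) : y * z * y⁻¹ = z :=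
  mul_inv_eq_iff_eq_mul.2 (mem_centralizer_iff.1 (A.Y_le_cent _ hy) z hz).symm

theorem vec_conj {y v : G} (hy : y ∈ Y S E.θ) (hv : v ∈ Q S E.θ) : y * v * y⁻¹ ∈ Q S E.θ :=
  (mem_normalizer_iff.1 (A.Y_norm_Q _ hy) v).1 hv

theorem comm_Q {u v : G} (hu : u ∈ Q S E.θ) (hv : v ∈ Q S E.θ) :
    u * v * u⁻¹ * v⁻¹ = S.x E.θ (bf E S u v) := by
  have := A.vec_mem_Z (mul_mem hu hv) (mul_mem hv hu) fun r hr => by
    rw [A.vec_mul hu hv hr, A.vec_mul hv hu hr, add_comm]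
  rw [mul_inv_rev, ← mul_assoc] at this
  obtain ⟨c, e⟩ := S.mem_X_iff.1 this
  rw [bf, e, A.cf_x_self E.pos_θ]

theorem sq_Q {u : G} (hu : u ∈ Q S E.θ) : u * u ∈ S.X E.θ := by
  have := A.vec_mem_Z hu (inv_mem hu) fun r hr => (A.cf_inv A.lay_Q hu (vec_ne hr)).symm
  rwa [inv_inv] at this

theorem center_Q {u : G} (hu : u ∈ Q S E.θ) (h : ∀ v ∈ Q S E.θ, u * v = v * u) : u ∈ S.X E.θ :=
  A.mem_Z_of_Q (A.Q_le_U hu) fun _ hr => h _ (S.x_mem_UU hr 1)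

theorem mem_Z_iff {u : G} (hu : u ∈ Q S E.θ) :
    u ∈ S.X E.θ ↔ ∀ r, ip Φ r E.θ = 1 → cf S u r = 0 := by
  refine ⟨fun h r hr => A.cf_eq_zero (StSys.closed_singleton _)
    (fun r hr => Set.mem_singleton_iff.1 hr ▸ E.pos_θ) h (vec_ne hr), fun h => ?_⟩
  simpa using A.vec_mem_Z hu (one_mem _) fun r hr => by rw [h r hr, A.cf_one]

theorem congr_iff {u v : G} (hu : u ∈ Q S E.θ) (hv : v ∈ Q S E.θ) :
    u * v⁻¹ ∈ S.X E.θ ↔ ∀ r, ip Φ r E.θ = 1 → cf S u r = cf S v r := by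
  refine ⟨fun h r hr => ?_, A.vec_mem_Z hu hv⟩
  have := A.vec_mul (A.Z_le_Q h) hv hr
  rwa [inv_mul_cancel_right, (A.mem_Z_iff (A.Z_le_Q h)).1 h r hr, zero_add] at this

theorem bf_mul_left {u u' v : G} (hu : u ∈ Q S E.θ) (hu' : u' ∈ Q S E.θ) (hv : v ∈ Q S E.θ) :
    bf E S (u * u') v = bf E S u v + bf E S u' v := by
  refine A.nd.x_injective E.θ ?_
  rw [← A.comm_Q (mul_mem hu hu') hv, add_comm, S.x_add,
    ← A.vec_cZ (A.vec_Q_le_Y hu) (S.x_mem_X E.θ (bf E S u' v)), ← A.comm_Q hu hv,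
    ← A.comm_Q hu' hv]
  group

theorem bf_comm {u v : G} (hu : u ∈ Q S E.θ) (hv : v ∈ Q S E.θ) : bf E S u v = bf E S v u := by
  refine A.nd.x_injective E.θ ?_
  rw [← A.x_inv E.θ (bf E S v u), ← A.comm_Q hu hv, ← A.comm_Q hv hu]
  group

theorem vec_bf_zero {u v : G} (h : u * v = v * u) : bf E S u v = 0 := by
  rw [bf, h, mul_inv_cancel_right, mul_inv_cancel, A.cf_one]

theorem bf_x {a b : ι} (h : RAdd Φ a b E.θ) {u : G} (hu : u ∈ Q S E.θ) (c : F) :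
    bf E S u (S.x b c) = c * cf S u a := by
  obtain ⟨-, ha, hb⟩ := E.radd_ip h
  have hx : S.x b c ∈ Q S E.θ := S.x_mem_UU (vec_mem hb) c
  refine S.UU_induction (p := fun u => bf E S u (S.x b c) = c * cf S u a) ?_ ?_ hu
  · rw [A.vec_bf_zero (by simp), A.cf_one, mul_zero]
  intro r hr t g hg ih
  have hr' : S.x r t ∈ Q S E.θ := S.x_mem_UU hr t
  rw [A.bf_mul_left hg hr' hx, A.vec_mul hg hr' ha, ih, mul_add]
  congr 1
  by_cases e : r = a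
  · subst e
    rw [bf, A.rel.cm _ _ _ h, A.cf_x_self E.pos_θ, A.cf_x_self (E.pos_of_θ hr), mul_comm]
  rw [A.cf_x_ne (E.pos_of_θ hr) (Ne.symm e), mul_zero]
  refine A.vec_bf_zero (A.com ?_ _ _)
  by_contra h0
  rcases E.ip_cases r b with ⟨-, e'⟩ | e' | e' | e' | ⟨e', -⟩
  · omega
  · omega
  · omega
  · obtain ⟨k, hk⟩ := E.exists_add e'
    have := Set.mem_singleton_iff.1 (A.lay_Q.add r hr b (vec_mem hb) k hk)
    exact e ((this ▸ hk).symm.unique h.symm)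
  · exact Φ.ne_neg_of_pos (E.pos_of_θ hr) (E.pos_of_θ hb.ge) e'

/-- every family of coordinates occurs -/
theorem exists_Q (t : ι → F) : ∃ v ∈ Q S E.θ, ∀ r, ip Φ r E.θ = 1 → cf S v r = t r := by
  obtain ⟨L, hL, m⟩ := StSys.exists_list {r | 1 ≤ ip Φ r E.θ}
  exact ⟨S.xprod L t, S.xprod_mem_UU (fun r hr => (m r).1 hr) t, fun r hr =>
    (A.cf_xprod A.lay_Q hL (fun r hr => (m r).1 hr) t (vec_ne hr)).1 ((m r).2 (vec_mem hr))⟩

/-- the action of a root element orthogonal to `θ` on `V` -/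
theorem cf_V {a : ι} (ha : ip Φ a E.θ = 0) (c : F) {u : G} (hu : u ∈ Q S E.θ) {k : ι}
    (hk : ip Φ k E.θ = 1) :
    (∀ s, RAdd Φ s a k → cf S (S.x a c * u * (S.x a c)⁻¹) k = cf S u k + c * cf S u s) ∧
      (ip Φ k a ≠ 1 → cf S (S.x a c * u * (S.x a c)⁻¹) k = cf S u k) :=
  ⟨fun _ hs => A.cf_conj_add A.lay_Q (vec_stab ha).1 (vec_stab ha).2 c hu hs (vec_ne hk),
    fun h => A.cf_conj_fix A.lay_Q (vec_stab ha).1 (vec_stab ha).2 c hu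
      (fun _ _ e => h (by rw [ip_comm]; exact (E.radd_ip e).2.2)) (vec_ne hk)⟩

/-- an element of `Q` which is fixed modulo `Z` by `x_a(1)` -/
theorem cf_eq_zero_of_fix {a : ι} (ha : ip Φ a E.θ = 0) {u : G} (hu : u ∈ Q S E.θ)
    (h : S.x a 1 * u * (S.x a 1)⁻¹ * u⁻¹ ∈ S.X E.θ) {s : ι} (hs : ip Φ s E.θ = 1)
    (h1 : ip Φ s a = -1) : cf S u s = 0 := by
  obtain ⟨k, hk⟩ := E.exists_add h1
  have k1 : ip Φ k E.θ = 1 := by rw [hk.ip_left, hs, ha, add_zero]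
  have := (A.congr_iff (A.x_conj_mem (vec_stab ha).1 1 hu) hu).1 h k k1
  rw [(A.cf_V ha 1 hu k1).1 s hk, one_mul] at this
  exact add_eq_left.1 this

/-- **Schur**: an automorphism of `Q / Z` commuting with `Y` is a scalar -/
theorem scalar {k : G} (h1 : k ∈ normalizer (Q S E.θ : Set G)) (h2 : k ∈ normalizer (S.X E.θ : Set G))
    (h3 : ∀ y ∈ Y S E.θ, k * y * k⁻¹ * y⁻¹ ∈ Q S E.θ) : ∃ μ : F, μ ≠ 0 ∧
      (∀ v ∈ Q S E.θ, ∀ r, ip Φ r E.θ = 1 → cf S (k * v * k⁻¹) r = μ * cf S v r) ∧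
      ∀ c, k * S.x E.θ c * k⁻¹ = S.x E.θ (μ ^ 2 * c) := by
  have fQ : ∀ {v : G}, v ∈ Q S E.θ → k * v * k⁻¹ ∈ Q S E.θ := fun hv =>
    (mem_normalizer_iff.1 h1 _).1 hv
  have xQ : ∀ {r : ι}, ip Φ r E.θ = 1 → ∀ c, S.x r c ∈ Q S E.θ := fun hr c =>
    S.x_mem_UU (vec_mem hr) c
  have xY : ∀ {r : ι}, ip Φ r E.θ = 0 → ∀ c, S.x r c ∈ Y S E.θ := fun hr c =>
    S.x_mem_UU hr.ge c
  have key : ∀ {y v : G}, y ∈ Y S E.θ → v ∈ Q S E.θ → ∀ r, ip Φ r E.θ = 1 →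
      cf S (k * (y * v * y⁻¹) * k⁻¹) r = cf S (y * (k * v * k⁻¹) * y⁻¹) r := fun {y v} hy hv => by
    refine (A.congr_iff (fQ (A.vec_conj hy hv)) (A.vec_conj hy (fQ hv))).1 ?_
    have := A.comm_Q (h3 y hy) (A.vec_conj hy (fQ hv))
    rw [show k * (y * v * y⁻¹) * k⁻¹ * (y * (k * v * k⁻¹) * y⁻¹)⁻¹ = k * y * k⁻¹ * y⁻¹ *
      (y * (k * v * k⁻¹) * y⁻¹) * (k * y * k⁻¹ * y⁻¹)⁻¹ * (y * (k * v * k⁻¹) * y⁻¹)⁻¹ by group, this]
    exact S.x_mem_X _ _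
  obtain ⟨φ, hφ⟩ : ∃ φ : F → F, ∀ c, φ c = cf S (k * S.x E.β c * k⁻¹) E.β := ⟨_, fun _ => rfl⟩
  have base : ∀ c, k * S.x E.β c * k⁻¹ * (S.x E.β (φ c))⁻¹ ∈ S.X E.θ := fun c => by
    refine A.vec_mem_Z (fQ (xQ E.ip_βθ c)) (xQ E.ip_βθ _) fun s hs => ?_
    by_cases e : s = E.β
    · rw [e, A.cf_x_self E.pos_β, hφ]
    rw [A.cf_x_ne E.pos_β e]
    obtain ⟨i, r, hi, hr⟩ := E.up_V hs e
    refine A.cf_eq_zero_of_fix (vec_top hi) (fQ (xQ E.ip_βθ c)) (A.vec_mem_Z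
      (A.vec_conj (xY (vec_top hi) 1) (fQ (xQ E.ip_βθ c))) (fQ (xQ E.ip_βθ c)) fun r hr => ?_) hs
      (E.radd_ip hr).1
    rw [← key (xY (vec_top hi) 1) (xQ E.ip_βθ c) r hr, A.com (E.nonneg_β (Φ.pos_simple i)
      fun e => hi (Φ.simple_injective e)), mul_inv_cancel_right]
  have all : ∀ (n : ℕ) (r : ι), ip Φ r E.θ = 1 → Φ.ht E.β - Φ.ht r ≤ n → ∀ c,
      k * S.x r c * k⁻¹ * (S.x r (φ c))⁻¹ ∈ S.X E.θ := fun n => by
    induction n with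
    | zero =>
      intro r hr hn c
      by_cases e : r = E.β
      · exact e ▸ base c
      have := E.ht_lt_β (vec_ne hr) e
      omega
    | succ n ih =>
      intro r hr hn c
      by_cases e : r = E.β
      · exact e ▸ base c
      obtain ⟨i, s, hi, hs⟩ := E.up_V hr e
      have s1 : ip Φ s E.θ = 1 := by rw [hs.ip_left, hr, vec_top hi, add_zero]
      have := radd_ht hs
      rw [Φ.ht_simple] at this
      have nY : S.n (Φ.simple i) 1 ∈ Y S E.θ := S.n_mem_UU (vec_top hi).ge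
        (show 0 ≤ ip Φ (Φ.neg (Φ.simple i)) E.θ by rw [ip_neg_left, vec_top hi]; simp) 1
      have ex : ∀ c, S.n (Φ.simple i) 1 * S.x s c * (S.n (Φ.simple i) 1)⁻¹ = S.x r c := fun c => by
        rw [A.exa_n, (E.rf_add hs).2]
      refine A.vec_mem_Z (fQ (xQ hr c)) (xQ hr _) fun t ht => ?_
      rw [← ex, key nY (xQ s1 c) t ht, ← ex]
      refine (A.congr_iff (A.vec_conj nY (fQ (xQ s1 c))) (A.vec_conj nY (xQ s1 _))).1 ?_ t ht
      have z := ih s s1 (by omega) c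
      rw [← A.vec_cZ nY z] at z
      convert z using 1
      group
  have act : ∀ {r s : ι}, ip Φ r E.θ = 1 → ip Φ s E.θ = 1 → ∀ c,
      cf S (k * S.x r c * k⁻¹) s = cf S (S.x r (φ c)) s := fun {r s} hr hs c =>
    (A.congr_iff (fQ (xQ hr c)) (xQ hr _)).1 (all _ r hr (Int.self_le_toNat _) c) s hs
  have lin : ∀ c, φ c = φ 1 * c := fun c => by
    obtain ⟨a, a1, a2⟩ := E.ex2
    obtain ⟨i, s, hi, hs⟩ := E.up_V a2 fun e => by rw [e, E.ip_self] at a1; omega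
    have s1 : ip Φ s E.θ = 1 := by rw [hs.ip_left, a2, vec_top hi, add_zero]
    have := key (xY (vec_top hi) c) (xQ a2 1) s s1
    rw [(A.cf_V (vec_top hi) c (fQ (xQ a2 1)) s1).1 a hs, A.conj_x hs.symm,
      show k * (S.x a 1 * S.x s (c * 1)) * k⁻¹ = k * S.x a 1 * k⁻¹ * (k * S.x s (c * 1) * k⁻¹) by
        group, A.vec_mul (fQ (xQ a2 1)) (fQ (xQ s1 _)) s1, act s1 s1, act a2 a2,
      A.cf_x_self (E.pos_of_θ s1.ge), A.cf_x_self (E.pos_of_θ a2.ge), mul_one] at this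
    rw [add_left_cancel this, mul_comm]
  have main : ∀ v ∈ Q S E.θ, ∀ r, ip Φ r E.θ = 1 → cf S (k * v * k⁻¹) r = φ 1 * cf S v r := by
    intro v hv r hr
    refine S.UU_induction (p := fun v => cf S (k * v * k⁻¹) r = φ 1 * cf S v r) ?_ ?_ hv
    · rw [mul_one, mul_inv_cancel, A.cf_one, mul_zero]
    intro s hs t g hg ih
    have hx : S.x s t ∈ Q S E.θ := S.x_mem_UU hs t
    rw [show k * (g * S.x s t) * k⁻¹ = k * g * k⁻¹ * (k * S.x s t * k⁻¹) by group,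
      A.vec_mul (fQ hg) (fQ hx) hr, A.vec_mul hg hx hr, ih, mul_add]
    congr 1
    by_cases e : s ∈ ({E.θ} : Set ι)
    · have hz : S.x s t ∈ S.X E.θ := S.x_mem_UU e t
      rw [(A.mem_Z_iff hx).1 hz r hr,
        (A.mem_Z_iff (fQ hx)).1 ((mem_normalizer_iff.1 h2 _).1 hz) r hr, mul_zero]
    rw [act (vec_one hs e) hr]
    by_cases e' : r = s
    · rw [e', A.cf_x_self (E.pos_of_θ hs), A.cf_x_self (E.pos_of_θ hs), lin]
    · rw [A.cf_x_ne (E.pos_of_θ hs) e', A.cf_x_ne (E.pos_of_θ hs) e', mul_zero]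
  refine ⟨φ 1, fun e => ?_, main, fun c => ?_⟩
  · have := (A.mem_Z_iff (xQ E.ip_βθ 1)).1 ((mem_normalizer_iff.1 h2 _).2
      ((A.mem_Z_iff (fQ (xQ E.ip_βθ 1))).2 fun r hr => by
        rw [main _ (xQ E.ip_βθ 1) r hr, e, zero_mul])) _ E.ip_βθ
    rw [A.cf_x_self E.pos_β] at this
    exact one_ne_zero this
  have u1 := fQ (xQ E.ip_αθ c)
  have z := base 1
  have e1 : k * S.x E.θ c * k⁻¹ = k * S.x E.α c * k⁻¹ * (k * S.x E.β 1 * k⁻¹) *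
      (k * S.x E.α c * k⁻¹)⁻¹ * (k * S.x E.β 1 * k⁻¹)⁻¹ := by
    have := A.rel.cm _ _ _ E.hβ c 1
    rw [mul_one] at this
    rw [← this, ER.α]
    group
  have e2 := A.bf_mul_left (A.Z_le_Q z) (xQ E.ip_βθ (φ 1)) u1
  rw [inv_mul_cancel_right, A.vec_bf_zero (mul_inv_eq_iff_eq_mul.1
    (A.vec_cZ (A.vec_Q_le_Y u1) z)).symm, zero_add, A.bf_comm (xQ E.ip_βθ _) u1,
    A.bf_x (a := E.α) E.hβ u1, main _ (xQ E.ip_αθ c) _ E.ip_αθ,
    A.cf_x_self (E.pos_of_θ E.ip_αθ.ge)] at e2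
  rw [e1, A.comm_Q u1 (fQ (xQ E.ip_βθ 1)), A.bf_comm u1 (fQ (xQ E.ip_βθ 1)), e2, pow_two,
    mul_assoc]

/-- the action of `h_θ(μ)` -/
theorem h_θ {μ : F} (hμ : μ ≠ 0) :
    (∀ v ∈ Q S E.θ, ∀ r, ip Φ r E.θ = 1 → cf S (S.h E.θ μ * v * (S.h E.θ μ)⁻¹) r = μ * cf S v r) ∧
      ∀ y ∈ Y S E.θ, S.h E.θ μ * y * (S.h E.θ μ)⁻¹ * y⁻¹ ∈ Q S E.θ := by
  constructor
  · intro v hv r hr
    have sd : StdD S (S.h E.θ μ) 1 (fun r => μ ^ ip Φ E.θ r) (RingEquiv.refl F) :=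
      ⟨fun r => by beta_reduce; rw [ip_neg_right, ← zpow_add₀ hμ, add_neg_cancel, zpow_zero],
        fun r c => A.h_conj E.θ r hμ c⟩
    have := A.cf_std A.lay_Q sd (fun _ => Iff.rfl) (fun _ => Iff.rfl) hv (vec_ne hr)
    rw [ip_comm, hr, zpow_one] at this
    exact this
  intro y hy
  refine S.UU_induction (p := fun y => S.h E.θ μ * y * (S.h E.θ μ)⁻¹ * y⁻¹ ∈ Q S E.θ) ?_ ?_ hy
  · simp
  intro r hr t g hg ih
  have : S.h E.θ μ * S.x r t * (S.h E.θ μ)⁻¹ * (S.x r t)⁻¹ ∈ Q S E.θ := by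
    rw [A.h_conj E.θ r hμ]
    have hr : 0 ≤ ip Φ r E.θ := hr
    rcases hr.eq_or_lt with e | e
    · rw [ip_comm, ← e, zpow_zero, one_mul, mul_inv_cancel]
      exact one_mem _
    · exact mul_mem (S.x_mem_UU e _) (inv_mem (S.x_mem_UU e _))
  convert mul_mem ih (A.vec_conj hg this) using 1
  group

end Amb

end CfsgLib.SLE
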