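import Mathlib
import Cfsg.Agent.Lib.SLE.A1

/-!
# The case `q = 2`, first step
-/

set_option autoImplicit false
set_option linter.unusedSectionVars false

namespace CfsgLib.SLE

open CfsgLib.RGD CfsgLib.Stein Subgroup
open scoped commutatorElement Pointwise

universe u

variable {ι κ : Type} [Fintype κ] [DecidableEq κ] [Finite ι] {Φ : RootSys ι κ} {E : ER Φ}
  {F : Type} [Field F] [Finite F] [CharP F 2] {G : Type u} [Group G] [Finite G]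
  {S : StSys Φ F G}

omit [Finite ι] [Finite F] [CharP F 2] [Finite G] in
/-- `p` interchanges `t` and `t z`, centralises `W` and is trivial on `Y2 / R2` -/
structure Sw2 (E : ER Φ) (S : StSys Φ F G) (t p : G) : Prop where
  pt : p * t * p⁻¹ = t * S.x E.θ 1
  pz : p * S.x E.θ 1 * p⁻¹ = S.x E.θ 1
  pb : p * S.x E.β 1 * p⁻¹ = S.x E.β 1
  nY : p ∈ normalizer (Y S E.θ : Set G)
  nQ : p ∈ normalizer (Q S E.θ : Set G)
  nY2 : ∀ y ∈ Y2 S E.θ E.β, p * y * p⁻¹ * y⁻¹ ∈ R2 S E.θ E.β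
  co : CO S t p

/-- the elements normalising `V` and acting trivially modulo `W` -/
def a2Kl (V W : Subgroup G) : Subgroup G where
  carrier := {g | g ∈ normalizer (V : Set G) ∧ ∀ v ∈ V, g * v * g⁻¹ * v⁻¹ ∈ W}
  one_mem' := ⟨one_mem _, fun v _ => by simp⟩
  mul_mem' := by
    rintro g h ⟨hg, hg'⟩ ⟨hh, hh'⟩
    refine ⟨mul_mem hg hh, fun v hv => ?_⟩
    convert mul_mem (hg' _ ((mem_normalizer_iff.1 hh v).1 hv)) (hh' v hv) using 1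
    group
  inv_mem' := by
    rintro g ⟨hg, hg'⟩
    refine ⟨inv_mem hg, fun v hv => ?_⟩
    convert inv_mem (hg' _ ((mem_normalizer_iff''.1 hg v).1 hv)) using 1
    group

theorem a2Kl_conj {V W : Subgroup G} {p g : G} (h1 : p ∈ normalizer (V : Set G))
    (h2 : p ∈ normalizer (W : Set G)) (hg : g ∈ a2Kl V W) : p * g * p⁻¹ ∈ a2Kl V W := by
  refine ⟨mul_mem (mul_mem h1 hg.1) (inv_mem h1), fun v hv => ?_⟩
  convert (mem_normalizer_iff.1 h2 _).1 (hg.2 _ ((mem_normalizer_iff''.1 h1 v).1 hv)) using 1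
  group

theorem a2_one (hq : Nat.card F = 2) {l : F} (hl : l ≠ 0) : l = 1 := by
  obtain ⟨y, -, hy⟩ := (Nat.card_eq_two_iff' (0 : F)).1 hq
  exact (hy l hl).trans (hy 1 one_ne_zero).symm

theorem a2_ne (E : ER Φ) : E.β ≠ E.θ := fun e => by
  have := E.ip_βθ
  rw [e, E.ip_self] at this
  omega

theorem Amb.a2_comm (A : Amb E S) {w u : G} (hw : w ∈ S.UU {E.θ, E.β}) (hu : u ∈ S.U) :
    w * u * w⁻¹ * u⁻¹ ∈ S.X E.θ := by
  refine S.UU_mono (fun r hr => ?_) (A.comm_mem_wt Φ.ht (fun _ => Φ.ht_pos) (fun _ _ _ => radd_ht)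
    (m := Φ.ht E.β) (n := 1) (S.UU_mono ?_ hw) (S.UU_mono (fun r hr => by exact ⟨hr, Φ.ht_pos hr⟩) hu))
  · by_contra e
    have h2 := hr.2
    by_cases e' : r = E.β
    · rw [e'] at h2
      omega
    · have := E.ht_lt_β e e'
      omega
  · rintro r (rfl | rfl)
    · exact ⟨E.pos_θ, (E.ht_lt_θ (a2_ne E)).le⟩
    · exact ⟨E.pos_β, le_rfl⟩

theorem Amb.a2_cen (A : Amb E S) {y w : G} (hy : y ∈ Y2 S E.θ E.β) (hw : w ∈ S.UU {E.θ, E.β}) :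
    w * y = y * w := by
  have : Y2 S E.θ E.β ≤ centralizer (S.UU {E.θ, E.β} : Set G) := S.UU_le_iff.2 fun r hr t =>
    mem_cent_UU.2 (by
      rintro s (rfl | rfl) c
      · exact (A.com hr.1 _ _).symm
      · exact (A.com hr.2 _ _).symm)
  exact mem_centralizer_iff.1 (this hy) w hw

theorem Sit.sw2_of_sw {t : G} (h : Sit E S t) (hq : Nat.card F = 2) {p : G} (hp : Sw E S t p) :
    ∃ p', Sw2 E S t p' := by
  have A := h.amb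
  have pZ := h.sw_Z hp
  have zW : ∀ c, S.x E.θ c ∈ S.UU {E.θ, E.β} := fun c => S.x_mem_UU (by simp) c
  have bW : ∀ c, S.x E.β c ∈ S.UU {E.θ, E.β} := fun c => S.x_mem_UU (by simp) c
  have WU : S.UU {E.θ, E.β} ≤ S.U := S.UU_le_U (by
    rintro s (rfl | rfl)
    exacts [E.pos_θ, E.pos_β])
  have nW : p ∈ normalizer (S.UU {E.θ, E.β} : Set G) := mem_normalizer_fintype fun w hw =>
    A.mem_W_of_comm ((mem_normalizer_iff.1 hp.nU w).1 (WU hw)) fun i => by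
      convert (mem_normalizer_iff.1 pZ _).1 (A.a2_comm hw
        ((mem_normalizer_iff''.1 hp.nU _).1 (S.x_mem_U (Φ.pos_simple i) 1))) using 1
      group
  have n2 : p ∈ normalizer (Y2 S E.θ E.β : Set G) := mem_normalizer_fintype fun y hy => by
    have c : ∀ w ∈ S.UU {E.θ, E.β}, p * y * p⁻¹ * w = w * (p * y * p⁻¹) := fun w hw => by
      calc _ = p * (y * (p⁻¹ * w * p)) * p⁻¹ := by group
        _ = _ := by rw [← A.a2_cen hy ((mem_normalizer_iff''.1 nW w).1 hw)]; group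
    exact A.cen_W hq (S.UU_le_grp _ ((mem_normalizer_iff.1 hp.nY y).1
      (S.UU_mono (fun _ hr => hr.1) hy))) (c _ (zW 1)) (c _ (bW 1))
  have aK : ∀ c, S.x E.α c ∈ a2Kl (Y2 S E.θ E.β) (R2 S E.θ E.β) := fun c =>
    A.alpha_Y2 (Or.inl rfl) c
  have aK' : ∀ c, S.x (Φ.neg E.α) c ∈ a2Kl (Y2 S E.θ E.β) (R2 S E.θ E.β) := fun c =>
    A.alpha_Y2 (Or.inr rfl) c
  have nK : S.n E.α 1 ∈ a2Kl (Y2 S E.θ E.β) (R2 S E.θ E.β) :=
    mul_mem (mul_mem (aK _) (aK' _)) (aK _)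
  obtain ⟨c, e, pb⟩ := A.mem_W_iff.1 ((mem_normalizer_iff.1 nW _).1 (bW 1))
  obtain rfl : e = 1 := a2_one hq fun e0 => by
    rw [e0, S.x_zero, mul_one] at pb
    obtain ⟨c', e'⟩ := S.mem_X_iff.1 ((mem_normalizer_iff.1 pZ _).2 (pb ▸ S.x_mem_X E.θ c))
    exact a2_ne E (A.x_inj one_ne_zero e').1
  have czb : ∀ u v, S.x E.β u * S.x E.θ v = S.x E.θ v * S.x E.β u :=
    A.com (by rw [E.ip_βθ]; omega)
  have az : S.x E.α c * S.x E.θ 1 = S.x E.θ 1 * S.x E.α c := A.com (by rw [E.ip_αθ]; omega) _ _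
  have ab := A.conj_x (a := E.α) E.hβ c 1
  rw [mul_one, czb, ← pb] at ab
  have az' := A.conj_x (a := Φ.neg E.α) E.hβ.symm.sub.symm 1 1
  rw [mul_one] at az'
  have ab' : S.x (Φ.neg E.α) 1 * S.x E.β 1 = S.x E.β 1 * S.x (Φ.neg E.α) 1 :=
    A.com (by rw [ip_neg_left, E.ip_αβ]; omega) _ _
  have nb : S.n E.α 1 * S.x E.β 1 * (S.n E.α 1)⁻¹ = S.x E.θ 1 := by
    rw [A.exa_n, (E.rf_add (d := E.α) E.hβ.symm).1]
  have nz : S.n E.α 1 * S.x E.θ 1 * (S.n E.α 1)⁻¹ = S.x E.β 1 := by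
    rw [A.exa_n, (E.rf_add (d := E.α) E.hβ.symm).2]
  obtain ⟨p₀, e₀⟩ : ∃ p₀, p₀ = (S.x E.α c)⁻¹ * p := ⟨_, rfl⟩
  have z₀ : p₀ * S.x E.θ 1 * p₀⁻¹ = S.x E.θ 1 := by
    calc _ = (S.x E.α c)⁻¹ * (p * S.x E.θ 1 * p⁻¹ * S.x E.α c) := by rw [e₀]; group
      _ = _ := by rw [hp.pz, ← az]; group
  have b₀ : p₀ * S.x E.β 1 * p₀⁻¹ = S.x E.β 1 := by
    calc _ = (S.x E.α c)⁻¹ * (p * S.x E.β 1 * p⁻¹) * S.x E.α c := by rw [e₀]; group
      _ = _ := by rw [← ab]; group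
  have t₀ : p₀ * t * p₀⁻¹ = t * S.x E.θ 1 := by
    calc _ = (S.x E.α c)⁻¹ * (p * t * p⁻¹) * S.x E.α c := by rw [e₀]; group
      _ = (S.x E.α c)⁻¹ * t * (S.x E.θ 1 * S.x E.α c) := by rw [hp.pt]; group
      _ = _ := by rw [h.com (inv_mem (S.x_mem_grp _ _)), ← az]; group
  obtain ⟨k, ek⟩ : ∃ k, k = p₀ * S.x (Φ.neg E.α) 1 * p₀⁻¹ := ⟨_, rfl⟩
  have kK : k ∈ a2Kl (Y2 S E.θ E.β) (R2 S E.θ E.β) := by
    have := mul_mem (inv_mem (aK c)).1 n2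
    rw [← e₀] at this
    exact ek ▸ a2Kl_conj this (A.norm_R2_of_Y2 this) (aK' 1)
  have kO : CO S t k := by
    have := ((CO.of_mem (t := t) (S.x_mem_grp E.α c)).inv.mul
      (hp.nO _ (S.x_mem_grp (Φ.neg E.α) 1))).mul (CO.of_mem (S.x_mem_grp E.α c))
    convert this using 1
    rw [ek, e₀]
    group
  have kz : k * S.x E.θ 1 * k⁻¹ = S.x E.θ 1 * S.x E.β 1 := by
    calc _ = k * (p₀ * S.x E.θ 1 * p₀⁻¹) * k⁻¹ := by rw [z₀]
      _ = p₀ * (S.x (Φ.neg E.α) 1 * S.x E.θ 1 * (S.x (Φ.neg E.α) 1)⁻¹) * p₀⁻¹ := by rw [ek]; group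
      _ = p₀ * S.x E.θ 1 * p₀⁻¹ * (p₀ * S.x E.β 1 * p₀⁻¹) := by rw [az']; group
      _ = _ := by rw [z₀, b₀]
  have kb : k * S.x E.β 1 * k⁻¹ = S.x E.β 1 := by
    calc _ = k * (p₀ * S.x E.β 1 * p₀⁻¹) * k⁻¹ := by rw [b₀]
      _ = p₀ * (S.x (Φ.neg E.α) 1 * S.x E.β 1) * (S.x (Φ.neg E.α) 1)⁻¹ * p₀⁻¹ := by rw [ek]; group
      _ = _ := by rw [ab', ← mul_assoc, mul_inv_cancel_right, b₀]
  have kt : k * t * k⁻¹ = t * S.x E.β 1 := by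
    have e1 : k * (t * S.x E.θ 1) * k⁻¹ = t * S.x E.θ 1 := by
      rw [← t₀, ek, (h.cj p₀).com (a1_mem_cj (S.x_mem_grp _ _)), mul_inv_cancel_right]
    calc _ = k * (t * (S.x E.θ 1 * S.x E.θ 1)) * k⁻¹ := by rw [A.x_sq, mul_one]
      _ = k * (t * S.x E.θ 1) * k⁻¹ * (k * S.x E.θ 1 * k⁻¹) := by group
      _ = t * (S.x E.θ 1 * S.x E.θ 1) * S.x E.β 1 := by rw [e1, kz]; group
      _ = _ := by rw [A.x_sq, mul_one]
  obtain ⟨m, em⟩ : ∃ m, m = k * S.x (Φ.neg E.α) 1 := ⟨_, rfl⟩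
  have mz : m * S.x E.θ 1 * m⁻¹ = S.x E.θ 1 := by
    calc _ = k * (S.x (Φ.neg E.α) 1 * S.x E.θ 1 * (S.x (Φ.neg E.α) 1)⁻¹) * k⁻¹ := by rw [em]; group
      _ = k * S.x E.θ 1 * k⁻¹ * (k * S.x E.β 1 * k⁻¹) := by rw [az']; group
      _ = _ := by rw [kz, kb, mul_assoc, A.x_sq, mul_one]
  have mb : m * S.x E.β 1 * m⁻¹ = S.x E.β 1 := by
    calc _ = k * (S.x (Φ.neg E.α) 1 * S.x E.β 1) * (S.x (Φ.neg E.α) 1)⁻¹ * k⁻¹ := by rw [em]; group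
      _ = _ := by rw [ab', ← mul_assoc, mul_inv_cancel_right, kb]
  have mt : m * t * m⁻¹ = t * S.x E.β 1 := by
    calc _ = k * (S.x (Φ.neg E.α) 1 * t) * (S.x (Φ.neg E.α) 1)⁻¹ * k⁻¹ := by rw [em]; group
      _ = _ := by rw [h.com (S.x_mem_grp _ _), ← kt]; group
  have nt := h.com (S.n_mem_grp E.α 1)
  have nO := CO.of_mem (t := t) (S.n_mem_grp E.α 1)
  have nn := inv_eq_of_mul_eq_one_right (A.n_sq E.α)
  generalize S.n E.α 1 = n at nK nb nz nt nO nn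
  have pt : n * m * n⁻¹ * t * (n * m * n⁻¹)⁻¹ = t * S.x E.θ 1 := by
    calc _ = n * m * n⁻¹ * (t * n) * m⁻¹ * n⁻¹ := by group
      _ = n * (m * t * m⁻¹) * n⁻¹ := by rw [← nt]; group
      _ = n * t * n⁻¹ * (n * S.x E.β 1 * n⁻¹) := by rw [mt]; group
      _ = _ := by rw [nt, nb, mul_inv_cancel_right]
  have pz : n * m * n⁻¹ * S.x E.θ 1 * (n * m * n⁻¹)⁻¹ = S.x E.θ 1 := by
    calc _ = n * m * n⁻¹ * (n * S.x E.β 1 * n⁻¹) * (n * m * n⁻¹)⁻¹ := by rw [nb]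
      _ = n * (m * S.x E.β 1 * m⁻¹) * n⁻¹ := by group
      _ = _ := by rw [mb, nb]
  have pb : n * m * n⁻¹ * S.x E.β 1 * (n * m * n⁻¹)⁻¹ = S.x E.β 1 := by
    calc _ = n * m * n⁻¹ * (n * S.x E.θ 1 * n⁻¹) * (n * m * n⁻¹)⁻¹ := by rw [nz]
      _ = n * (m * S.x E.θ 1 * m⁻¹) * n⁻¹ := by group
      _ = _ := by rw [mz, nz]
  obtain ⟨nY, nQ, -⟩ := h.norm_of_swap one_ne_zero pt (mem_normalizer_fintype fun z hz => by
    obtain ⟨u, rfl⟩ := S.mem_X_iff.1 hz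
    by_cases u0 : u = 0
    · rw [u0, S.x_zero, mul_one, mul_inv_cancel]
      exact one_mem _
    · rw [a2_one hq u0, pz]
      exact S.x_mem_X _ _)
  exact ⟨_, pt, pz, pb, nY, nQ, (mul_mem (mul_mem nK (em ▸ mul_mem kK (aK' 1))) (inv_mem nK)).2,
    (nO.mul (em ▸ kO.mul (CO.of_mem (S.x_mem_grp _ _)))).mul nO.inv⟩

end CfsgLib.SLE
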