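import Mathlib
import Cfsg.Agent.Lib.SLE.A2b

/-!
# The case `q = 2`, second step
-/

set_option autoImplicit false
set_option linter.unusedSectionVars false

namespace CfsgLib.SLE

open CfsgLib.RGD CfsgLib.Stein Subgroup
open scoped commutatorElement Pointwise

universe u

variable {ι κ : Type} [Fintype κ] [DecidableEq κ] [Finite ι] {Φ : RootSys ι κ} {E : ER Φ}
  {F : Type} [Field F] [Finite F] [CharP F 2] {G : Type u} [Group G] [Finite G]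
  {S : StSys Φ F G}

/-- the roots of `R2` outside `Q` -/
def a2R (E : ER Φ) : Set ι := {r | ip Φ r E.θ = 0 ∧ ip Φ r E.β = 1}

theorem a2_ipα (E : ER Φ) (r : ι) : ip Φ r E.θ = ip Φ r E.α + ip Φ r E.β := E.hβ.ip_right r

theorem a2_eq_α {r : ι} (h1 : ip Φ r E.θ = 1) (h2 : ip Φ r E.β = -1) : r = E.α := by
  obtain ⟨k, hk⟩ := E.exists_add h2
  obtain rfl : E.θ = k := E.eq_of_ip (by rw [hk.ip_left, h1, E.ip_βθ]; omega)
  exact hk.symm.unique E.hβ.symm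

theorem a2_cases {r : ι} (h : ip Φ r E.θ = 1) :
    r = E.β ∨ r = E.α ∨ ip Φ r E.β = 0 ∨ ip Φ r E.β = 1 := by
  rcases E.ip_cases r E.β with ⟨e, -⟩ | e | e | e | ⟨e, -⟩
  · exact Or.inl e.symm
  · exact Or.inr (Or.inr (Or.inr e))
  · exact Or.inr (Or.inr (Or.inl e))
  · exact Or.inr (Or.inl (a2_eq_α h e))
  · have := E.ip_βθ
    rw [e, ip_neg_left] at this
    omega

theorem a2_lay : Lay Φ (a2R E) ∅ := by
  refine ⟨fun r hr => ?_, Set.empty_subset _, fun a ha b hb k hk => ?_⟩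
  · by_contra e
    have := E.nonneg_β (Φ.pos_neg_iff.2 (Φ.neg_iff_not_pos.2 e)) fun e' => by
      have := E.ip_αθ
      rw [← e', ip_neg_left, hr.1] at this
      omega
    rw [ip_neg_left, hr.2] at this
    omega
  · obtain rfl : E.β = k := E.eq_of_ip (by rw [hk.ip_left, ha.2, hb.2]; omega)
    have := hk.ip_left E.θ
    rw [ha.1, hb.1, E.ip_βθ] at this
    omega

theorem a2_sub {k : ι} (h1 : ip Φ k E.θ = 1) (h2 : ip Φ k E.β = 0) :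
    ∃ ρ ∈ a2R E, RAdd Φ E.α ρ k := by
  have := a2_ipα E k
  obtain ⟨ρ, h⟩ := E.exists_sub (a := E.α) (r := k) (by rw [ip_comm]; omega)
  have a1 := h.ip_left E.θ
  have a2 := h.ip_left E.β
  rw [E.ip_αθ] at a1
  rw [E.ip_αβ] at a2
  exact ⟨ρ, ⟨by omega, by omega⟩, h⟩

theorem a2_add {ρ : ι} (h : ρ ∈ a2R E) :
    ∃ k, RAdd Φ E.α ρ k ∧ ip Φ k E.θ = 1 ∧ ip Φ k E.β = 0 := by
  have := a2_ipα E ρ
  rw [h.1, h.2] at this
  obtain ⟨k, hk⟩ := E.exists_add (a := E.α) (b := ρ) (by rw [ip_comm]; omega)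
  exact ⟨k, hk, by rw [hk.ip_left, E.ip_αθ, h.1, add_zero],
    by rw [hk.ip_left, E.ip_αβ, h.2, neg_add_cancel]⟩

namespace Amb

variable (A : Amb E S)
include A

theorem a2_R_le : S.UU (a2R E) ≤ R2 S E.θ E.β :=
  S.UU_mono fun _ hr => ⟨hr.1.ge, by rw [hr.2]; omega, by rw [hr.1, hr.2]; omega⟩

theorem a2_R_le_Y : S.UU (a2R E) ≤ Y S E.θ := S.UU_mono fun _ hr => hr.1.ge

theorem a2_act {g : G} (hg : g ∈ S.UU (a2R E)) {v : G} (hv : v ∈ Q S E.θ) :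
    cf S (g * v * g⁻¹) E.α = cf S v E.α ∧ ∀ ρ ∈ a2R E, ∀ k, RAdd Φ E.α ρ k →
      cf S (g * v * g⁻¹) k = cf S v k + cf S g ρ * cf S v E.α := by
  refine S.UU_induction_left (p := fun g => cf S (g * v * g⁻¹) E.α = cf S v E.α ∧
    ∀ ρ ∈ a2R E, ∀ k, RAdd Φ E.α ρ k → cf S (g * v * g⁻¹) k = cf S v k + cf S g ρ * cf S v E.α)
    ⟨by simp, fun ρ _ k _ => by simp [A.cf_one]⟩ ?_ hg
  rintro r hr t g hg ⟨ih1, ih2⟩
  have m := A.vec_conj (A.a2_R_le_Y hg) hv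
  rw [show S.x r t * g * v * (S.x r t * g)⁻¹ = S.x r t * (g * v * g⁻¹) * (S.x r t)⁻¹ by group]
  have a1 := a2_ipα E r
  rw [hr.1, hr.2] at a1
  refine ⟨by rw [(A.cf_V hr.1 t m E.ip_αθ).2 (by rw [ip_comm]; omega), ih1], fun ρ hρ k hk => ?_⟩
  have k1 : ip Φ k E.θ = 1 := by rw [hk.ip_left, E.ip_αθ, hρ.1, add_zero]
  have k0 : ip Φ k E.β = 0 := by rw [hk.ip_left, E.ip_αβ, hρ.2, neg_add_cancel]
  rw [A.cf_mul a2_lay (S.x_mem_UU hr t) hg (Set.notMem_empty _)]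
  by_cases e : ρ = r
  · subst e
    rw [(A.cf_V hr.1 t m k1).1 _ hk, ih1, ih2 ρ hρ k hk, A.cf_x_self (a2_lay.pos _ hr)]
    ring
  rw [(A.cf_V hr.1 t m k1).2 fun e' => e ?_, ih2 ρ hρ k hk, A.cf_x_ne (a2_lay.pos _ hr) e, zero_add]
  obtain ⟨s, hs⟩ := E.exists_sub (a := r) (r := k) (by rw [ip_comm, e'])
  have b1 := hs.ip_left E.θ
  have b2 := hs.ip_left E.β
  rw [hr.1] at b1
  rw [hr.2] at b2
  obtain rfl : s = E.α := a2_eq_α (by omega) (by omega)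
  exact hk.unique hs.symm

theorem a2_split {r : G} (hr : r ∈ R2 S E.θ E.β) :
    ∃ v ∈ Q S E.θ, ∃ g ∈ S.UU (a2R E), r = v * g := by
  refine (LAE.mem_sup_iff_of_right_le_normalizer (A.a2_R_le_Y.trans (A.Y_norm_Q _))).1
    (S.UU_le_iff.2 (fun s hs t => ?_) hr)
  obtain ⟨h1, h2, h3⟩ : 0 ≤ ip Φ s E.θ ∧ 0 ≤ ip Φ s E.β ∧ 1 ≤ ip Φ s E.θ + ip Φ s E.β := hs
  rcases h1.eq_or_lt with e | e
  · refine mem_sup_right (S.x_mem_UU (Ψ := a2R E) ⟨e.symm, by_contra fun e' => ?_⟩ t)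
    have := E.ip_βθ
    rw [E.eq_of_ip (r := s) (s := E.β) (by omega)] at this
    omega
  · exact mem_sup_left (S.x_mem_UU e t)

theorem a2_cf_conj {u v : G} (hu : u ∈ Q S E.θ) (hv : v ∈ Q S E.θ) {r : ι} (hr : ip Φ r E.θ = 1) :
    cf S (u * v * u⁻¹) r = cf S v r :=
  (A.congr_iff (mul_mem (mul_mem hu hv) (inv_mem hu)) hv).1
    (A.comm_Q hu hv ▸ S.x_mem_X _ _) r hr

theorem a2_bf_conj {p u v : G} (pz : p ∈ centralizer (S.X E.θ : Set G))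
    (nQ : p ∈ normalizer (Q S E.θ : Set G)) (hu : u ∈ Q S E.θ) (hv : v ∈ Q S E.θ) :
    bf E S (p * u * p⁻¹) (p * v * p⁻¹) = bf E S u v := by
  refine A.nd.x_injective E.θ ?_
  rw [← A.comm_Q ((mem_normalizer_iff.1 nQ u).1 hu) ((mem_normalizer_iff.1 nQ v).1 hv)]
  calc _ = p * (u * v * u⁻¹ * v⁻¹) * p⁻¹ := by group
    _ = _ := by
      rw [A.comm_Q hu hv, ← mem_centralizer_iff.1 pz _ (S.x_mem_X _ _), mul_inv_cancel_right]

theorem a2_pz (hq : Nat.card F = 2) {p : G} (pz : p * S.x E.θ 1 * p⁻¹ = S.x E.θ 1) :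
    p ∈ centralizer (S.X E.θ : Set G) := mem_cent_UU.2 fun r hr c => by
  rw [Set.mem_singleton_iff.1 hr]
  by_cases c0 : c = 0
  · rw [c0, S.x_zero, one_mul, mul_one]
  · rw [a2_one hq c0]
    exact (mul_inv_eq_iff_eq_mul.1 pz).symm

theorem a2_cf_α (hq : Nat.card F = 2) {t p u : G} (hp : Sw2 E S t p) (hu : u ∈ Q S E.θ) :
    cf S (p * u * p⁻¹) E.α = cf S u E.α := by
  have := A.a2_bf_conj (A.a2_pz hq hp.pz) hp.nQ hu (S.x_mem_UU (vec_mem E.ip_βθ) 1)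
  rwa [hp.pb, A.bf_x (a := E.α) E.hβ ((mem_normalizer_iff.1 hp.nQ u).1 hu),
    A.bf_x (a := E.α) E.hβ hu, one_mul, one_mul] at this

end Amb

theorem Sit.a2_step1 {t : G} (h : Sit E S t) (hq : Nat.card F = 2) {p : G} (hp : Sw2 E S t p) :
    ∃ p', Sw2 E S t p' ∧ ∀ k, ip Φ k E.θ = 1 → ip Φ k E.β = 0 →
      cf S (p' * S.x E.α 1 * p'⁻¹) k = 0 := by
  have A := h.amb
  have hα : S.x E.α 1 ∈ Q S E.θ := S.x_mem_UU (vec_mem E.ip_αθ) 1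
  have hv := (mem_normalizer_iff.1 hp.nQ _).1 hα
  have : ∀ ρ, ∃ k, ρ ∈ a2R E → RAdd Φ E.α ρ k := fun ρ => by
    by_cases e : ρ ∈ a2R E
    · exact (a2_add e).imp fun _ h _ => h.1
    · exact ⟨ρ, fun h => absurd h e⟩
  choose σ hσ using this
  obtain ⟨L, hL, m⟩ := StSys.exists_list (a2R E)
  obtain ⟨g, hg, eg⟩ : ∃ g ∈ S.UU (a2R E), ∀ ρ ∈ a2R E,
      cf S g ρ = cf S (p * S.x E.α 1 * p⁻¹) (σ ρ) :=
    ⟨_, S.xprod_mem_UU (fun r hr => (m r).1 hr) _, fun ρ hρ =>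
      (A.cf_xprod a2_lay hL (fun r hr => (m r).1 hr) (fun ρ => cf S (p * S.x E.α 1 * p⁻¹) (σ ρ))
        (Set.notMem_empty _)).1 ((m ρ).2 hρ)⟩
  have g2 := A.lev_R2_le (A.a2_R_le hg)
  have gY := A.a2_R_le_Y hg
  have e : ∀ x, g * p * x * (g * p)⁻¹ = g * (p * x * p⁻¹) * g⁻¹ := fun x => by group
  have gz := A.a2_cen g2 (S.x_mem_UU (r := E.θ) (by simp) 1)
  have gb := A.a2_cen g2 (S.x_mem_UU (r := E.β) (by simp) 1)
  refine ⟨g * p, ⟨?_, ?_, ?_, mul_mem (le_normalizer gY) hp.nY, mul_mem (A.Y_norm_Q _ gY) hp.nQ,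
    fun y hy => ?_, (CO.of_mem (S.UU_le_grp _ hg)).mul hp.co⟩, fun k k1 k0 => ?_⟩
  · rw [e, hp.pt, ← mul_assoc, h.com (S.UU_le_grp _ hg), mul_assoc t, ← gz, ← mul_assoc,
      mul_inv_cancel_right]
  · rw [e, hp.pz, ← gz, mul_inv_cancel_right]
  · rw [e, hp.pb, ← gb, mul_inv_cancel_right]
  · convert mul_mem (mul_mem (A.a2_R_le hg) (hp.nY2 y hy))
      ((mem_normalizer_iff.1 (A.Y2_norm_R2 hy) _).1 (inv_mem (A.a2_R_le hg))) using 1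
    group
  · obtain ⟨ρ, hρ, hk⟩ := a2_sub k1 k0
    rw [e, (A.a2_act hg hv).2 ρ hρ k hk, eg ρ hρ, (hσ ρ hρ).unique' hk, A.a2_cf_α hq hp hα,
      A.cf_x_self (E.pos_of_θ E.ip_αθ.ge), mul_one, CharTwo.add_self_eq_zero]

theorem Amb.a2_step2 (A : Amb E S) (hq : Nat.card F = 2) {t p : G} (hp : Sw2 E S t p)
    (h0 : ∀ k, ip Φ k E.θ = 1 → ip Φ k E.β = 0 → cf S (p * S.x E.α 1 * p⁻¹) k = 0) {s : ι}
    (s1 : ip Φ s E.θ = 0) (s2 : ip Φ s E.β = 0) {r r' : ι} (r1 : ip Φ r E.θ = 1)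
    (hr : 0 ≤ ip Φ s r) (r1' : ip Φ r' E.θ = 1) (hr' : ip Φ s r' = -1) :
    cf S (p * S.x r 1 * p⁻¹) r' = 0 := by
  have hα : S.x E.α 1 ∈ Q S E.θ := S.x_mem_UU (vec_mem E.ip_αθ) 1
  have hv := (mem_normalizer_iff.1 hp.nQ _).1 hα
  have yY : S.x s 1 ∈ Y S E.θ := S.x_mem_UU s1.ge 1
  have s3 := a2_ipα E s
  obtain ⟨w, hw, g, hg, e⟩ := A.a2_split (hp.nY2 (S.x s 1) (S.x_mem_UU (by exact ⟨s1.ge, s2.ge⟩) 1))
  have fix : ∀ {r : ι}, 0 ≤ ip Φ s r → w * (g * (S.x s 1 * (p * S.x r 1 * p⁻¹) * (S.x s 1)⁻¹) * g⁻¹) *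
      w⁻¹ = p * S.x r 1 * p⁻¹ := fun {r} hr => by
    calc _ = w * g * S.x s 1 * (p * S.x r 1 * p⁻¹) * (w * g * S.x s 1)⁻¹ := by group
      _ = p * (S.x s 1 * S.x r 1) * (S.x s 1)⁻¹ * p⁻¹ := by rw [← e]; group
      _ = _ := by rw [A.com hr]; group
  have m := A.vec_conj yY hv
  have g1 : g = 1 := by
    have := A.mul_inv_mem a2_lay hg (one_mem _) fun ρ hρ _ => by
      obtain ⟨k, hk, k1, k0⟩ := a2_add hρ
      have e1 := A.a2_cf_conj hw (A.vec_conj (A.a2_R_le_Y hg) m) k1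
      rw [fix (by omega), h0 k k1 k0, (A.a2_act hg m).2 ρ hρ k hk,
        (A.cf_V s1 1 hv E.ip_αθ).2 (by rw [ip_comm]; omega), A.a2_cf_α hq hp hα,
        A.cf_x_self (E.pos_of_θ E.ip_αθ.ge), mul_one] at e1
      have e2 : cf S (S.x s 1 * (p * S.x E.α 1 * p⁻¹) * (S.x s 1)⁻¹) k = 0 := by
        by_cases e' : ip Φ k s = 1
        · obtain ⟨k', hk'⟩ := E.exists_sub (a := s) (r := k) (by rw [ip_comm, e'])
          have b1 := hk'.ip_left E.θ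
          have b2 := hk'.ip_left E.β
          rw [(A.cf_V s1 1 hv k1).1 _ hk'.symm, h0 k k1 k0, h0 k' (by omega) (by omega), mul_zero,
            add_zero]
        · rw [(A.cf_V s1 1 hv k1).2 e', h0 k k1 k0]
      rw [e2, zero_add] at e1
      rw [← e1, A.cf_one]
    rwa [S.UU_empty, mem_bot, inv_one, mul_one] at this
  have hu := (mem_normalizer_iff.1 hp.nQ _).1 (S.x_mem_UU (vec_mem r1) 1)
  refine A.cf_eq_zero_of_fix s1 hu (A.vec_mem_Z (A.vec_conj yY hu) hu fun k hk => ?_) r1'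
    (by rw [ip_comm, hr'])
  have := fix hr
  rw [g1, one_mul, inv_one, mul_one] at this
  rw [← A.a2_cf_conj hw (A.vec_conj yY hu) hk, this]

theorem Sit.tv_of_sw2 {t : G} (h : Sit E S t) (hq : Nat.card F = 2) {p : G} (hp : Sw2 E S t p) :
    ∃ p', Tv E S t p' := by
  have A := h.amb
  obtain ⟨p, hp, h0⟩ := h.a2_step1 hq hp
  have pz := A.a2_pz hq hp.pz
  have xQ : ∀ {r : ι}, ip Φ r E.θ = 1 → ∀ c, S.x r c ∈ Q S E.θ := fun hr c =>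
    S.x_mem_UU (vec_mem hr) c
  have fQ : ∀ {v : G}, v ∈ Q S E.θ → p * v * p⁻¹ ∈ Q S E.θ := fun hv =>
    (mem_normalizer_iff.1 hp.nQ _).1 hv
  have pα := E.pos_of_θ E.ip_αθ.ge
  have ne : E.α ≠ E.β := fun e => by
    have := E.ip_αβ
    rw [e, E.ip_self] at this
    omega
  have hα : p * S.x E.α 1 * p⁻¹ * (S.x E.α 1)⁻¹ ∈ S.X E.θ := by
    obtain ⟨ε, hε⟩ : ∃ ε, ε = cf S (p * S.x E.α 1 * p⁻¹) E.β := ⟨_, rfl⟩
    have z := A.vec_mem_Z (fQ (xQ E.ip_αθ 1)) (mul_mem (xQ E.ip_αθ 1) (xQ E.ip_βθ ε)) fun r hr => by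
      rw [A.vec_mul (xQ E.ip_αθ 1) (xQ E.ip_βθ ε) hr]
      have n1 : ip Φ r E.β = 0 ∨ ip Φ r E.β = 1 → r ≠ E.α ∧ r ≠ E.β := fun e =>
        ⟨fun e' => by rw [e', E.ip_αβ] at e; omega, fun e' => by rw [e', E.ip_self] at e; omega⟩
      rcases a2_cases hr with rfl | rfl | e | e
      · rw [A.cf_x_ne pα ne.symm, A.cf_x_self E.pos_β, zero_add, hε]
      · rw [A.a2_cf_α hq hp (xQ E.ip_αθ 1), A.cf_x_ne E.pos_β ne, add_zero]
      · rw [h0 r hr e, A.cf_x_ne pα (n1 (Or.inl e)).1, A.cf_x_ne E.pos_β (n1 (Or.inl e)).2, add_zero]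
      · obtain ⟨s, s1, s2, s3⟩ := E.rf1 r hr e
        have := a2_ipα E s
        rw [A.a2_step2 hq hp h0 s1 s2 E.ip_αθ (by omega) hr s3, A.cf_x_ne pα (n1 (Or.inr e)).1,
          A.cf_x_ne E.pos_β (n1 (Or.inr e)).2, add_zero]
    obtain rfl : ε = 0 := by
      obtain ⟨c, e⟩ := S.mem_X_iff.1 z
      rw [mul_inv_eq_iff_eq_mul] at e
      have e1 : p * S.x E.α 1 * p⁻¹ * (p * S.x E.α 1 * p⁻¹) = 1 := by
        rw [conj_mul, A.x_sq, mul_one, mul_inv_cancel]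
      have e2 := A.rel.cm E.α E.β E.θ E.hβ 1 ε
      have e3 := mul_inv_eq_iff_eq_mul.1 (A.vec_cZ (A.vec_Q_le_Y
        (mul_mem (xQ E.ip_αθ 1) (xQ E.ip_βθ ε))) (S.x_mem_X E.θ c))
      rw [A.x_inv, A.x_inv, one_mul] at e2
      rw [e, mul_assoc, ← mul_assoc (S.x E.α 1 * S.x E.β ε), e3, mul_assoc (S.x E.θ c),
        ← mul_assoc (S.x E.θ c), A.x_sq, one_mul, ← mul_assoc, e2] at e1
      exact A.x_eq_one.1 e1
    rwa [S.x_zero, mul_one] at z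
  have gen : ∀ r, ip Φ r E.θ = 1 → p * S.x r 1 * p⁻¹ * (S.x r 1)⁻¹ ∈ S.X E.θ := fun r hr => by
    by_cases e1 : r = E.β
    · rw [e1, hp.pb, mul_inv_cancel]
      exact one_mem _
    by_cases e2 : r = E.α
    · exact e2 ▸ hα
    have rβ : ip Φ r E.β = 0 ∨ ip Φ r E.β = 1 :=
      ((a2_cases hr).resolve_left e1).resolve_left e2
    have pr := E.pos_of_θ hr.ge
    have hu := fQ (xQ hr 1)
    have z : ∀ r', ip Φ r' E.θ = 1 → r' ≠ r → cf S (p * S.x r 1 * p⁻¹) r' = 0 := fun r' hr' n => by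
      by_cases e1' : r' = E.β
      · have b1 := A.a2_bf_conj pz hp.nQ (xQ E.ip_αθ 1) (xQ hr 1)
        have b2 := A.bf_mul_left (A.Z_le_Q hα) (xQ E.ip_αθ 1) hu
        rw [inv_mul_cancel_right, b1, A.vec_bf_zero (mul_inv_eq_iff_eq_mul.1
          (A.vec_cZ (A.vec_Q_le_Y hu) hα)).symm, zero_add, A.bf_comm (xQ E.ip_αθ 1) hu,
          A.bf_comm (xQ E.ip_αθ 1) (xQ hr 1), A.bf_x (b := E.α) E.hβ.symm hu,
          A.bf_x (b := E.α) E.hβ.symm (xQ hr 1), one_mul, one_mul, A.cf_x_ne pr (Ne.symm e1)] at b2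
        rw [e1', ← b2]
      by_cases e2' : r' = E.α
      · rw [e2', A.a2_cf_α hq hp (xQ hr 1), A.cf_x_ne pr (Ne.symm e2)]
      obtain ⟨s, s1, s2, s3, s4⟩ := E.rf2 r r' hr hr' rβ
        (((a2_cases hr').resolve_left e1').resolve_left e2') n
      exact A.a2_step2 hq hp h0 s1 s2 hr s3 hr' s4
    refine A.vec_mem_Z hu (xQ hr 1) fun r' hr' => ?_
    by_cases n : r' = r
    swap
    · rw [z r' hr' n, A.cf_x_ne pr n]
    rw [n, A.cf_x_self pr]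
    refine a2_one hq fun e0 => ?_
    obtain ⟨c, e⟩ := S.mem_X_iff.1 ((A.mem_Z_iff hu).2 fun k hk => by
      by_cases n' : k = r
      · rw [n', e0]
      · exact z k hk n')
    rw [mul_inv_eq_iff_eq_mul, mem_centralizer_iff.1 pz _ (S.x_mem_X _ _), mul_right_inj] at e
    exact vec_ne hr (A.x_inj one_ne_zero e).1
  refine ⟨p, ⟨1, one_ne_zero, hp.pt⟩, pz, hp.nY, fun v hv => ?_, hp.co⟩
  refine S.UU_induction (p := fun v => p * v * p⁻¹ * v⁻¹ ∈ S.X E.θ) (by simp) ?_ hv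
  intro r hr c g hg ih
  have : p * S.x r c * p⁻¹ * (S.x r c)⁻¹ ∈ S.X E.θ := by
    by_cases c0 : c = 0
    · simp [c0, S.x_zero]
    rw [a2_one hq c0]
    by_cases e : r ∈ ({E.θ} : Set ι)
    · rw [Set.mem_singleton_iff.1 e, hp.pz, mul_inv_cancel]
      exact one_mem _
    · exact gen r (vec_one hr e)
  rw [← A.vec_cZ (A.vec_Q_le_Y hg) this] at this
  convert mul_mem ih this using 1
  group

end CfsgLib.SLE
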