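import Mathlib
import Cfsg.Agent.Lib.SLE.A2c

/-!
# An element centralising `Y` and moving `t`
-/

set_option autoImplicit false
set_option linter.unusedSectionVars false

namespace CfsgLib.SLE

open CfsgLib.RGD CfsgLib.Stein Subgroup
open scoped commutatorElement Pointwise

universe u

variable {ι κ : Type} [Fintype κ] [DecidableEq κ] [Finite ι] {Φ : RootSys ι κ} {E : ER Φ}
  {F : Type} [Field F] [Finite F] [CharP F 2] {G : Type u} [Group G] [Finite G]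
  {S : StSys Φ F G}

omit [Finite ι] [Finite F] [CharP F 2] [Finite G] in
/-- `g` centralises `Y_r` and moves `t` to `t x_r(c)` -/
def InT (S : StSys Φ F G) (t : G) (r : ι) (c : F) (g : G) : Prop :=
  g ∈ centralizer (Y S r : Set G) ∧ g * t * g⁻¹ = t * S.x r c

omit [Finite ι] [Finite F] [CharP F 2] [Finite G] in
/-- the result of part II -/
structure Mv (E : ER Φ) (S : StSys Φ F G) (t : G) : Prop extends Sit E S t where
  two : Two S
  ex : ∃ c g, c ≠ 0 ∧ InT S t E.θ c g ∧ CO S t g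

theorem Amb.a3_cen_Q (A : Amb E S) {p : G} (pz : p ∈ centralizer (S.X E.θ : Set G))
    (nY : p ∈ normalizer (Y S E.θ : Set G))
    (nQ : ∀ v ∈ Q S E.θ, p * v * p⁻¹ * v⁻¹ ∈ S.X E.θ) :
    ∃ v ∈ Q S E.θ, v * p ∈ centralizer (Q S E.θ : Set G) := by
  obtain ⟨f, hf⟩ : ∃ f : G → F, ∀ v ∈ Q S E.θ, p * v * p⁻¹ = S.x E.θ (f v) * v := by
    have : ∀ v, ∃ c, v ∈ Q S E.θ → p * v * p⁻¹ = S.x E.θ c * v := fun v => by
      by_cases hv : v ∈ Q S E.θ
      · obtain ⟨c, e⟩ := S.mem_X_iff.1 (nQ v hv)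
        exact ⟨c, fun _ => mul_inv_eq_iff_eq_mul.1 e⟩
      · exact ⟨0, fun h => absurd h hv⟩
    choose f hf using this
    exact ⟨f, hf⟩
  have cY : ∀ {y : G}, y ∈ Y S E.θ → ∀ c, y * S.x E.θ c = S.x E.θ c * y := fun hy c =>
    mul_inv_eq_iff_eq_mul.1 (A.vec_cZ hy (S.x_mem_X _ _))
  have cp : ∀ c, S.x E.θ c * p = p * S.x E.θ c := fun c =>
    mem_centralizer_iff.1 pz _ (S.x_mem_X _ _)
  have add : ∀ v ∈ Q S E.θ, ∀ v' ∈ Q S E.θ, f (v * v') = f v + f v' := fun v hv v' hv' => by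
    refine A.nd.x_injective E.θ (mul_right_cancel (b := v * v') ?_)
    rw [← hf _ (mul_mem hv hv'), S.x_add]
    calc p * (v * v') * p⁻¹ = p * v * p⁻¹ * (p * v' * p⁻¹) := by group
      _ = S.x E.θ (f v) * (v * S.x E.θ (f v')) * v' := by rw [hf v hv, hf v' hv']; group
      _ = _ := by rw [cY (A.vec_Q_le_Y hv)]; group
  have xQ : ∀ {r : ι}, ip Φ r E.θ = 1 → ∀ c, S.x r c ∈ Q S E.θ := fun hr c =>
    S.x_mem_UU (vec_mem hr) c
  have key : ∀ y ∈ Y S E.θ, ∃ v₀ ∈ Q S E.θ, ∀ v ∈ Q S E.θ,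
      f (y * v * y⁻¹) = f v + bf E S v₀ v := fun y hy => by
    have e : ∀ v ∈ Q S E.θ, p⁻¹ * y⁻¹ * p * y * v * (p⁻¹ * y⁻¹ * p * y)⁻¹ * v⁻¹ =
        S.x E.θ (f (y * v * y⁻¹) - f v) := fun v hv => by
      have e1 : p⁻¹ * v * p = (S.x E.θ (f v))⁻¹ * v := by
        calc _ = p⁻¹ * (S.x E.θ (f v))⁻¹ * (S.x E.θ (f v) * v) * p := by group
          _ = (S.x E.θ (f v) * p)⁻¹ * p * v := by rw [← hf v hv]; group
          _ = _ := by rw [cp]; group
      calc _ = p⁻¹ * y⁻¹ * (p * (y * v * y⁻¹) * p⁻¹) * y * p * v⁻¹ := by group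
        _ = p⁻¹ * (y⁻¹ * S.x E.θ (f (y * v * y⁻¹))) * y * p * (p⁻¹ * v * p) * v⁻¹ := by
          rw [hf _ (A.vec_conj hy hv)]; group
        _ = p⁻¹ * (S.x E.θ (f (y * v * y⁻¹)) * p) * (S.x E.θ (f v))⁻¹ := by
          rw [cY (inv_mem hy), e1]; group
        _ = _ := by rw [cp, S.x_sub]; group
    obtain ⟨v₀, h₀, k, hk, ek⟩ := A.cen_V (le_normalizer (S.UU_le_grp _
      (mul_mem ((mem_normalizer_iff''.1 nY _).1 (inv_mem hy)) hy))) fun v hv => by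
        rw [e v hv]
        exact S.x_mem_X _ _
    refine ⟨v₀, h₀, fun v hv => ?_⟩
    have := e v hv
    rw [ek, mul_assoc v₀, ← mem_centralizer_iff.1 hk v (S.UU_le_grp _ hv), mul_inv_rev,
      ← mul_assoc, ← mul_assoc, mul_inv_cancel_right, A.comm_Q h₀ hv] at this
    rw [A.nd.x_injective _ this]
    ring
  have lin : ∀ r, ∃ a, ip Φ r E.θ = 1 → ∀ c, f (S.x r c) = c * a := fun r => by
    by_cases hr : ip Φ r E.θ = 1
    swap
    · exact ⟨0, fun h => absurd h hr⟩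
    obtain ⟨e, e1, e2⟩ := E.ex2' hr
    obtain ⟨s, hs⟩ := E.exists_sub e1
    obtain ⟨e', he'⟩ := E.exists_sub e2
    have s0 : 0 ≤ ip Φ s E.θ := by
      have := hs.ip_left E.θ
      omega
    obtain ⟨v₀, h₀, e₀⟩ := key _ (S.x_mem_UU s0 1)
    refine ⟨cf S v₀ e', fun _ c => ?_⟩
    have := e₀ _ (xQ e2 c)
    rw [A.conj_x hs.symm, add _ (xQ e2 c) _ (xQ hr _), one_mul, A.bf_x he'.symm h₀] at this
    exact add_left_cancel this
  choose a ha using lin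
  have op : ∀ r, ∃ r', ip Φ r E.θ = 1 → RAdd Φ r r' E.θ := fun r => by
    by_cases hr : ip Φ r E.θ = 1
    · exact (E.exists_sub hr).imp fun _ h _ => h
    · exact ⟨r, fun h => absurd h hr⟩
  choose σ hσ using op
  obtain ⟨v, hv, ev⟩ := A.exists_Q fun r => a (σ r)
  refine ⟨v, hv, mem_cent_UU.2 fun r hr c => ?_⟩
  by_cases e : r ∈ ({E.θ} : Set ι)
  · rw [Set.mem_singleton_iff.1 e, ← mul_assoc, ← cY (A.vec_Q_le_Y hv), mul_assoc, cp, mul_assoc]
  have r1 := vec_one hr e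
  have s1 := (E.radd_ip (hσ r r1)).2.2
  have e1 := A.comm_Q hv (xQ r1 c)
  rw [A.bf_x (hσ r r1).symm hv, ev _ s1, (hσ _ s1).unique (hσ r r1).symm, ← ha r r1] at e1
  symm
  calc v * p * S.x r c = v * (p * S.x r c * p⁻¹) * p := by group
    _ = v * S.x E.θ (f (S.x r c)) * S.x r c * p := by rw [hf _ (xQ r1 c)]; group
    _ = S.x E.θ (f (S.x r c)) * (v * S.x r c * v⁻¹ * (S.x r c)⁻¹) * (S.x r c * (v * p)) := by
      rw [cY (A.vec_Q_le_Y hv)]; group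
    _ = _ := by rw [e1, A.x_sq, one_mul]

theorem Sit.inT_of_tv {t : G} (h : Sit E S t) {p : G} (hp : Tv E S t p) :
    ∃ c g, c ≠ 0 ∧ InT S t E.θ c g ∧ CO S t g := by
  have A := h.amb
  obtain ⟨c, c0, pt⟩ := hp.pt
  obtain ⟨v, hv, cQ⟩ := A.a3_cen_Q hp.pz hp.nY hp.nQ
  have nY := mul_mem (le_normalizer (A.vec_Q_le_Y hv)) hp.nY
  refine ⟨c, v * p, c0, ⟨?_, ?_⟩, (CO.of_mem (S.UU_le_grp _ hv)).mul hp.co⟩
  · generalize v * p = g at cQ nY
    have key : ∀ y ∈ Y S E.θ, ∃ k ∈ Y S E.θ, k ∈ centralizer (Y S E.θ : Set G) ∧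
        g * y * g⁻¹ = k * y := fun y hy => by
      have m : g * y * g⁻¹ * y⁻¹ ∈ Y S E.θ := mul_mem ((mem_normalizer_iff.1 nY y).1 hy) (inv_mem hy)
      refine ⟨_, m, ?_, by group⟩
      obtain ⟨c, k, hk, e⟩ := A.cen_Q E.θ (le_normalizer (S.UU_le_grp _ m)) (by
        convert mul_mem cQ ((mem_normalizer_iff.1
          (LAE.normalizer_le_normalizer_centralizer _ (A.Y_norm_Q _ hy)) _).1 (inv_mem cQ)) using 1
        group)
      rw [e]
      exact mul_mem (mem_centralizer_iff.2 fun y hy =>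
        (mem_centralizer_iff.1 (A.Y_le_cent _ hy) _ (S.x_mem_X _ _)).symm)
        (centralizer_le (S.UU_le_grp _) hk)
    have : ⁅Y S E.θ, Y S E.θ⁆ ≤ centralizer {g} := commutator_le.2 fun y hy y' hy' => by
      obtain ⟨k, -, c1, e1⟩ := key y hy
      obtain ⟨k', m2, c2, e2⟩ := key y' hy'
      refine mem_centralizer_singleton_iff.2 (mul_inv_eq_iff_eq_mul.1 ?_).symm
      have a1 := mem_centralizer_iff.1 c1 _ (mul_mem (mul_mem hy (mul_mem m2 hy')) (inv_mem hy))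
      have a2 := mem_centralizer_iff.1 c2 _ (mul_mem (mul_mem hy' (inv_mem hy)) (inv_mem hy'))
      rw [conjugate_commutatorElement, e1, e2, commutatorElement_def, commutatorElement_def]
      calc _ = k * (y * (k' * y') * y⁻¹) * k⁻¹ * y'⁻¹ * k'⁻¹ := by group
        _ = y * (k' * (y' * y⁻¹ * y'⁻¹)) * k'⁻¹ := by rw [← a1]; group
        _ = _ := by rw [← a2]; group
    exact mem_centralizer_iff.2 fun y hy =>
      mem_centralizer_singleton_iff.1 (this ((A.pf_Y _).1 hy))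
  · calc _ = v * (p * t * p⁻¹) * v⁻¹ := by group
      _ = v * t * v⁻¹ * (v * S.x E.θ c * v⁻¹) := by rw [pt]; group
      _ = _ := by
        rw [h.com (S.UU_le_grp _ hv), A.vec_cZ (A.vec_Q_le_Y hv) (S.x_mem_X _ _),
          mul_inv_cancel_right]

theorem Sit.mv {t : G} (h : Sit E S t) (hf : IsConj t (t * S.x E.θ 1)) : Mv E S t := by
  obtain ⟨p, hp⟩ := h.exists_sw hf
  refine ⟨h, h.two_of_sw hp, ?_⟩
  have h2 : 2 ≤ Nat.card F := Finite.one_lt_card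
  rcases h2.eq_or_lt with hq | hq
  · obtain ⟨p', hp'⟩ := h.sw2_of_sw hq.symm hp
    obtain ⟨p'', hp''⟩ := h.tv_of_sw2 hq.symm hp'
    exact h.inT_of_tv hp''
  · obtain ⟨p', hp'⟩ := h.tv_of_sw hq hp
    exact h.inT_of_tv hp'

end CfsgLib.SLE
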