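import Mathlib
import Cfsg.Agent.Lib.SLE.Cen

/-!
# The groups attached to a double centraliser certificate
-/

set_option autoImplicit false
set_option linter.unusedSectionVars false

namespace CfsgLib.SLE

open CfsgLib.RGD CfsgLib.Stein Subgroup
open scoped commutatorElement Pointwise

universe u

variable {ι κ : Type} [Fintype κ] [DecidableEq κ] [Finite ι] {Φ : RootSys ι κ} {E : ER Φ}
  {F : Type} [Field F] [Finite F] [CharP F 2] {G : Type u} [Group G] [Finite G]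
  {S : StSys Φ F G}

omit [Finite ι] [Finite F] [CharP F 2] [Finite G] in
/-- the subgroup `Γ` -/
def Gam (S : StSys Φ F G) (B : List ι) : Subgroup G :=
  closure {g | (∃ a c, TB Φ B a ∧ g = S.x a c) ∨ ∃ a a' c, PB Φ B a a' ∧ g = S.x a c * S.x a' c}

omit [Finite ι] [Finite F] [CharP F 2] [Finite G] in
/-- the subgroup `W` -/
def Wd (E : ER Φ) (S : StSys Φ F G) (B : List ι) : Subgroup G :=
  closure {g | ∃ c e, g = (S.xprod B fun _ => c) * S.x E.θ e}

omit [Finite ι] in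
theorem grB_add (B : List ι) {a b k : ι} (h : RAdd Φ a b k) : grB Φ B k = grB Φ B a + grB Φ B b := by
  simp only [grB, h.ip_left, List.sum_map_add]

omit [Finite ι] in
theorem grB_neg (B : List ι) (r : ι) : grB Φ B (Φ.neg r) = - grB Φ B r := by
  induction B with
  | nil => simp [grB]
  | cons b B ih => simp only [grB, List.map_cons, List.sum_cons] at ih ⊢; rw [ih, ip_neg_left]; ring

omit [Finite ι] in
theorem grB_sum (B : List ι) (r : ι) : grB Φ B r = ∑ i, Φ.rt r i * grB Φ B (Φ.simple i) := by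
  induction B with
  | nil => simp [grB]
  | cons b B ih =>
    simp only [grB, List.map_cons, List.sum_cons] at ih ⊢
    rw [ih, ip_eq_sum, ← Finset.sum_add_distrib]
    exact Finset.sum_congr rfl fun i _ => by rw [ip_simple, mul_add]

theorem DCert.gr_self {B : List ι} (h : DCert E B) {b : ι} (hb : b ∈ B) : grB Φ B b = 2 := by
  classical
  rw [grB, List.sum_map_eq_nsmul_single b _ fun c hc hc' => h.ort b hb c hc' hc.symm,
    List.count_eq_one_of_mem h.nd hb, E.ip_self, one_smul]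

theorem DCert.nonneg {B : List ι} (h : DCert E B) {b c : ι} (hb : b ∈ B) (hc : c ∈ B) : 0 ≤ ip Φ b c := by
  by_cases e : b = c
  · rw [e, E.ip_self]; decide
  · exact (h.ort b hb c hc e).ge

omit [Finite ι] in
theorem DCert.gr_nonneg {B : List ι} (h : DCert E B) {r : ι} (hr : Φ.Pos r) : 0 ≤ grB Φ B r := by
  rw [grB_sum]
  exact Finset.sum_nonneg fun i _ => mul_nonneg (hr i) (h.dom i)

omit [Finite ι] in
theorem DCert.pos_of_gr {B : List ι} (h : DCert E B) {r : ι} (hr : 0 < grB Φ B r) : Φ.Pos r :=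
  (Φ.pos_or_neg r).resolve_right fun k => by
    have := h.gr_nonneg (Φ.pos_neg_iff.2 k)
    rw [grB_neg] at this
    omega

namespace Amb

variable (A : Amb E S) {B : List ι}
include A

theorem comm_xprod {a : ι} {L : List ι} (h : ∀ r ∈ L, 0 ≤ ip Φ a r) (c : F) (t : ι → F) :
    Commute (S.x a c) (S.xprod L t) :=
  Commute.list_prod_right _ _ fun x hx => by
    obtain ⟨r, hr, rfl⟩ := List.mem_map.1 hx
    exact A.com (h r hr) _ _

theorem dc_xprod_add {L : List ι} (h : ∀ r ∈ L, ∀ s ∈ L, 0 ≤ ip Φ r s) (t t' : ι → F) :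
    S.xprod L t * S.xprod L t' = S.xprod L fun r => t r + t' r := by
  induction L with
  | nil => simp [StSys.xprod_nil]
  | cons a L ih =>
    rw [S.xprod_cons, S.xprod_cons, S.xprod_cons, S.x_add, ← ih fun r hr s hs =>
      h r (List.mem_cons_of_mem _ hr) s (List.mem_cons_of_mem _ hs), mul_assoc, mul_assoc, ← mul_assoc (S.xprod L t),
      ← (A.comm_xprod (fun r hr => h a List.mem_cons_self r (List.mem_cons_of_mem _ hr)) _ _).eq, mul_assoc]

theorem zpow_ne_one {c : F} (h1 : c ≠ 1) {d a : ι} (h : ip Φ d a ≠ 0) :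
    c ^ ip Φ d a - 1 ≠ 0 := by
  have h2 : c ^ (2 : ℤ) ≠ 1 := fun e => h1 (by
    rw [zpow_two, mul_self_eq_one_iff, CharTwo.neg_eq, or_self] at e; exact e)
  rw [sub_ne_zero]
  rcases E.ip_cases d a with ⟨-, e⟩ | e | e | e | ⟨-, e⟩ <;> rw [e]
  · exact h2
  · rwa [zpow_one]
  · exact absurd e h
  · rwa [zpow_neg, zpow_one, Ne, inv_eq_one]
  · rwa [zpow_neg, Ne, inv_eq_one]

variable (h : DCert E B)
include h

theorem dc_pos {b : ι} (hb : b ∈ B) : Φ.Pos b := h.pos_of_gr (by rw [h.gr_self hb]; decide)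

theorem dc_gr {r : ι} (hr : Φ.Pos r) : 0 ≤ grB Φ B r := h.gr_nonneg hr

theorem xprod_const_add (c e : F) :
    (S.xprod B fun _ => c) * (S.xprod B fun _ => e) = S.xprod B fun _ => c + e :=
  A.dc_xprod_add (fun _ hr _ hs => h.nonneg hr hs) _ _

theorem conj_l {a b k : ι} (hb : b ∈ B) (hk : RAdd Φ a b k) (hc : ∀ c ∈ B, c ≠ b → 0 ≤ ip Φ a c)
    (c : F) (t : ι → F) : S.x a c * S.xprod B t * (S.x a c)⁻¹ = S.xprod B t * S.x k (c * t b) := by
  obtain ⟨L, L', rfl⟩ := List.append_of_mem hb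
  have nd := h.nd
  rw [List.nodup_middle, List.nodup_cons, List.mem_append, not_or] at nd
  have h1 : ∀ r ∈ L, 0 ≤ ip Φ a r := fun r hr => hc r (by simp [hr]) fun e => nd.1.1 (e ▸ hr)
  have h2 : ∀ r ∈ L', 0 ≤ ip Φ a r := fun r hr => hc r (by simp [hr]) fun e => nd.1.2 (e ▸ hr)
  have h3 : ∀ r ∈ L', 0 ≤ ip Φ k r := fun r hr => by
    rw [hk.ip_left]
    exact add_nonneg (h2 r hr) (h.nonneg hb (by simp [hr]))
  rw [S.xprod_append, S.xprod_cons, ← conj_mul, ← conj_mul, (A.comm_xprod h1 c t).eq, (A.comm_xprod h2 c t).eq,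
    mul_inv_cancel_right, mul_inv_cancel_right, A.conj_x hk, mul_assoc, (A.comm_xprod h3 _ t).eq]
  simp only [mul_assoc]

theorem comm_θ (e : F) (t : ι → F) : Commute (S.x E.θ e) (S.xprod B t) :=
  A.comm_xprod (fun r hr => by rw [ip_comm]; exact E.nonneg_θ (A.dc_pos h hr)) _ _

theorem wd_mul (c e c' e' : F) : (S.xprod B fun _ => c) * S.x E.θ e * ((S.xprod B fun _ => c') * S.x E.θ e') =
    (S.xprod B fun _ => c + c') * S.x E.θ (e + e') := by
  rw [← A.xprod_const_add h, S.x_add, mul_assoc, ← mul_assoc (S.x E.θ e), (A.comm_θ h _ _).eq]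
  simp only [mul_assoc]

theorem wd_sq (c e : F) :
    (S.xprod B fun _ => c) * S.x E.θ e * ((S.xprod B fun _ => c) * S.x E.θ e) = 1 := by
  rw [A.wd_mul h, CharTwo.add_self_eq_zero, CharTwo.add_self_eq_zero, S.xprod_zero, S.x_zero, mul_one]

theorem mem_Wd {w : G} : w ∈ Wd E S B ↔ ∃ c e, w = (S.xprod B fun _ => c) * S.x E.θ e := by
  refine ⟨fun hw => ?_, fun hw => subset_closure hw⟩
  induction hw using closure_induction with
  | mem x hx => exact hx
  | one => exact ⟨0, 0, by rw [S.xprod_zero, S.x_zero, mul_one]⟩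
  | mul x y _ _ hx hy =>
    obtain ⟨c, e, rfl⟩ := hx
    obtain ⟨c', e', rfl⟩ := hy
    exact ⟨_, _, A.wd_mul h _ _ _ _⟩
  | inv x _ hx =>
    obtain ⟨c, e, rfl⟩ := hx
    exact ⟨c, e, inv_eq_of_mul_eq_one_right (A.wd_sq h c e)⟩

theorem Wd_mem_Z {c e : F} : (S.xprod B fun _ => c) * S.x E.θ e ∈ S.X E.θ ↔ c = 0 := by
  classical
  refine ⟨fun k => ?_, fun k => by rw [k, S.xprod_zero, one_mul]; exact S.x_mem_X _ _⟩
  obtain ⟨d, hd⟩ := S.mem_X_iff.1 ((mul_mem_cancel_right (S.x_mem_X _ _)).1 k)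
  obtain ⟨b, hb, -⟩ := h.eta
  have := A.nd.xprod_inj (L := E.θ :: B) (List.nodup_cons.2 ⟨h.nθ, h.nd⟩) (fun r hr =>
    (List.mem_cons.1 hr).elim (fun e => e ▸ E.pos_θ) (A.dc_pos h)) (t := fun r => if r = E.θ then d else c)
    (t' := fun _ => 0) (by
      rw [S.xprod_zero, S.xprod_cons, if_pos rfl, S.xprod_congr (t' := fun _ => c) fun r hr =>
        if_neg fun e : r = E.θ => h.nθ (e ▸ hr), hd, A.x_sq]) b (List.mem_cons_of_mem _ hb)
  rwa [if_neg fun e : b = E.θ => h.nθ (e ▸ hb)] at this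

theorem l_mem_U (t : ι → F) : S.xprod B t ∈ S.U := S.xprod_mem_UU (fun _ hr => A.dc_pos h hr) t

theorem Wd_le : Wd E S B ≤ S.U := fun w hw => by
  obtain ⟨c, e, rfl⟩ := (A.mem_Wd h).1 hw
  exact mul_mem (A.l_mem_U h _) (S.x_mem_U E.pos_θ _)

theorem Wd_sq {w : G} (hw : w ∈ Wd E S B) : w * w = 1 := by
  obtain ⟨c, e, rfl⟩ := (A.mem_Wd h).1 hw
  exact A.wd_sq h c e

omit h in
theorem x_mem_cen {a : ι} (ha : CmB Φ B a) (c : F) : S.x a c ∈ centralizer {S.xprod B fun _ => (1 : F)} :=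
  mem_centralizer_singleton_iff.2 (A.comm_xprod ha c _)

theorem pb_mem_cen {a a' : ι} (ha : PB Φ B a a') (c : F) :
    S.x a c * S.x a' c ∈ centralizer {S.xprod B fun _ => (1 : F)} := by
  obtain ⟨-, -, -, ⟨b, hb, b', hb', k, h1, h2, -, h3, h4⟩, -⟩ := ha
  rw [mem_centralizer_singleton_iff, ← mul_inv_eq_iff_eq_mul, show ∀ x y l : G, x * y * l * (x * y)⁻¹ =
    x * (y * l * y⁻¹) * x⁻¹ from fun x y l => by group, A.conj_l h hb' h2 h4, ← conj_mul, A.conj_l h hb h1 h3,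
    A.com (a := a) (b := k) (by rw [(E.radd_ip h1).2.1]; decide), mul_inv_cancel_right, mul_assoc, A.x_sq, mul_one]

theorem Gam_le : Gam S B ≤ S.U ⊓ centralizer {S.xprod B fun _ => 1} := by
  refine (closure_le _).2 ?_
  rintro _ (⟨a, c, ha, rfl⟩ | ⟨a, a', c, ha, rfl⟩)
  exacts [⟨S.x_mem_U ha.1 c, A.x_mem_cen ha.2.1 c⟩,
    ⟨mul_mem (S.x_mem_U ha.1 c) (S.x_mem_U ha.2.1 c), A.pb_mem_cen h ha c⟩]

theorem Gam_le_comm (hq : 2 < Nat.card F) : Gam S B ≤
    ⁅S.grp ⊓ centralizer {S.xprod B fun _ => 1}, S.grp ⊓ centralizer {S.xprod B fun _ => 1}⁆ := by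
  obtain ⟨m, m0, m1⟩ : ∃ m : F, m ≠ 0 ∧ m ≠ 1 := by
    by_contra k
    push Not at k
    have : Nat.card F ≤ 2 := by
      rw [← Set.ncard_univ, ← Set.ncard_pair (zero_ne_one (α := F))]
      exact Set.ncard_le_ncard fun x _ => or_iff_not_imp_left.2 (k x)
    omega
  have hh : ∀ d, OrB Φ B d → S.h d m ∈ S.grp ⊓ centralizer {S.xprod B fun _ => (1 : F)} := fun d hd =>
    ⟨S.h_mem_grp d m, mem_centralizer_singleton_iff.2 (Commute.list_prod_right _ _ fun x hx => by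
      obtain ⟨r, hr, rfl⟩ := List.mem_map.1 hx
      refine mul_inv_eq_iff_eq_mul.1 ?_
      rw [A.h_conj d r m0, hd r hr, zpow_zero, one_mul])⟩
  have e : ∀ {n c : F}, n - 1 ≠ 0 → n * (c / (n - 1)) = c + c / (n - 1) := fun hn => by
    field_simp; ring
  refine (closure_le _).2 ?_
  rintro _ (⟨a, c, ⟨-, h1, ⟨x, y, hx, hy, h2⟩ | ⟨d, hd, h2⟩⟩, rfl⟩ | ⟨a, a', c, ha, rfl⟩)
  · rw [← mul_one c, ← A.rel.cm x y a h2]
    exact commutator_mem_commutator ⟨S.x_mem_grp _ _, A.x_mem_cen hx _⟩ ⟨S.x_mem_grp _ _, A.x_mem_cen hy _⟩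
  · have := commutator_mem_commutator (hh d hd) (mem_inf.2 ⟨S.x_mem_grp _ _, A.x_mem_cen h1 (c / (m ^ ip Φ d a - 1))⟩)
    rwa [commutatorElement_def, A.h_conj d a m0, e (A.zpow_ne_one m1 h2), S.x_add, mul_inv_cancel_right] at this
  · obtain ⟨d, hd, h2, h3⟩ := ha.2.2.2.2
    have := commutator_mem_commutator (hh d hd) (mem_inf.2 ⟨mul_mem (S.x_mem_grp _ _) (S.x_mem_grp _ _),
      A.pb_mem_cen h ha (c / (m ^ ip Φ d a - 1))⟩)
    rwa [commutatorElement_def, ← conj_mul, A.h_conj d a m0, A.h_conj d a' m0, ← h2,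
      e (A.zpow_ne_one m1 h3), S.x_add, S.x_add, mul_assoc (S.x a c), ← mul_assoc (S.x a _) (S.x a' c),
      A.com ha.2.2.1, mul_assoc (S.x a' c), ← mul_assoc (S.x a c), mul_inv_cancel_right] at this

theorem dc_lb : ∃ P ≤ S.U ⊓ centralizer {S.xprod B fun _ => 1},
    Nat.card F ^ (NP Φ + 3) ≤ Nat.card P ^ 2 := by
  refine ⟨S.UU {a | Φ.Pos a ∧ CmB Φ B a}, S.UU_le_iff.2 fun r hr c => ⟨S.x_mem_U hr.1 c, A.x_mem_cen hr.2 c⟩, ?_⟩
  rw [A.nd.card_UU (E.closed_of (T := {a | Φ.Pos a ∧ CmB Φ B a}) (fun r hr => hr.1) fun a ha b hb k hk => ⟨radd_pos hk ha.1 hb.1, fun c hc => by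
    rw [hk.ip_left]; exact add_nonneg (ha.2 c hc) (hb.2 c hc)⟩) fun r hr => hr.1, ← pow_mul, mul_comm]
  exact Nat.pow_le_pow_right Nat.card_pos h.lb

end Amb

end CfsgLib.SLE
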