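import Mathlib
import Cfsg.Agent.Lib.SLE.Dcg

/-!
# Graph involutions; lower bounds for centralisers
-/

set_option autoImplicit false
set_option linter.unusedSectionVars false
set_option linter.unusedVariables false

namespace CfsgLib.SLE

open CfsgLib.RGD CfsgLib.Stein Subgroup
open scoped commutatorElement Pointwise

universe u

variable {ι κ : Type} [Fintype κ] [DecidableEq κ] [Finite ι] {Φ : RootSys ι κ} {E : ER Φ}
  {F : Type} [Field F] [Finite F] [CharP F 2] {G : Type u} [Group G] [Finite G]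
  {S : StSys Φ F G}

namespace Amb

variable (A : Amb E S) {s : G} {π : Equiv.Perm ι}
include A

omit A in
theorem gr_lay {m : ℤ} (hm : 1 ≤ m) :
    Lay Φ {r | Φ.Pos r ∧ m ≤ Φ.ht r} {r | Φ.Pos r ∧ m + 1 ≤ Φ.ht r} :=
  ⟨fun _ h => h.1, fun _ h => ⟨h.1, by have := h.2; omega⟩, fun a ha b hb k hk =>
    ⟨radd_pos hk ha.1 hb.1, by have := ha.2; have := hb.2; have := radd_ht hk; omega⟩⟩

theorem gr_comm {m n : ℤ} {u v : G} (hu : u ∈ S.UU {r | Φ.Pos r ∧ m ≤ Φ.ht r})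
    (hv : v ∈ S.UU {r | Φ.Pos r ∧ n ≤ Φ.ht r}) :
    u * v * u⁻¹ * v⁻¹ ∈ S.UU {r | Φ.Pos r ∧ m + n ≤ Φ.ht r} :=
  A.comm_mem_wt Φ.ht (fun _ => Φ.ht_pos) (fun _ _ _ => radd_ht) hu hv

/-- `U` acts trivially on the height layers -/
theorem gr_conj {m : ℤ} (hm : 1 ≤ m) {u v : G} (hu : u ∈ S.U)
    (hv : v ∈ S.UU {r | Φ.Pos r ∧ m ≤ Φ.ht r}) : u * v * u⁻¹ ∈ S.UU {r | Φ.Pos r ∧ m ≤ Φ.ht r} ∧
      ∀ r, Φ.ht r = m → cf S (u * v * u⁻¹) r = cf S v r := by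
  have h1 := A.gr_comm (m := 1) (S.UU_mono (fun r hr => And.intro hr (Φ.ht_pos hr)) hu) hv
  rw [add_comm] at h1
  have h2 := S.UU_mono (gr_lay (Φ := Φ) hm).sub h1
  rw [← inv_mul_cancel_right (u * v * u⁻¹) v]
  refine ⟨mul_mem h2 hv, fun r hr => ?_⟩
  have h3 : r ∉ {r | Φ.Pos r ∧ m + 1 ≤ Φ.ht r} := fun h => by have := h.2; omega
  rw [A.cf_mul (gr_lay hm) h2 hv h3, A.cf_eq_zero (E.closed_of_idl (E.idl_ht _)) (fun _ h => h.1) h1 h3,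
    zero_add]

theorem gr_exists {T T' Ψ : Set ι} (h : Lay Φ T T') (hΨ : Ψ ⊆ T) (t : ι → F) :
    ∃ a ∈ S.UU Ψ, ∀ r, r ∉ T' → (r ∈ Ψ → cf S a r = t r) ∧ (r ∉ Ψ → cf S a r = 0) := by
  obtain ⟨L, hL, hm⟩ := StSys.exists_list Ψ
  refine ⟨S.xprod L t, S.xprod_mem_UU (fun r hr => (hm r).1 hr) t, fun r hr => ?_⟩
  rw [← hm]
  exact A.cf_xprod h hL (fun r hr => hΨ ((hm r).1 hr)) t hr

theorem gr_d {δ : G} {d : ι → F} (h : StdD S δ E.γ d 1) (h2 : δ * δ = 1) (r : ι) :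
    d (E.γ r) * d r = 1 := by
  have e : δ * (δ * S.x r 1 * δ⁻¹) * δ⁻¹ = S.x r 1 := by
    rw [show δ * (δ * S.x r 1 * δ⁻¹) * δ⁻¹ = (δ * δ) * S.x r 1 * (δ * δ)⁻¹ by group, h2]; group
  rw [h.2, h.2] at e
  have := (A.x_inj one_ne_zero e.symm).2
  simpa using this.symm

theorem gr_cent {δ : G} {d : ι → F} (h : StdD S δ E.γ d 1) (h2 : δ * δ = 1) {v : G}
    (hv : v ∈ S.UU {r | Φ.Pos r ∧ E.γ r = r}) : δ * v = v * δ := by
  refine (mem_cent_UU.2 fun r hr c => ?_ : δ ∈ centralizer _) v hv |>.symm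
  have h1 := A.gr_d h h2 r
  rw [hr.2] at h1
  have h3 : d r = 1 := by
    rcases mul_self_eq_one_iff.1 h1 with e | e
    · exact e
    · rw [e, CharTwo.neg_eq]
  have := h.2 r c
  rw [hr.2, h3, one_mul, mul_inv_eq_iff_eq_mul] at this
  exact this.symm

theorem gr_closed : Φ.Closed {r | Φ.Pos r ∧ E.γ r = r} :=
  E.closed_of (fun _ h => h.1) fun a ha b hb k hk => ⟨radd_pos hk ha.1 hb.1, by
    have := E.γa a b k hk
    rw [ha.2, hb.2] at this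
    exact this.unique' hk⟩

theorem gr_std (h : Typ S s E.γ 1) (s2 : s * s = 1) (hU : s ∈ normalizer (S.U : Set G)) :
    ∃ v ∈ S.U, ∃ δ d, StdD S δ E.γ d 1 ∧ δ * δ = 1 ∧ s = v * δ := by
  obtain ⟨u, hu, ⟨d, hd⟩, h2⟩ := A.exists_std_inv h (Or.inr rfl) hU s2
  exact ⟨u⁻¹, inv_mem hu, u * s, d, hd, h2, by group⟩

theorem gr_step {δ v y : G} {d : ι → F} (h : StdD S δ E.γ d 1) (h2 : δ * δ = 1) {m : ℤ} (hm : 1 ≤ m)
    (hv : v ∈ S.UU {r | Φ.Pos r ∧ E.γ r = r}) (hy : y ∈ S.UU {r | Φ.Pos r ∧ m ≤ Φ.ht r})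
    (e : v * y * δ * (v * y * δ) = 1) : ∃ a ∈ S.U, ∃ v' ∈ S.UU {r | Φ.Pos r ∧ E.γ r = r},
      ∃ y' ∈ S.UU {r | Φ.Pos r ∧ m + 1 ≤ Φ.ht r}, a * (v * y * δ) * a⁻¹ = v' * y' * δ := by
  have L := gr_lay (Φ := Φ) hm
  have nm : ∀ r, Φ.ht r = m → r ∉ {r | Φ.Pos r ∧ m + 1 ≤ Φ.ht r} := fun r hr h => by
    have := h.2; omega
  have inv : ∀ n r, E.γ r ∈ {r | Φ.Pos r ∧ n ≤ Φ.ht r} ↔ r ∈ {r | Φ.Pos r ∧ n ≤ Φ.ht r} := fun n r => by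
    simp only [Set.mem_setOf_eq, E.γ_pos, E.γ_ht]
  have hvU : v ∈ S.U := S.UU_le_U (fun _ h => h.1) hv
  have cm : ∀ {a}, a ∈ S.UU {r | Φ.Pos r ∧ m ≤ Φ.ht r} → δ * a * δ⁻¹ ∈ S.UU {r | Φ.Pos r ∧ m ≤ Φ.ht r} :=
    fun ha => h.conj_mem (fun r hr => (inv m r).2 hr) ha
  have cs : ∀ {a}, a ∈ S.UU {r | Φ.Pos r ∧ m ≤ Φ.ht r} → ∀ r, Φ.ht r = m →
      cf S (δ * a * δ⁻¹) r = d (E.γ r) * cf S a (E.γ r) := fun ha r hr => by
    have := A.cf_std L h (inv _) (inv _) ha (nm (E.γ r) ((E.γ_ht r).trans hr))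
    rwa [E.γ2] at this
  have e1 : y * (v * (δ * y * δ⁻¹) * v⁻¹) = (v * v)⁻¹ := by
    have c := A.gr_cent h h2 hv
    have i : δ⁻¹ = δ := inv_eq_of_mul_eq_one_right h2
    calc y * (v * (δ * y * δ⁻¹) * v⁻¹) = v⁻¹ * (v * y * (v * δ) * y * δ⁻¹) * v⁻¹ := by group
      _ = v⁻¹ * (v * y * δ * (v * y * δ)) * v⁻¹ := by rw [← c, i]; group
      _ = _ := by rw [e]; group
  have k1 : ∀ r, Φ.ht r = m → E.γ r ≠ r → cf S y r + d (E.γ r) * cf S y (E.γ r) = 0 := fun r hr hr' => by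
    obtain ⟨a1, a2⟩ := A.gr_conj hm hvU (cm hy)
    rw [← cs hy r hr, ← a2 r hr, ← A.cf_mul L hy a1 (nm r hr), e1]
    exact A.cf_eq_zero A.gr_closed (fun _ h => h.1) (inv_mem (mul_mem hv hv)) fun h => hr' h.2
  let f := Finite.equivFin ι
  obtain ⟨a, ha, ca⟩ := A.gr_exists L (Ψ := {r | (Φ.Pos r ∧ m ≤ Φ.ht r) ∧ f r < f (E.γ r)})
    (fun _ h => h.1) (cf S y)
  have ha' := S.UU_mono (fun _ h => h.1) ha
  obtain ⟨b1, b2⟩ := A.gr_conj hm (inv_mem hvU) (inv_mem ha')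
  have hy₁ := mul_mem (mul_mem b1 hy) (cm ha')
  obtain ⟨b, hb, cb⟩ := A.gr_exists L (Ψ := {r | (Φ.Pos r ∧ m ≤ Φ.ht r) ∧ E.γ r = r})
    (fun _ h => h.1) (cf S (v⁻¹ * a⁻¹ * v⁻¹⁻¹ * y * (δ * a * δ⁻¹)))
  have hb' := S.UU_mono (fun _ h => h.1) hb
  refine ⟨a⁻¹, inv_mem (S.UU_le_U (fun _ h => h.1) ha'), v * b,
    mul_mem hv (S.UU_mono (fun _ h => And.intro h.1.1 h.2) hb), _,
    A.mul_inv_mem L (inv_mem hb') (inv_mem hy₁) fun r hr hr' => ?_, by group⟩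
  have hm' : Φ.ht r = m := le_antisymm (by by_contra h3; exact hr' ⟨hr.1, by omega⟩) hr.2
  rw [A.cf_inv L hb' hr', A.cf_inv L hy₁ hr']
  by_cases h3 : E.γ r = r
  · exact (cb r hr').1 ⟨hr, h3⟩
  have hr2 := nm (E.γ r) ((E.γ_ht r).trans hm')
  rw [(cb r hr').2 fun h => h3 h.2, A.cf_mul L (mul_mem b1 hy) (cm ha') hr', A.cf_mul L b1 hy hr',
    b2 r hm', A.cf_inv L ha' hr', cs ha' r hm']
  rcases lt_or_gt_of_ne (fun h4 => h3 (f.injective h4).symm : f r ≠ f (E.γ r)) with h4 | h4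
  · rw [(ca r hr').1 ⟨hr, h4⟩, (ca _ hr2).2 fun h => absurd h.2 (by rw [E.γ2]; exact not_lt.2 h4.le),
      CharTwo.add_self_eq_zero, mul_zero, add_zero]
  · rw [(ca r hr').2 fun h => absurd h.2 (not_lt.2 h4.le), (ca _ hr2).1 ⟨(inv m r).2 hr, by rwa [E.γ2]⟩,
      zero_add, k1 r hm' h3]

/-- **GR** -/
theorem exists_four (h : Typ S s E.γ 1) (h1 : E.γ ≠ 1) (s2 : s * s = 1)
    (hU : s ∈ normalizer (S.U : Set G)) : ∃ e₁ ∈ S.U, ∃ e₂ ∈ S.U, e₁ ≠ 1 ∧ e₂ ≠ 1 ∧ e₁ ≠ e₂ ∧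
      ∀ e, e = e₁ ∨ e = e₂ ∨ e = e₁ * e₂ → e * e = 1 ∧ e * s = s * e ∧
        ∃ u ∈ S.U, s * e = u * s * u⁻¹ := by
  obtain ⟨v, hv, δ, d, hd, h2, e⟩ := A.gr_std h s2 hU
  obtain ⟨r, r', hr, hr', h3, h4⟩ := E.gr h1
  have h5 := Φ.ht_pos E.pos_θ
  have ph : ∀ r, 0 < Φ.ht r → Φ.Pos r := fun r h => (Φ.pos_or_neg r).resolve_right fun h' => by
    have := Φ.ht_pos (Φ.pos_neg_iff.2 h')
    rw [Φ.ht_neg] at this
    omega
  have is : s⁻¹ = s := inv_eq_of_mul_eq_one_right s2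
  have cm : ∀ {m a}, 1 ≤ m → a ∈ S.UU {r | Φ.Pos r ∧ m ≤ Φ.ht r} →
      s * a * s⁻¹ ∈ S.UU {r | Φ.Pos r ∧ m ≤ Φ.ht r} := fun hm ha => by
    rw [e, show ∀ a, v * δ * a * (v * δ)⁻¹ = v * (δ * a * δ⁻¹) * v⁻¹ from fun a => by group]
    exact (A.gr_conj hm hv (hd.conj_mem (fun r hr => And.intro ((E.γ_pos r).2 hr.1) (hr.2.trans (E.γ_ht r).ge)) ha)).1
  have xm : ∀ {m r}, 1 ≤ m → m ≤ Φ.ht r → ∀ c, S.x r c ∈ S.UU {r | Φ.Pos r ∧ m ≤ Φ.ht r} :=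
    fun hm hr c => S.x_mem_UU (And.intro (ph _ (by omega)) hr) c
  have lead : ∀ r, E.γ r ≠ r → 1 ≤ Φ.ht r → cf S (S.x r 1 * (s * S.x r 1 * s⁻¹)) r = 1 := fun r hr hm => by
    rw [A.cf_mul (gr_lay hm) (xm hm le_rfl 1) (cm hm (xm hm le_rfl 1)) fun h => by have := h.2; omega,
      A.cf_x_self (ph r hm), e, show v * δ * S.x r 1 * (v * δ)⁻¹ = v * (δ * S.x r 1 * δ⁻¹) * v⁻¹ by group,
      hd.2, (A.gr_conj hm hv (xm hm (E.γ_ht r).ge _)).2 r rfl,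
      A.cf_x_ne ((E.γ_pos r).2 (ph r hm)) hr.symm, add_zero]
  have m1 : 1 ≤ Φ.ht r' := by omega
  have ab : ∀ a ∈ S.UU {k | Φ.Pos k ∧ Φ.ht r' ≤ Φ.ht k}, ∀ b ∈ S.UU {k | Φ.Pos k ∧ Φ.ht r' ≤ Φ.ht k},
      a * b = b * a := fun a ha b hb => by
    have := S.UU_mono (Ψ' := ∅) (fun k hk => by
      have := hk.2
      by_cases h6 : k = E.θ
      · rw [h6] at this; omega
      · have := E.ht_lt_θ h6; omega) (A.gr_comm ha hb)
    rw [S.UU_empty, mem_bot] at this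
    exact commutatorElement_eq_one_iff_mul_comm.1 this
  have sq : ∀ a ∈ S.UU {k | Φ.Pos k ∧ Φ.ht r' ≤ Φ.ht k}, a * a = 1 := fun a ha => by
    refine S.UU_induction (p := fun a => a * a = 1) (one_mul 1) (fun k hk t g hg h6 => ?_) ha
    rw [mul_assoc, ← mul_assoc _ g, ← ab g hg _ (S.x_mem_UU hk t), mul_assoc, A.x_sq, mul_one, h6]
  have key : ∀ a ∈ S.UU {k | Φ.Pos k ∧ Φ.ht r' ≤ Φ.ht k}, ∀ x, x = a * (s * a * s⁻¹) →
      x * x = 1 ∧ x * s = s * x ∧ ∃ u ∈ S.U, s * x = u * s * u⁻¹ := by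
    rintro a ha _ rfl
    have c := ab a ha _ (cm m1 ha)
    refine ⟨sq _ (mul_mem ha (cm m1 ha)), ?_, a, S.UU_le_U (fun _ h => h.1) ha, ?_⟩
    · calc a * (s * a * s⁻¹) * s = (s * a * s⁻¹) * a * s := by rw [c]
        _ = _ := by rw [is]; simp only [mul_assoc]
    · rw [c, inv_eq_of_mul_eq_one_right (sq a ha), ← mul_assoc, ← mul_assoc, ← mul_assoc, s2, one_mul, is]
  have x1 := xm m1 h3.le 1
  have x2 := xm m1 (le_refl (Φ.ht r')) 1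
  have U := S.UU_le_U (Ψ := {k | Φ.Pos k ∧ Φ.ht r' ≤ Φ.ht k}) fun _ h => h.1
  refine ⟨_, U (mul_mem x1 (cm m1 x1)), _, U (mul_mem x2 (cm m1 x2)), fun h6 => ?_, fun h6 => ?_,
    fun h6 => ?_, ?_⟩
  · have := lead r hr (by omega)
    rw [h6, A.cf_one] at this
    exact zero_ne_one this
  · have := lead r' hr' m1
    rw [h6, A.cf_one] at this
    exact zero_ne_one this
  · have := lead r' hr' m1
    have x3 := xm (m := Φ.ht r) (by omega) le_rfl 1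
    rw [← h6, A.cf_eq_zero (E.closed_of_idl (E.idl_ht _)) (fun _ h => h.1)
      (mul_mem x3 (cm (by omega) x3)) fun h => by have := h.2; omega] at this
    exact zero_ne_one this
  · rintro _ (rfl | rfl | rfl)
    · exact key _ x1 _ rfl
    · exact key _ x2 _ rfl
    · refine key _ (mul_mem x1 x2) _ ?_
      rw [mul_assoc, ← mul_assoc (s * S.x r 1 * s⁻¹), ← ab _ x2 _ (cm m1 x1)]; group

/-- a graph involution normalising `U` is conjugate to `v δ` -/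
theorem exists_graph_form (h : Typ S s E.γ 1) (h1 : E.γ ≠ 1) (s2 : s * s = 1)
    (hU : s ∈ normalizer (S.U : Set G)) : ∃ u ∈ S.U, ∃ v ∈ S.UU {r | Φ.Pos r ∧ E.γ r = r},
      ∃ δ d, StdD S δ E.γ d 1 ∧ δ * δ = 1 ∧ v * v = 1 ∧ u * s * u⁻¹ = v * δ := by
  obtain ⟨v, hv, δ, d, hd, h2, e⟩ := A.gr_std h s2 hU
  have key : ∀ n : ℕ, ∃ u ∈ S.U, ∃ v ∈ S.UU {r | Φ.Pos r ∧ E.γ r = r},
      ∃ y ∈ S.UU {r | Φ.Pos r ∧ (n : ℤ) + 1 ≤ Φ.ht r}, u * s * u⁻¹ = v * y * δ := fun n => by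
    induction n with
    | zero => exact ⟨1, one_mem _, 1, one_mem _, v,
        S.UU_mono (fun r hr => And.intro hr (by have := Φ.ht_pos hr; omega)) hv, by rw [e]; group⟩
    | succ n ih =>
      obtain ⟨u, hu, w, hw, y, hy, e1⟩ := ih
      obtain ⟨a, ha, w', hw', y', hy', e2⟩ := A.gr_step hd h2 (by omega) hw hy (by
        rw [← e1, conj_mul, s2]; group)
      exact ⟨a * u, mul_mem ha hu, w', hw', y', by push_cast; exact hy', by rw [← e2, ← e1]; group⟩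
  obtain ⟨u, hu, w, hw, y, hy, e1⟩ := key (Φ.ht E.θ).toNat
  have h3 : y = 1 := by
    have := S.UU_mono (Ψ' := ∅) (fun k hk => by
      have := hk.2
      by_cases h6 : k = E.θ
      · rw [h6] at this; omega
      · have := E.ht_lt_θ h6; omega) hy
    rwa [S.UU_empty, mem_bot] at this
  rw [h3, mul_one] at e1
  refine ⟨u, hu, w, hw, δ, d, hd, h2, ?_, e1⟩
  have : w * δ * (w * δ) = 1 := by rw [← e1, conj_mul, s2]; group
  rwa [mul_assoc, ← mul_assoc δ, A.gr_cent hd h2 hw, mul_assoc, h2, mul_one] at this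

omit A [Finite ι] [Finite F] [CharP F 2] [Finite G] in
theorem gr_lb_conj {g : G} (hg : g ∈ S.grp) {n : ℕ}
    (h : ∃ P ≤ S.grp ⊓ centralizer {g * s * g⁻¹}, IsPGroup 2 P ∧ n ≤ Nat.card P ^ 2) :
    ∃ P ≤ S.grp ⊓ centralizer {s}, IsPGroup 2 P ∧ n ≤ Nat.card P ^ 2 := by
  obtain ⟨P, h1, h2, h3⟩ := h
  refine ⟨P.map (MulAut.conj g⁻¹).toMonoidHom, ?_, h2.map _, by
    rwa [card_map_of_injective (MulAut.conj g⁻¹).injective]⟩
  rintro _ ⟨x, hx, rfl⟩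
  refine ⟨S.grp.mul_mem (S.grp.mul_mem (S.grp.inv_mem hg) (h1 hx).1) (S.grp.inv_mem (S.grp.inv_mem hg)),
    mem_centralizer_singleton_iff.2 ?_⟩
  have := mem_centralizer_singleton_iff.1 (h1 hx).2
  show g⁻¹ * x * g⁻¹⁻¹ * s = s * (g⁻¹ * x * g⁻¹⁻¹)
  calc g⁻¹ * x * g⁻¹⁻¹ * s = g⁻¹ * (x * (g * s * g⁻¹)) * g := by group
    _ = _ := by rw [this]; group

theorem gr_lb_inner {l : G} (hl : l ∈ S.grp) (l2 : l * l = 1) :
    ∃ P ≤ S.grp ⊓ centralizer {l}, IsPGroup 2 P ∧ Nat.card F ^ (NP Φ + 3) ≤ Nat.card P ^ 2 := by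
  have hU : Nat.card F ^ (NP Φ + 3) ≤ Nat.card S.U ^ 2 := by
    rw [A.card_U, ← pow_mul]
    exact Nat.pow_le_pow_right Nat.card_pos (by have := E.np; omega)
  by_cases l1 : l = 1
  · exact ⟨S.U, le_inf S.U_le_grp fun x _ => mem_centralizer_singleton_iff.2 (by rw [l1]; group),
      A.pg_U, hU⟩
  obtain ⟨g, hg, e | ⟨B, hB, e⟩⟩ := A.dc l hl l2 l1
  · refine gr_lb_conj hg ⟨S.U, le_inf S.U_le_grp fun x hx => mem_centralizer_singleton_iff.2 ?_, A.pg_U, hU⟩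
    rw [e]
    exact (A.Y_le_cent E.θ (A.U_le_Y hx) _ (S.x_mem_X _ _)).symm
  · obtain ⟨P, h1, h2⟩ := A.dc_lb hB
    exact gr_lb_conj hg ⟨P, e ▸ h1.trans (inf_le_inf_right _ S.U_le_grp),
      A.pg_U.to_le (h1.trans inf_le_left), h2⟩

/-- **LB** -/
theorem lb (h : Typ S s π 1) (hπ : π = 1 ∨ π = E.γ) (s2 : s * s = 1) :
    ∃ P ≤ S.grp ⊓ centralizer {s}, IsPGroup 2 P ∧ Nat.card F ^ (NP Φ + 3) ≤ Nat.card P ^ 2 := by
  by_cases h1 : π = 1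
  · subst h1
    obtain ⟨l, hl, c, hc, rfl, l2, -⟩ := A.inv_split h s2
    obtain ⟨P, h2, h3⟩ := A.gr_lb_inner hl l2
    refine ⟨P, fun x hx => ⟨(h2 hx).1, mem_centralizer_singleton_iff.2 ?_⟩, h3⟩
    rw [← mul_assoc, mem_centralizer_singleton_iff.1 (h2 hx).2, mul_assoc, hc x (h2 hx).1, mul_assoc]
  obtain rfl := hπ.resolve_left h1
  have hp : IsPGroup 2 (zpowers s) := by
    refine IsPGroup.of_card_dvd_pow (n := 1) ?_
    rw [Nat.card_zpowers]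
    exact orderOf_dvd_of_pow_eq_one (by rw [pow_one, pow_two, s2])
  obtain ⟨l, hl, hn⟩ := A.exists_norm_U hp (zpowers_le.2 h.mem_NL)
  obtain ⟨u, hu, v, hv, δ, d, hd, h2, v2, e⟩ := A.exists_graph_form (h.conj E.γn hl) h1
    (by rw [conj_mul, s2]; group) (hn s (mem_zpowers s))
  obtain ⟨P, p1, p2, p3, p4⟩ := A.lbg h1 d (fun _ _ _ => A.d_add hd (E.gp (Or.inr rfl))) hd.1
    (A.gr_d hd h2) v hv v2
  have p5 : twG S E.γ d (RingEquiv.refl F) Set.univ ≤ S.grp ⊓ centralizer {δ} := by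
    refine (closure_le _).2 ?_
    rintro _ ⟨r, -, c, ⟨a1, a2, rfl⟩ | ⟨a1, rfl⟩⟩
    · refine ⟨S.x_mem_grp _ _, mem_centralizer_singleton_iff.2 (mul_inv_eq_iff_eq_mul.1 ?_).symm⟩
      rw [hd.2, a1]; exact congrArg _ a2
    · refine ⟨mul_mem (S.x_mem_grp _ _) (S.x_mem_grp _ _),
        mem_centralizer_singleton_iff.2 (mul_inv_eq_iff_eq_mul.1 ?_).symm⟩
      rw [← conj_mul, hd.2, hd.2, E.γ2, A.com (E.γo r)]
      show _ * S.x r (d (E.γ r) * (d r * c)) = _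
      rw [← mul_assoc, A.gr_d hd h2, one_mul]; rfl
  refine gr_lb_conj hl (gr_lb_conj (S.U_le_grp hu) ⟨P, fun x hx => ⟨(p5 (p1 hx)).1,
    mem_centralizer_singleton_iff.2 ?_⟩, p2, p4⟩)
  rw [e, ← mul_assoc, mem_centralizer_singleton_iff.1 (p3 hx), mul_assoc,
    mem_centralizer_singleton_iff.1 (p5 (p1 hx)).2, mul_assoc]

end Amb

end CfsgLib.SLE
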