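import Mathlib
import Cfsg.Agent.Lib.SLE.SemiA
import Cfsg.Agent.Lib.RGD.Coef

/-!
# Semilinear involutions
-/

set_option autoImplicit false

namespace CfsgLib.SLE

open CfsgLib.RGD CfsgLib.Stein Subgroup
open scoped commutatorElement Pointwise

universe u

variable {ι κ : Type} [Fintype κ] [DecidableEq κ] [Finite ι] {Φ : RootSys ι κ} {E : ER Φ}
  {F : Type} [Field F] [Finite F] [CharP F 2] {G : Type u} [Group G] [Finite G]
  {S : StSys Φ F G}

omit [Finite ι] in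
theorem sm_simple_mem (i : κ) : Φ.simple i ∈ SmH Φ 1 := ⟨Φ.pos_simple i, (Φ.ht_simple i).ge⟩

omit [Finite ι] in
theorem sm_not_mem {r : ι} (h : Φ.ht r = 1) : r ∉ SmH Φ (1 + 1) := fun h' => by
  have := h'.2; omega

namespace Amb

variable (A : Amb E S) {s : G} {π : Equiv.Perm ι} {d : ι → F} {σ : F ≃+* F}
include A

theorem sm_fix_mem (h : StdD S s π d σ) (hπ : E.Gp π) (s2 : s * s = 1) {r : ι} (hr : Φ.Pos r)
    (h1 : π r = r) {c : F} (hc : d r * σ c = c) : S.x r c ∈ S.U ⊓ centralizer {s} :=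
  A.sm_twG_le h hπ s2 (Ψ := {r | Φ.Pos r}) (fun r hr => (hπ.pos r).2 hr)
    (subset_closure ⟨r, hr, c, Or.inl ⟨h1, hc, rfl⟩⟩)

theorem sm_pair_mem (h : StdD S s π d σ) (hπ : E.Gp π) (s2 : s * s = 1) {r : ι} (hr : Φ.Pos r)
    (c : F) : S.x r c * S.x (π r) (d r * σ c) ∈ S.U ⊓ centralizer {s} := by
  have := A.sm_twG_le h hπ s2 (Ψ := {r | Φ.Pos r}) (fun r hr => (hπ.pos r).2 hr)
    (A.sm_tr_mem h hπ s2 hr c)
  rwa [h.2] at this

/-- the centraliser of `C_U(s)` normalises `U` -/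
theorem sm_norm (h : StdD S s π d σ) (hπ : E.Gp π) (hσ : σ ≠ 1) (s2 : s * s = 1) {g : G}
    (hg : g ∈ NL S) (hc : g ∈ centralizer ((S.U ⊓ centralizer {s} : Subgroup G) : Set G)) :
    g ∈ normalizer (S.U : Set G) := by
  obtain ⟨π', σ', hπ', l, hl, d', hd⟩ := A.aut g hg
  have gp := E.gp hπ'
  have hp : ∀ r ∈ {r | Φ.Pos r}, π' r ∈ {r | Φ.Pos r} := fun r hr => (gp.pos r).2 hr
  have key : ∀ p ∈ S.U ⊓ centralizer {s}, l * p * l⁻¹ ∈ S.B := by
    intro p hp'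
    have := hd.conj_mem hp hp'.1
    rw [show l * g * p * (l * g)⁻¹ = l * (g * p) * g⁻¹ * l⁻¹ by group, ← hc p hp',
      show l * (p * g) * g⁻¹ * l⁻¹ = l * p * l⁻¹ by group] at this
    exact S.U_le_B this
  have hB : l ∈ S.B := by
    refine A.nd.mem_B_of_conj_scoef hl fun i => ?_
    by_cases h1 : π (Φ.simple i) = Φ.simple i
    · obtain ⟨c, c0, hc'⟩ := A.sm_fixv h hπ hσ s2 h1
      have := A.sm_fix_mem h hπ s2 (Φ.pos_simple i) h1 hc'
      exact ⟨_, this.1, by rwa [A.nd.scoef_x_self], key _ this⟩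
    · have := A.sm_pair_mem h hπ s2 (Φ.pos_simple i) 1
      have h2 := (hπ.pos _).2 (Φ.pos_simple i)
      refine ⟨_, this.1, ?_, key _ this⟩
      rw [A.nd.scoef_mul i (S.x_mem_U (Φ.pos_simple i) _) (S.x_mem_U h2 _), A.nd.scoef_x_self,
        A.nd.scoef_x_of_ne h2 h1, add_zero]
      exact one_ne_zero
  have := mul_mem (inv_mem (S.B_le_normalizer_U hB)) (A.std_norm (T := {r | Φ.Pos r}) ⟨d', hd⟩ hp)
  rwa [inv_mul_cancel_left] at this

theorem sm_star {g u p : G} {π' : Equiv.Perm ι} {d' : ι → F} {σ' : F ≃+* F} (hu : u ∈ S.U)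
    (hd : StdD S (u * g) π' d' σ') (gp : E.Gp π') (hp : p ∈ S.U) (hc : p * g = g * p) {r : ι}
    (hr : Φ.ht r = 1) : cf S p (π' r) = d' r * σ' (cf S p r) := by
  rw [← sm_UU_one] at hu hp
  have h1 := A.cf_std (sm_lay 1) hd (gp.sm_mem 1) (gp.sm_mem (1 + 1)) hp (sm_not_mem hr)
  have h2 : π' r ∉ SmH Φ (1 + 1) := sm_not_mem (by rw [gp.ht, hr])
  rw [show u * g * p * (u * g)⁻¹ = u * (g * p) * g⁻¹ * u⁻¹ by group, ← hc,
    show u * (p * g) * g⁻¹ * u⁻¹ = u * p * u⁻¹ by group,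
    A.cf_mul (sm_lay 1) (mul_mem hu hp) (inv_mem hu) h2, A.cf_mul (sm_lay 1) hu hp h2,
    A.cf_inv (sm_lay 1) hu h2] at h1
  rw [← h1, add_right_comm, CharTwo.add_self_eq_zero, zero_add]

theorem sm_sigma (h : StdD S s π d σ) (hπ : E.Gp π) (hσ : σ ≠ 1) (s2 : s * s = 1) {g : G}
    {π' : Equiv.Perm ι} {σ' : F ≃+* F} (hg : Typ S g π' σ') (hπ' : π' = 1 ∨ π' = E.γ)
    (hc : g ∈ centralizer ((S.U ⊓ centralizer {s} : Subgroup G) : Set G)) : σ' = 1 ∨ σ' = σ := by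
  obtain ⟨u, hu, d', hd⟩ := A.exists_std hg hπ' (A.sm_norm h hπ hσ s2 hg.mem_NL hc)
  have gp := E.gp hπ'
  obtain ⟨q₀, -, -, -, -, -, h6, -⟩ := aut_two (A.sm_σ h hπ s2) hσ
  obtain ⟨c, c0, hc'⟩ := A.sm_fixv h hπ hσ s2 hπ.α
  have pα : Φ.Pos E.α := Φ.pos_simple _
  have key : ∀ e, d E.α * σ e = e → e = d' E.α * σ' e := by
    intro e he
    have hm := A.sm_fix_mem h hπ s2 pα hπ.α he
    have := A.sm_star hu hd gp hm.1 (hc _ hm) (r := E.α) (Φ.ht_simple _)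
    rwa [gp.α, A.cf_x_self pα] at this
  refine h6 σ' fun e he => ?_
  have h1 := key c hc'
  have h2 := key (e * c) (by rw [map_mul, he, mul_left_comm, hc'])
  rw [map_mul, mul_left_comm, ← h1] at h2
  exact (mul_right_cancel₀ c0 h2).symm

omit A in
theorem sm_indep (hσ : σ ≠ 1) {a b : F} (h : ∀ c, c * a = σ c * b) : a = 0 := by
  by_contra ha
  apply hσ
  ext c
  have h1 := h 1
  have h2 := h c
  rw [map_one, one_mul, one_mul] at h1
  rw [← h1] at h2
  exact (mul_right_cancel₀ ha h2).symm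

/-- the centraliser of `C_U(s)` in `U` -/
theorem sm_mem_Z (h : StdD S s π d σ) (hπ : E.Gp π) (hσ : σ ≠ 1) (s2 : s * s = 1) {u : G}
    (hu : u ∈ S.U) (hc : u ∈ centralizer ((S.U ⊓ centralizer {s} : Subgroup G) : Set G)) :
    u ∈ S.X E.θ := by
  have hp : ∀ r, Φ.Pos r → 0 < Φ.ht r := fun _ h => Φ.ht_pos h
  have ha : ∀ a b k, RAdd Φ a b k → Φ.ht k = Φ.ht a + Φ.ht b := fun _ _ _ h => radd_ht h
  have key : ∀ n : ℕ, ∀ r, Φ.Pos r → r ≠ E.θ → Φ.ht r < n → cf S u r = 0 := by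
    intro n
    induction n with
    | zero => intro r hr _ h0; have := hp r hr; omega
    | succ n ih =>
      intro r hr hθ hn
      have hm : u ∈ S.UU (SmH Φ (Φ.ht r)) := by
        refine A.mem_of_cf hu fun r' h1 h2 => ?_
        have h3 : Φ.ht r' < Φ.ht r := not_le.1 fun h => h2 ⟨h1, h⟩
        have := E.ht_lt_θ hθ
        exact ih r' h1 (fun e => by rw [e] at h3; omega) (by push_cast at hn; omega)
      obtain ⟨i, k, hk⟩ := E.up_pos hr hθ
      have pa := Φ.pos_simple i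
      have hk1 : Φ.ht k = Φ.ht r + Φ.ht (Φ.simple i) := ha _ _ _ hk
      by_cases h1 : π (Φ.simple i) = Φ.simple i
      · obtain ⟨c, c0, hc'⟩ := A.sm_fixv h hπ hσ s2 h1
        have := (A.cf_comm Φ.ht hp ha hm pa hk1 c).1 r hk
        rw [← hc _ (A.sm_fix_mem h hπ s2 pa h1 hc'), show S.x (Φ.simple i) c * u * u⁻¹ *
          (S.x (Φ.simple i) c)⁻¹ = 1 by group, A.cf_one] at this
        exact (mul_eq_zero.1 this.symm).resolve_left c0
      · have pa' := (hπ.pos _).2 pa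
        have hk2 : Φ.ht k = Φ.ht r + Φ.ht (π (Φ.simple i)) := by rw [hπ.ht, hk1]
        obtain ⟨b, hb⟩ : ∃ b : F, ∀ e, cf S (u * S.x (π (Φ.simple i)) e * u⁻¹ *
            (S.x (π (Φ.simple i)) e)⁻¹) k = e * b := by
          by_cases h2 : ∃ s', RAdd Φ s' (π (Φ.simple i)) k
          · obtain ⟨s', hs'⟩ := h2
            exact ⟨_, fun e => (A.cf_comm Φ.ht hp ha hm pa' hk2 e).1 s' hs'⟩
          · exact ⟨0, fun e => by
              rw [(A.cf_comm Φ.ht hp ha hm pa' hk2 e).2 fun s' hs' => h2 ⟨s', hs'⟩, mul_zero]⟩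
        refine sm_indep hσ (b := d (Φ.simple i) * b) fun c => ?_
        have e1 := (A.cf_comm Φ.ht hp ha hm pa hk1 c).1 r hk
        have e2 := hb (d (Φ.simple i) * σ c)
        have e3 := hc _ (A.sm_pair_mem h hπ s2 pa c)
        have m1 : S.x (Φ.simple i) c ∈ S.UU (SmH Φ 1) := S.x_mem_UU (sm_simple_mem i) _
        have m2 : S.x (π (Φ.simple i)) (d (Φ.simple i) * σ c) ∈ S.UU (SmH Φ 1) :=
          S.x_mem_UU ((hπ.sm_mem 1 _).2 (sm_simple_mem i)) _
        generalize S.x (Φ.simple i) c = x at e1 e3 m1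
        generalize S.x (π (Φ.simple i)) (d (Φ.simple i) * σ c) = y at e2 e3 m2
        have w1 := A.sm_comm_mem hm m1
        have w2 := A.sm_comm_mem hm m2
        have w3 := A.sm_comm_mem m1 w2
        rw [add_comm (1 : ℤ)] at w3
        have kn : k ∉ SmH Φ (Φ.ht r + 1 + 1) := fun h => by
          have := h.2; rw [Φ.ht_simple] at hk1; omega
        have e4 : u * x * u⁻¹ * x⁻¹ * (x * (u * y * u⁻¹ * y⁻¹) * x⁻¹ * (u * y * u⁻¹ * y⁻¹)⁻¹) *
            (u * y * u⁻¹ * y⁻¹) = 1 := by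
          calc _ = (u * (x * y)) * u⁻¹ * y⁻¹ * x⁻¹ := by group
            _ = 1 := by rw [← e3]; group
        have w4 := S.UU_mono (sm_lay (Φ := Φ) (Φ.ht r + 1)).sub w3
        have e5 := congrArg (fun z => cf S z k) e4
        rw [A.cf_mul (sm_lay _) (mul_mem w1 w4) w2 kn, A.cf_mul (sm_lay _) w1 w4 kn, e1, e2,
          A.sm_cf_zero w3 kn, A.cf_one, add_zero, CharTwo.add_eq_zero] at e5
        rw [e5]; ring
  exact A.mem_of_cf hu fun r hr h0 => key ((Φ.ht r).toNat + 1) r hr h0 (by push_cast; omega)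

theorem sm_cen1 (h : StdD S s π d σ) (hπ : E.Gp π) (hσ : σ ≠ 1) (s2 : s * s = 1) {g : G}
    {π' : Equiv.Perm ι} (hg : Typ S g π' 1) (hπ' : π' = 1 ∨ π' = E.γ)
    (hc : g ∈ centralizer ((S.U ⊓ centralizer {s} : Subgroup G) : Set G)) :
    ∃ c, ∃ k ∈ CL S, g = S.x E.θ c * k := by
  obtain ⟨u, hu, d', hd⟩ := A.exists_std hg hπ' (A.sm_norm h hπ hσ s2 hg.mem_NL hc)
  have gp := E.gp hπ'
  have key : ∀ i, π' (Φ.simple i) = Φ.simple i ∧ d' (Φ.simple i) = 1 := by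
    intro i
    have pa := Φ.pos_simple i
    have d0 := hd.ne_zero (Φ.simple i)
    by_cases h1 : π (Φ.simple i) = Φ.simple i
    · obtain ⟨c, c0, hc'⟩ := A.sm_fixv h hπ hσ s2 h1
      have hm := A.sm_fix_mem h hπ s2 pa h1 hc'
      have := A.sm_star hu hd gp hm.1 (hc _ hm) (Φ.ht_simple i)
      rw [A.cf_x_self pa, RingAut.one_apply] at this
      have h2 : π' (Φ.simple i) = Φ.simple i := by
        by_contra h2
        rw [A.cf_x_ne pa h2] at this
        exact mul_ne_zero d0 c0 this.symm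
      rw [h2, A.cf_x_self pa] at this
      exact ⟨h2, mul_right_cancel₀ c0 (by rw [← this, one_mul])⟩
    · have pa' := (hπ.pos _).2 pa
      have e : ∀ c, cf S (S.x (Φ.simple i) c) (π' (Φ.simple i)) +
          cf S (S.x (π (Φ.simple i)) (d (Φ.simple i) * σ c)) (π' (Φ.simple i)) =
            d' (Φ.simple i) * c := by
        intro c
        have hm := A.sm_pair_mem h hπ s2 pa c
        have m1 : S.x (Φ.simple i) c ∈ S.UU (SmH Φ 1) := S.x_mem_UU (sm_simple_mem i) _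
        have m2 : S.x (π (Φ.simple i)) (d (Φ.simple i) * σ c) ∈ S.UU (SmH Φ 1) :=
          S.x_mem_UU ((hπ.sm_mem 1 _).2 (sm_simple_mem i)) _
        have := A.sm_star hu hd gp hm.1 (hc _ hm) (Φ.ht_simple i)
        rwa [A.cf_mul (sm_lay 1) m1 m2 (sm_not_mem (Φ.ht_simple i)),
          A.cf_mul (sm_lay 1) m1 m2 (sm_not_mem (by rw [gp.ht, Φ.ht_simple])), A.cf_x_self pa,
          A.cf_x_ne pa' (Ne.symm h1), add_zero, RingAut.one_apply] at this
      have h2 : π' (Φ.simple i) = Φ.simple i := by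
        by_contra h2
        apply d0
        by_cases h3 : π' (Φ.simple i) = π (Φ.simple i)
        · refine sm_indep hσ (b := d (Φ.simple i)) fun c => ?_
          have := e c
          rw [A.cf_x_ne pa h2, h3, A.cf_x_self pa', zero_add] at this
          rw [mul_comm, ← this, mul_comm]
        · have := e 1
          rw [A.cf_x_ne pa h2, A.cf_x_ne pa' h3, add_zero, mul_one] at this
          exact this.symm
      have := e 1
      rw [h2, A.cf_x_self pa, A.cf_x_ne pa' (Ne.symm h1), add_zero, mul_one] at this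
      exact ⟨h2, this.symm⟩
  have p1 : π' = 1 := by
    ext r
    refine E.gen_simple {r | π' r = r} ?_ ?_ ?_ r
    · rintro _ ⟨i, rfl⟩; exact (key i).1
    · intro r hr
      show π' _ = _
      rw [gp.neg, show π' r = r from hr]
    · intro a ha b hb k hk
      have := gp.add _ _ _ hk
      rw [show π' a = a from ha, show π' b = b from hb] at this
      exact this.unique' hk
  subst p1
  have d1 := A.d_eq_one hd E.gen_simple (by rintro _ ⟨i, rfl⟩; exact (key i).2)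
  have hk : u * g ∈ CL S := by
    refine mem_cent_UU.2 fun r _ c => ?_
    have := hd.2 r c
    rw [d1, one_mul, RingAut.one_apply, Equiv.Perm.one_apply] at this
    exact (mul_inv_eq_iff_eq_mul.1 this).symm
  have hZ : u ∈ S.X E.θ := by
    refine A.sm_mem_Z h hπ hσ s2 hu ?_
    have h1 : u * g ∈ centralizer ((S.U ⊓ centralizer {s} : Subgroup G) : Set G) :=
      fun p hp => hk p (S.U_le_grp hp.1)
    have := mul_mem h1 (inv_mem hc)
    rwa [mul_inv_cancel_right] at this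
  obtain ⟨c, hc⟩ := S.mem_X_iff.1 (inv_mem hZ)
  exact ⟨c, u * g, hk, by rw [← hc, inv_mul_cancel_left]⟩

theorem semiD_std (h : StdD S s π d σ) (hπ : π = 1 ∨ π = E.γ) (hσ : σ ≠ 1) (s2 : s * s = 1) :
    SemiD E S s (twG S π d σ Set.univ) := by
  have gp := E.gp hπ
  obtain ⟨k, M, c⟩ := A.exists_chain h hπ hσ s2
  refine ⟨(A.pf_twG h hπ hσ s2).1, (A.pf_twG h hπ hσ s2).2,
    (A.fix_le_twG h hπ hσ s2).le.trans (sm_twG_mono (Set.subset_univ _)), A.card_fix h hπ hσ s2,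
    fun u hu e => c.conj s2 hu e, ?_, ?_⟩
  · obtain ⟨c, c0, hc⟩ := A.sm_fixv h gp hσ s2 gp.θ
    have h1 : π (Φ.neg E.α) = Φ.neg E.α := by rw [gp.neg, gp.α]
    obtain ⟨e, e0, he⟩ := A.sm_fixv h gp hσ s2 h1
    refine ⟨c, c0, mem_centralizer_singleton_iff.1 (A.sm_fix_mem h gp s2 E.pos_θ gp.θ hc).2,
      S.x (Φ.neg E.α) e, subset_closure ⟨_, trivial, e, Or.inl ⟨h1, he, rfl⟩⟩, fun hm => ?_⟩
    have := A.rel.cm _ _ _ E.hβ.symm.sub.symm e c
    rw [show Φ.simple E.i₀ = E.α from rfl, hm, show S.x E.θ c * S.x (Φ.neg E.α) e *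
      (S.x (Φ.neg E.α) e)⁻¹ * (S.x E.θ c)⁻¹ = 1 by group] at this
    exact mul_ne_zero e0 c0 (A.x_eq_one.1 this.symm)
  · intro g hg _ _ hc
    obtain ⟨π', σ', hπ', ht⟩ := A.aut g hg
    rcases A.sm_sigma h gp hσ s2 ht hπ' hc with rfl | rfl
    · obtain ⟨c, k, hk, e⟩ := A.sm_cen1 h gp hσ s2 ht hπ' hc
      exact ⟨c, k, hk, Or.inl e⟩
    · have h1 := (Std.typ ⟨d, h⟩).mul ht (E.gp hπ').neg
      rw [A.sm_σ h gp s2] at h1
      obtain ⟨c, k, hk, e⟩ := A.sm_cen1 h gp hσ s2 h1 (by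
        rcases hπ with rfl | rfl <;> rcases hπ' with rfl | rfl <;> simp [E.γ_mul])
        (mul_mem (fun p hp => mem_centralizer_singleton_iff.1 hp.2) hc)
      exact ⟨c, k, hk, Or.inr (by rw [mul_assoc, ← e, ← mul_assoc, s2, one_mul])⟩

/-- a semilinear involution normalising `U` is conjugate to a standard one -/
theorem exists_conj_std (h : Typ S s π σ) (hπ : π = 1 ∨ π = E.γ) (hσ : σ ≠ 1) (s2 : s * s = 1)
    (hU : s ∈ normalizer (S.U : Set G)) : ∃ v ∈ S.U, ∃ u ∈ S.U, v * s * v⁻¹ = u * s ∧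
      Std S (u * s) π σ := by
  obtain ⟨u, hu, ⟨d, hd⟩, e⟩ := A.exists_std_inv h hπ hU s2
  obtain ⟨k, M, c⟩ := A.exists_chain hd hπ hσ e
  obtain ⟨v, hv, e'⟩ := c.conj e (inv_mem hu) (by rw [inv_mul_cancel_left, s2])
  rw [inv_mul_cancel_left] at e'
  refine ⟨v⁻¹, inv_mem hv, u, hu, ?_, d, hd⟩
  nth_rewrite 1 [e']
  group

theorem sm_conj {M : Subgroup G} (D : SemiD E S s M) {v : G} (hv : v ∈ S.U) :
    SemiD E S (v * s * v⁻¹) (MulAut.conj v • M) := by
  have hvL := S.U_le_grp hv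
  have m1 : ∀ {K : Subgroup G} {x : G}, x ∈ MulAut.conj v • K ↔ v⁻¹ * x * v ∈ K := by
    intro K x
    rw [mem_pointwise_smul_iff_inv_smul_mem]
    simp
  have c1 : ∀ x : G, x ∈ centralizer {v * s * v⁻¹} ↔ v⁻¹ * x * v ∈ centralizer {s} := by
    intro x
    rw [mem_centralizer_singleton_iff, mem_centralizer_singleton_iff]
    constructor
    · intro e
      calc v⁻¹ * x * v * s = v⁻¹ * (x * (v * s * v⁻¹)) * v := by group
        _ = _ := by rw [e]; group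
    · intro e
      calc x * (v * s * v⁻¹) = v * (v⁻¹ * x * v * s) * v⁻¹ := by group
        _ = _ := by rw [e]; group
  have u1 : ∀ {K : Subgroup G}, v ∈ K → ∀ x : G, x ∈ K ↔ v⁻¹ * x * v ∈ K := by
    intro K hK x
    rw [K.mul_mem_cancel_right hK, K.mul_mem_cancel_left (inv_mem hK)]
  have e1 : S.U ⊓ centralizer {v * s * v⁻¹} = MulAut.conj v • (S.U ⊓ centralizer {s}) := by
    ext x
    rw [m1, mem_inf, mem_inf, c1, ← u1 hv]
  have z1 : ∀ c, S.x E.θ c * v = v * S.x E.θ c := fun c =>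
    A.Y_le_cent E.θ (A.U_le_Y hv) _ (S.x_mem_X _ c)
  refine ⟨D.pf.conj v, fun x hx => ?_, fun x hx => ?_, ?_, fun u hu e => ?_, ?_, fun g hg g2 gs hc => ?_⟩
  · have := D.le (m1.1 hx)
    exact ⟨(u1 hvL x).2 this.1, (c1 x).2 this.2⟩
  · rw [e1] at hx
    exact m1.2 (D.PM (m1.1 hx))
  · rw [e1, ← D.card]
    congr 1
    exact (Nat.card_congr (equivSMul (MulAut.conj v) _).toEquiv).symm
  · obtain ⟨w, hw, e'⟩ := D.conj _ ((u1 hv u).1 hu) (by
      rw [show v⁻¹ * u * v * s * (v⁻¹ * u * v * s) =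
        v⁻¹ * (u * (v * s * v⁻¹) * (u * (v * s * v⁻¹))) * v by group, e]; group)
    refine ⟨v * w * v⁻¹, mul_mem (mul_mem hv hw) (inv_mem hv), ?_⟩
    calc u * (v * s * v⁻¹) = v * (v⁻¹ * u * v * s) * v⁻¹ := by group
      _ = _ := by rw [e']; group
  · obtain ⟨c, c0, hc, m, hm, hn⟩ := D.z0
    have k1 : Commute (S.x E.θ c) v := z1 c
    have k2 : Commute (S.x E.θ c) s := hc
    refine ⟨c, c0, (k1.mul_right k2).mul_right k1.inv_right, v * m * v⁻¹, m1.2 (by simpa [mul_assoc]),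
      fun e => hn ?_⟩
    have k3 : Commute (S.x E.θ c) (v * m * v⁻¹) := e.symm
    have := (k1.inv_right.mul_right k3).mul_right k1
    rw [show v⁻¹ * (v * m * v⁻¹) * v = m by group] at this
    exact this.symm
  · have hvN : v ∈ NL S := le_normalizer hvL
    obtain ⟨c, k, hk, e⟩ := D.cen _ ((u1 hvN g).1 hg)
      (by rw [show v⁻¹ * g * v * (v⁻¹ * g * v) = v⁻¹ * (g * g) * v by group, g2]; group)
      (mem_centralizer_singleton_iff.1 ((c1 g).1 (mem_centralizer_singleton_iff.2 gs))) (by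
        intro p hp
        have := hc (v * p * v⁻¹) (by rw [e1]; exact m1.2 (by simpa [mul_assoc] using hp))
        calc p * (v⁻¹ * g * v) = v⁻¹ * (v * p * v⁻¹ * g) * v := by group
          _ = _ := by rw [this]; group)
    have k1 : v * k = k * v := hk v hvL
    have k2 : v * (S.x E.θ c * k) * v⁻¹ = S.x E.θ c * k := by
      rw [← mul_assoc, ← z1, mul_assoc _ v, k1]; group
    refine ⟨c, k, hk, e.imp (fun e => ?_) fun e => ?_⟩
    · rw [← k2, ← e]; group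
    · calc g = v * (v⁻¹ * g * v) * v⁻¹ := by group
        _ = v * s * v⁻¹ * (v * (S.x E.θ c * k) * v⁻¹) := by rw [e]; group
        _ = _ := by rw [k2, mul_assoc _ _ k]

theorem semiD (h : Typ S s π σ) (hπ : π = 1 ∨ π = E.γ) (hσ : σ ≠ 1) (s2 : s * s = 1)
    (hU : s ∈ normalizer (S.U : Set G)) : ∃ M, SemiD E S s M := by
  obtain ⟨v, hv, u, hu, e, d, hd⟩ := A.exists_conj_std h hπ hσ s2 hU
  have := A.sm_conj (A.semiD_std hd hπ hσ (by
    rw [← e, show v * s * v⁻¹ * (v * s * v⁻¹) = v * (s * s) * v⁻¹ by group, s2]; group)) (inv_mem hv)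
  rw [← e, show v⁻¹ * (v * s * v⁻¹) * v⁻¹⁻¹ = s by group] at this
  exact ⟨_, this⟩

theorem sm_h_pow (r : ι) {c : F} (hc : c ≠ 0) (n : ℕ) : S.h r c ^ n = S.h r (c ^ n) := by
  induction n with
  | zero => rw [pow_zero, pow_zero, S.h_one]
  | succ n ih => rw [pow_succ, ih, A.r3 _ _ _ (pow_ne_zero n hc) hc, pow_succ]

/-- the twisted torus -/
theorem exists_torus (h : StdD S s π d σ) (hπ : π = E.γ) (h1 : π ≠ 1) (hσ : σ ≠ 1) (s2 : s * s = 1)
    {q₀ : ℕ} (hq : Nat.card F = q₀ ^ 2) : ∃ a ∈ twG S π d σ Set.univ, a ∈ S.H ∧ a ≠ 1 ∧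
      a ^ (q₀ + 1) = 1 := by
  have gp := E.gp (Or.inr hπ)
  obtain ⟨r, hr⟩ : ∃ r, π r ≠ r := by
    by_contra! h0
    exact h1 (Equiv.ext h0)
  obtain ⟨c, hc⟩ : ∃ c, σ c ≠ c := by
    by_contra! h0
    exact hσ (RingEquiv.ext h0)
  have σ2 := A.sm_σ h gp s2
  obtain ⟨q₁, -, -, h3, h4, -⟩ := aut_two σ2 hσ
  have hq' : q₁ = q₀ := Nat.pow_left_injective two_ne_zero (h3.symm.trans hq)
  have c0 : c ≠ 0 := fun e => hc (by rw [e, map_zero])
  have c1 : σ c ≠ 0 := (map_ne_zero σ).2 c0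
  have l0 : c / σ c ≠ 0 := div_ne_zero c0 c1
  have l1 : σ (c / σ c) ≠ 0 := (map_ne_zero σ).2 l0
  have l2 : (c / σ c) ^ (q₀ + 1) = 1 := by
    rw [pow_succ, ← hq', ← h4, map_div₀, show σ (σ c) = c from RingEquiv.congr_fun σ2 c]
    field_simp
  have o := gp.orth r hr
  have com : ∀ a ∈ ({r, Φ.neg r} : Set ι), ∀ b ∈ ({r, Φ.neg r} : Set ι), ip Φ a (π b) = 0 := by
    rintro a (rfl | rfl) b (rfl | rfl) <;> simp [gp.neg, ip_neg_left, ip_neg_right, o]
  have key : ∀ y ∈ S.UU {r, Φ.neg r}, y * (s * y * s⁻¹) ∈ twG S π d σ Set.univ := by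
    intro y hy
    refine S.UU_induction (p := fun y => y * (s * y * s⁻¹) ∈ twG S π d σ Set.univ)
      (by simpa using one_mem _) ?_ hy
    intro a ha t g hg ih
    have h5 : s * g * s⁻¹ ∈ centralizer {S.x a t} := by
      have : s * g * s⁻¹ ∈ S.UU (π '' {r, Φ.neg r}) := h.conj_mem (fun b hb => Set.mem_image_of_mem _ hb) hg
      refine S.UU_le_iff.2 ?_ this
      rintro _ ⟨b, hb, rfl⟩ e
      exact mem_centralizer_singleton_iff.2 (A.com (com a ha b hb).ge t e).symm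
    have := mul_mem ih (A.sm_tr_mem h gp s2 (Set.mem_univ a) t)
    rwa [show g * (s * g * s⁻¹) * (S.x a t * (s * S.x a t * s⁻¹)) =
      g * (s * g * s⁻¹ * S.x a t) * (s * S.x a t * s⁻¹) by group,
      mem_centralizer_singleton_iff.1 h5, show g * (S.x a t * (s * g * s⁻¹)) * (s * S.x a t * s⁻¹) =
      g * S.x a t * (s * (g * S.x a t) * s⁻¹) by group] at this
  have hm := key (S.h r (c / σ c))
    (mul_mem (S.n_mem_UU (Or.inl rfl) (Or.inr rfl) _) (S.n_mem_UU (Or.inl rfl) (Or.inr rfl) _))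
  rw [A.std_conj_h ⟨d, h⟩ gp r l0] at hm
  refine ⟨_, hm, mul_mem (S.h_mem_H _ l0) (S.h_mem_H _ l1), fun e => ?_, ?_⟩
  · have e1 := A.h_conj r r l0 1
    have e2 := A.h_conj (π r) r l1 1
    rw [ip_comm, o, zpow_zero, one_mul] at e2
    rw [← e2, show S.h r (c / σ c) * (S.h (π r) (σ (c / σ c)) * S.x r 1 *
      (S.h (π r) (σ (c / σ c)))⁻¹) * (S.h r (c / σ c))⁻¹ = (S.h r (c / σ c) *
      S.h (π r) (σ (c / σ c))) * S.x r 1 * (S.h r (c / σ c) * S.h (π r) (σ (c / σ c)))⁻¹ by group, e,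
      one_mul, inv_one, mul_one, E.ip_self, mul_one] at e1
    have e3 := A.nd.x_injective r e1
    have e4 : (c / σ c) ^ 2 = 1 := by exact_mod_cast e3.symm
    have e5 : c / σ c = 1 := by
      rcases sq_eq_one_iff.1 e4 with h | h
      · exact h
      · rw [h, CharTwo.neg_eq]
    exact hc ((div_eq_one_iff_eq c1).1 e5).symm
  · have k : Commute (S.h r (c / σ c)) (S.h (π r) (σ (c / σ c))) :=
      A.r3.comm (S.h_mem_H _ l0) (S.h_mem_H _ l1)
    rw [k.mul_pow, A.sm_h_pow _ l0, A.sm_h_pow _ l1, ← map_pow, l2, map_one, S.h_one, S.h_one, one_mul]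

end Amb

end CfsgLib.SLE
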