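import Mathlib
import Cfsg.Agent.Lib.SLE.Semi
import Cfsg.Agent.Lib.SLE.Gr

/-!
# Conjugates of `t` commuting with `t`: the semilinear case
-/

set_option autoImplicit false
set_option linter.unusedSectionVars false

namespace CfsgLib.SLE

open CfsgLib.RGD CfsgLib.Stein Subgroup
open scoped commutatorElement Pointwise

universe u

variable {ι κ : Type} [Fintype κ] [DecidableEq κ] [Finite ι] {Φ : RootSys ι κ} {E : ER Φ}
  {F : Type} [Field F] [Finite F] [CharP F 2] {G : Type u} [Group G] [Finite G]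
  {S : StSys Φ F G}

omit [Finite ι] [Finite F] [CharP F 2] [Finite G] in
/-- `t` is not fused to `t x` for root elements `x` -/
def NB (S : StSys Φ F G) (t : G) : Prop := ∀ r c, c ≠ 0 → ¬ IsConj t (t * S.x r c)

omit [Finite ι] [Finite F] [CharP F 2] [Finite G] in
theorem b1_conj (g a : G) : IsConj a (g * a * g⁻¹) := isConj_iff.2 ⟨g, rfl⟩

omit [Finite ι] [Finite F] [CharP F 2] [Finite G] in
theorem b1_sq {t s : G} (t2 : t * t = 1) (hs : IsConj t s) : s * s = 1 := by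
  obtain ⟨g, rfl⟩ := isConj_iff.1 hs
  rw [conj_mul, t2, mul_one, mul_inv_cancel]

omit [Finite ι] [Finite F] [CharP F 2] [Finite G] in
theorem b1_pg {P : Subgroup G} (hP : IsPGroup 2 P) {t : G} (t2 : t * t = 1)
    (h : ∀ p ∈ P, p * t = t * p) : IsPGroup 2 (zpowers t ⊔ P : Subgroup G) :=
  (UFP.pgroup_zpowers_of_sq t2).to_sup_of_normal_right' hP
    (zpowers_le.2 (centralizer_le_normalizer _ h))

theorem NB.cj {t : G} (h : NB S t) (g : G) : NB (cj S g) (g * t * g⁻¹) := by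
  intro r c hc e
  rw [cj_x, conj_mul] at e
  exact h r c hc (((b1_conj g t).trans e).trans (b1_conj g _).symm)

namespace Sit

variable {t : G} (h : Sit E S t)
include h

theorem cj_mem {l : G} (hl : l ∈ S.grp) : Sit E (SLE.cj S l) t := by
  have := h.cj l
  rwa [h.com hl, mul_inv_cancel_right] at this

theorem b1_conj_x (r : ι) {c : F} (hc : c ≠ 0) : IsConj (t * S.x E.θ 1) (t * S.x r c) := by
  obtain ⟨l, hl, e, -⟩ := h.amb.exists_conj_x r hc
  refine isConj_iff.2 ⟨l, ?_⟩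
  rw [← conj_mul, e, h.com (S.N_le_grp hl), mul_inv_cancel_right]

theorem nb_of1 (hB : ¬ IsConj t (t * S.x E.θ 1)) : NB S t :=
  fun r _ hc e => hB (e.trans (h.b1_conj_x r hc).symm)

theorem nb_of (hB : ∀ c, c ≠ 0 → ¬ IsConj t (t * S.x E.θ c)) : NB S t := h.nb_of1 (hB 1 one_ne_zero)

theorem nb_cj (hB : NB S t) {l : G} (hl : l ∈ S.grp) : NB (SLE.cj S l) t := by
  have := hB.cj l
  rwa [h.com hl, mul_inv_cancel_right] at this

/-- root elements are not conjugate to `t` -/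
theorem nz (r : ι) (c : F) : ¬ IsConj t (S.x r c) := by
  intro e
  obtain ⟨g, hg⟩ := isConj_iff.1 e
  have h' := h.cj g
  rw [hg] at h'
  refine h'.t_not_mem (h'.amb.pf_le h'.cyc (h.amb.pf_Y r) (fun y hy => h'.CN ?_)
    (S.x_mem_UU (show 0 ≤ ip Φ r r from (ip_pos r).le) c))
  exact mem_centralizer_singleton_iff.2 (h.amb.Y_le_cent r hy _ (S.x_mem_X r c)).symm

/-- a 2-subgroup of `C(s)`, `s` a conjugate of `t`, normalises a Sylow subgroup of `L_s` -/
theorem exists_cj {s : G} (hs : IsConj t s) {P : Subgroup G} (hP : IsPGroup 2 P)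
    (hc : P ≤ centralizer {s}) : ∃ g, g * t * g⁻¹ = s ∧ P ≤ normalizer ((SLE.cj S g).U : Set G) := by
  obtain ⟨g, hg⟩ := isConj_iff.1 hs
  have h' := h.cj g
  rw [hg] at h'
  obtain ⟨l, hl, hn⟩ := h'.amb.exists_norm_cj hP (hc.trans h'.CN)
  rw [cj_cj] at hn
  refine ⟨l * g, ?_, hn⟩
  rw [show l * g * t * (l * g)⁻¹ = l * (g * t * g⁻¹) * l⁻¹ by group, hg, h'.com hl,
    mul_inv_cancel_right]

theorem mem_NL {s : G} (hc : s * t = t * s) : s ∈ NL S := h.CN (mem_centralizer_singleton_iff.2 hc)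

theorem b1_exists_l {s : G} (s2 : s * s = 1) (hc : s * t = t * s) :
    ∃ l ∈ S.grp, s ∈ normalizer ((SLE.cj S l).U : Set G) := by
  obtain ⟨l, hl, hn⟩ := h.amb.exists_norm_cj (UFP.pgroup_zpowers_of_sq s2) (zpowers_le.2 (h.mem_NL hc))
  exact ⟨l, hl, hn (mem_zpowers s)⟩

theorem b1_semi (hB : NB S t) {s : G} (hs : IsConj t s) (hc : s * t = t * s)
    {π : Equiv.Perm ι} {σ : F ≃+* F} (hπ : π = 1 ∨ π = E.γ) (hT : Typ S s π σ)
    (hU : s ∈ normalizer (S.U : Set G)) : σ = 1 := by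
  by_contra hσ
  have A := h.amb
  have s2 := b1_sq h.t2 hs
  obtain ⟨M, D⟩ := A.semiD hT hπ hσ s2 hU
  have At : ∀ p ∈ S.U ⊓ centralizer {s}, p * t = t * p := fun p hp => h.com (S.U_le_grp hp.1)
  obtain ⟨g, hg, hn⟩ := h.exists_cj hs (b1_pg (A.pg_U.to_le inf_le_left) h.t2 At)
    (sup_le (zpowers_le.2 (mem_centralizer_singleton_iff.2 hc.symm)) inf_le_right)
  have h' := h.cj g
  have hB' := hB.cj g
  rw [hg] at h' hB'
  generalize SLE.cj S g = T at hn h' hB'
  have A' := h'.amb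
  have ML : M ≤ T.grp := A'.pf_le h'.cyc D.pf ((D.le.trans inf_le_right).trans h'.CN)
  have AU : S.U ⊓ centralizer {s} ≤ T.U := fun p hp => A'.mem_U_of_norm (ML (D.PM hp))
    (A.pg_U.to_le (zpowers_le.2 hp.1)) (hn (mem_sup_right hp))
  have tK : t ∉ S.grp ⊔ zpowers s := by
    intro ht
    rcases UFP.mem_sup_inv s2 hT.mem_NL ht with h1 | h1
    · exact h.t_not_mem h1
    · have : s ∈ S.grp ⊔ CL S := by
        have := mul_mem (mem_sup_right (inv_mem h.tC)) (mem_sup_left h1 : t * s ∈ S.grp ⊔ CL S)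
        rwa [inv_mul_cancel_left] at this
      exact hσ (A.typ_unique hT (typ_of_mem this) hπ (Or.inl rfl)).2
  have key : ∀ c, c ≠ 0 → T.x E.θ c * t = t * T.x E.θ c → T.x E.θ c * t ∈ S.grp ⊔ zpowers s := by
    intro c c0 et
    have e2 := A'.x_sq E.θ c
    have es := h'.com (T.x_mem_grp E.θ c)
    have eL := T.x_mem_grp E.θ c
    have nb := hB' E.θ c c0
    have ec : T.x E.θ c ∈ centralizer ((S.U ⊓ centralizer {s} : Subgroup G) : Set G) := fun p hp =>
      (A'.Y_le_cent E.θ (A'.U_le_Y (AU hp)) _ (T.x_mem_X _ c)).symm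
    generalize T.x E.θ c = e at et e2 es eL nb ec ⊢
    obtain ⟨a, k, hk, hh⟩ := D.cen e (h.mem_NL et) e2 es ec
    have x2 := A.x_sq E.θ a
    have xU := S.x_mem_U E.pos_θ a
    generalize S.x E.θ a = x at hh x2 xU
    have xL := S.U_le_grp xU
    have xk : Commute x k := hk x xL
    have xt : Commute x t := h.com xL
    have c1 : Commute e t := et
    have c2 : Commute s t := hc
    have c3 : Commute e s := es
    rcases hh with hh | hh
    · have k1 : k = x⁻¹ * e := by rw [hh, inv_mul_cancel_left]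
      have k2 : k * k = 1 := by
        have := xk.mul_pow 2
        rw [← hh, pow_two, pow_two, pow_two, e2, x2, one_mul] at this
        exact this.symm
      rcases h.eq_t hk k2 (k1 ▸ (xt.inv_left.mul_left c1)) with rfl | rfl
      · rw [mul_one] at hh
        obtain ⟨v, -, hv⟩ := D.conj e (hh ▸ xU) (by
          rw [mul_assoc, ← mul_assoc s, ← es, mul_assoc, s2, mul_one, e2])
        exact (nb (by rw [← es, hv]; exact b1_conj v s)).elim
      · rw [hh, mul_assoc, h.t2, mul_one]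
        exact mem_sup_left xL
    · have k1 : k = x⁻¹ * (s⁻¹ * e) := by rw [hh]; group
      have k2 : k * k = 1 := by
        have h1 := xk.mul_pow 2
        have h2 := c3.symm.mul_pow 2
        rw [show x * k = s * e by rw [hh, mul_assoc, ← mul_assoc s, s2, one_mul], h2] at h1
        simpa only [pow_two, s2, e2, x2, one_mul] using h1.symm
      rcases h.eq_t hk k2 (k1 ▸ (xt.inv_left.mul_left (c2.inv_left.mul_left c1))) with rfl | rfl
      · rw [mul_one] at hh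
        have xs : x ∈ centralizer {s} := by
          refine mem_centralizer_singleton_iff.2 ?_
          rw [show x = s⁻¹ * e by rw [hh, inv_mul_cancel_left]]
          exact (Commute.refl s).inv_left.mul_left c3
        have := mul_mem eL (inv_mem (T.U_le_grp (AU ⟨xU, xs⟩)))
        rw [hh, mul_inv_cancel_right] at this
        exact (h'.t_not_mem this).elim
      · rw [hh, mul_assoc, h.t2, mul_one]
        exact mul_mem (mem_sup_right (mem_zpowers s)) (mem_sup_left xL)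
  obtain ⟨π', σ', hπ', ht⟩ := A'.aut t (h'.mem_NL hc.symm)
  have tU := hn (mem_sup_left (mem_zpowers t))
  by_cases h1 : σ' = 1
  · subst h1
    have hz := A'.cent_Z ht hπ' tU (UFP.pgroup_zpowers_of_sq h.t2)
    obtain ⟨c, hc'⟩ : ∃ c, σ c ≠ c := by
      by_contra! h0
      exact hσ (RingEquiv.ext h0)
    have c0 : c ≠ 0 := fun e => hc' (by rw [e, map_zero])
    have c1 : 1 + c ≠ 0 := fun e => hc' (by rw [← CharTwo.add_eq_zero.1 e, map_one])
    have k1 := key 1 one_ne_zero (hz _ (T.x_mem_X _ _))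
    have k2 := key c c0 (hz _ (T.x_mem_X _ _))
    have k3 := key _ c1 (hz _ (T.x_mem_X _ _))
    apply tK
    have := mul_mem (inv_mem (mul_mem k1 k2)) k3
    rwa [T.x_add, mul_assoc (T.x E.θ 1) t, ← mul_assoc t, ← hz _ (T.x_mem_X _ c), mul_assoc _ t t, h.t2,
      mul_one, inv_mul_cancel_left] at this
  · obtain ⟨M', D'⟩ := A'.semiD ht hπ' h1 h.t2 tU
    obtain ⟨c, c0, ec, -⟩ := D'.z0
    have h2 : T.x E.θ c ∈ S.grp := A.pf_le h.cyc D'.pf ((D'.le.trans inf_le_right).trans h.CN)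
      (D'.PM ⟨T.x_mem_U E.pos_θ c, mem_centralizer_singleton_iff.2 ec⟩)
    exact tK ((Subgroup.mul_mem_cancel_left _ (mem_sup_left h2)).1 (key c c0 ec))

/-- a conjugate of `t` commuting with `t` is not semilinear -/
theorem not_semi (hB : NB S t) {s : G} (hs : IsConj t s) (hc : s * t = t * s)
    {π : Equiv.Perm ι} {σ : F ≃+* F} (hπ : π = 1 ∨ π = E.γ) (hT : Typ S s π σ) : σ = 1 := by
  obtain ⟨l, hl, hn⟩ := h.b1_exists_l (b1_sq h.t2 hs) hc
  exact (h.cj_mem hl).b1_semi (h.nb_cj hB hl) hs hc hπ ((typ_cj_iff (E.gp hπ).neg hl).2 hT) hn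

/-- reduction to a pair of inner type -/
theorem exists_inner (hB : NB S t) {s : G} (hs : IsConj t s) (hc : s * t = t * s) (hne : s ≠ t) :
    ∃ g s', IsConj t s' ∧ s' * (g * t * g⁻¹) = g * t * g⁻¹ * s' ∧ s' ≠ g * t * g⁻¹ ∧
      s' ∈ N0 (SLE.cj S g) := by
  obtain ⟨π, σ, hπ, hT⟩ := h.amb.aut s (h.mem_NL hc)
  obtain rfl := h.not_semi hB hs hc hπ hT
  by_cases h1 : π = 1
  · subst h1
    refine ⟨1, s, hs, by simpa using hc, by simpa using hne, ?_⟩
    simpa [mem_N0] using hT.cj 1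
  obtain rfl := hπ.resolve_left h1
  have s2 := b1_sq h.t2 hs
  obtain ⟨l, hl, hn⟩ := h.b1_exists_l s2 hc
  obtain ⟨e₁, -, e₂, -, n1, n2, n3, H⟩ := (h.cj_mem hl).amb.exists_four
    ((typ_cj_iff E.γn hl).2 hT) h1 s2 hn
  obtain ⟨g, hg⟩ := isConj_iff.1 hs
  have h' := h.cj g
  have hB' := hB.cj g
  rw [hg] at h' hB'
  have K : ∀ e, e = e₁ ∨ e = e₂ ∨ e = e₁ * e₂ → IsConj s (s * e) ∧ s * e * s = s * (s * e) := by
    intro e he
    obtain ⟨-, a2, u, -, a3⟩ := H e he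
    exact ⟨a3 ▸ b1_conj u s, by rw [mul_assoc, a2]⟩
  have fin : ∀ e, e = e₁ ∨ e = e₂ ∨ e = e₁ * e₂ → e ≠ 1 → s * e ∈ N0 (SLE.cj S g) →
      ∃ g s', IsConj t s' ∧ s' * (g * t * g⁻¹) = g * t * g⁻¹ * s' ∧ s' ≠ g * t * g⁻¹ ∧
        s' ∈ N0 (SLE.cj S g) := fun e he e1 h0 =>
    ⟨g, s * e, hs.trans (K e he).1, by rw [hg, (K e he).2], by rw [hg]; simpa using e1, h0⟩
  have ty : ∀ e, e = e₁ ∨ e = e₂ ∨ e = e₁ * e₂ →
      s * e ∈ N0 (SLE.cj S g) ∨ Typ (SLE.cj S g) (s * e) E.γ 1 := by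
    intro e he
    obtain ⟨π, σ, hπ, hT⟩ := h'.amb.aut _ (h'.mem_NL (K e he).2)
    obtain rfl := h'.not_semi hB' (K e he).1 (K e he).2 hπ hT
    rcases hπ with rfl | rfl
    exacts [Or.inl hT, Or.inr hT]
  rcases ty e₁ (Or.inl rfl) with a1 | a1
  · exact fin _ (Or.inl rfl) n1 a1
  rcases ty e₂ (Or.inr (Or.inl rfl)) with a2 | a2
  · exact fin _ (Or.inr (Or.inl rfl)) n2 a2
  have a3 := a1.mul a2 E.γn
  rw [E.γ_mul, mul_one, mul_assoc, ← mul_assoc e₁, (H e₁ (Or.inl rfl)).2.1, mul_assoc, ← mul_assoc s,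
    s2, one_mul] at a3
  refine fin _ (Or.inr (Or.inr rfl)) (fun e => n3 ?_) (mul_mem (le_N0 (mem_sup_right h'.tC)) a3)
  rw [eq_inv_of_mul_eq_one_left e, inv_eq_of_mul_eq_one_right (H e₂ (Or.inr (Or.inl rfl))).1]

end Sit

end CfsgLib.SLE
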