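import Mathlib
import Cfsg.Agent.Lib.SLE.B1
import Cfsg.Agent.Lib.SLE.U1
import Cfsg.Agent.Lib.SLE.Vec

/-!
# Fusion of `t` with `t z`
-/

set_option autoImplicit false
set_option linter.unusedSectionVars false

namespace CfsgLib.SLE

open CfsgLib.RGD CfsgLib.Stein Subgroup
open scoped commutatorElement Pointwise

universe u

variable {ι κ : Type} [Fintype κ] [DecidableEq κ] [Finite ι] {Φ : RootSys ι κ} {E : ER Φ}
  {F : Type} [Field F] [Finite F] [CharP F 2] {G : Type u} [Group G] [Finite G]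
  {S : StSys Φ F G}

theorem b3_one (hq : Nat.card F = 2) {c : F} (hc : c ≠ 0) : c = 1 := by
  obtain ⟨y, -, hy⟩ := (Nat.card_eq_two_iff' (0 : F)).1 hq
  exact (hy c hc).trans (hy 1 one_ne_zero).symm

theorem b3_q : Nat.card F = 2 ∨ 2 < Nat.card F := by
  have := Finite.one_lt_card (α := F)
  omega

theorem b3_exists (hq : 2 < Nat.card F) : ∃ c : F, c ≠ 0 ∧ 1 + c ≠ 0 := by
  by_contra! h
  have : Nat.card F = 2 := (Nat.card_eq_two_iff' (0 : F)).2
    ⟨1, one_ne_zero, fun c hc => (CharTwo.add_eq_zero.1 (h c hc)).symm⟩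
  omega

namespace Sit

variable {t : G} (h : Sit E S t)
include h

theorem b3_k {w k : G} (hw : w ∈ S.grp) (hk : k ∈ CL S) (w2 : w * w = 1) (e2 : w * k * (w * k) = 1)
    (et : w * k * t = t * (w * k)) : k = 1 ∨ k = t := by
  have c1 : Commute w k := hk w hw
  have c2 : Commute w t := h.com hw
  have c3 : Commute (w * k) t := et
  refine h.eq_t hk ?_ ?_
  · have := c1.mul_pow 2
    simpa only [pow_two, e2, w2, one_mul] using this.symm
  · have := c2.inv_left.mul_left c3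
    rwa [inv_mul_cancel_left] at this

theorem u1H (hB : NB S t) (hq : Nat.card F = 2) : U1H (S.x E.θ 1) t (Q S E.θ) := by
  have A := h.amb
  have ZZ : S.X E.θ ≤ zpowers (S.x E.θ 1) := by
    intro x hx
    obtain ⟨c, rfl⟩ := S.mem_X_iff.1 hx
    by_cases hc : c = 0
    · rw [hc, S.x_zero]; exact one_mem _
    · rw [b3_one hq hc]; exact mem_zpowers _
  refine ⟨A.x_sq _ _, h.t2, A.pg_Q _, A.Z_le_Q (S.x_mem_X _ _), fun u hu v hv => ZZ ?_,
    fun u hu => (A.Y_le_cent _ (A.U_le_Y (A.Q_le_U hu)) _ (S.x_mem_X _ _)).symm,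
    fun u hu => ZZ (A.sq_Q hu), fun u hu hc => ZZ (A.center_Q hu hc),
    fun u hu => h.com (S.UU_le_grp _ hu),
    fun g h1 h2 => (A.norm_of_cent_x (h.mem_NL h2) one_ne_zero h1).2.1, fun s hs hc hQ => ?_,
    hB _ _ one_ne_zero⟩
  · rw [A.comm_Q hu hv]; exact S.x_mem_X _ _
  · obtain ⟨c, k, hk, rfl⟩ := A.cen_Q E.θ (h.mem_NL hc) hQ
    rcases h.b3_k (S.x_mem_grp _ _) hk (A.x_sq _ _) (b1_sq h.t2 hs) hc with rfl | rfl
    · rw [mul_one] at hs
      exact (h.nz _ _ hs).elim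
    · by_cases h0 : c = 0
      · rw [h0, S.x_zero, one_mul]
      · rw [h.com (S.x_mem_grp _ _)] at hs
        exact (hB _ _ h0 hs).elim

theorem b3_dcf (hB : NB S t) {s l : G} {Γ W : Subgroup G} (D : DCF E S l Γ W) (hs : IsConj t s)
    (e : s = l ∨ s = l * t) : False := by
  have A := h.amb
  have WL : W ≤ S.grp := D.WU.trans S.U_le_grp
  have lL := WL D.lW
  have l2 := D.sq l D.lW
  have lt : l * t = t * l := h.com lL
  have cs : ∀ p ∈ S.grp, p * s = s * p ↔ p * l = l * p := by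
    intro p hp
    rcases e with rfl | rfl
    · rfl
    · rw [mul_assoc, ← h.com hp, ← mul_assoc, ← mul_assoc, mul_left_inj]
  have hc : t * s = s * t := by
    rcases e with rfl | rfl
    · exact lt.symm
    · rw [← mul_assoc, ← lt]
  have Cs : S.grp ⊓ centralizer {l} ≤ centralizer {s} := fun p hp =>
    mem_centralizer_singleton_iff.2 ((cs p hp.1).2 (mem_centralizer_singleton_iff.1 hp.2))
  obtain ⟨g, hg, hn⟩ := h.exists_cj hs (b1_pg (P := S.U ⊓ centralizer {l}) (A.pg_U.to_le inf_le_left)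
    h.t2 fun p hp => h.com (S.U_le_grp hp.1)) (sup_le (zpowers_le.2 (mem_centralizer_singleton_iff.2 hc))
      ((inf_le_inf_right _ S.U_le_grp).trans Cs))
  have h' := h.cj g
  have hB' := hB.cj g
  rw [hg] at h' hB'
  generalize SLE.cj S g = T at hn h' hB'
  have A' := h'.amb
  have tZ : t ∈ centralizer (T.X E.θ : Set G) := by
    obtain ⟨π, σ, hπ, ht⟩ := A'.aut t (h'.mem_NL hc)
    obtain rfl := h'.not_semi hB' hs.symm hc hπ ht
    exact A'.cent_Z ht hπ (hn (mem_sup_left (mem_zpowers t))) (UFP.pgroup_zpowers_of_sq h.t2)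
  have ΓZ : Γ ≤ centralizer (T.X E.θ : Set G) := by
    intro γ hγ
    have h1 := D.ΓU hγ
    have h2 := hn (mem_sup_right h1)
    have h3 : IsPGroup 2 (zpowers γ) := A.pg_U.to_le (zpowers_le.2 h1.1)
    rcases b3_q (F := F) with hq | hq
    · obtain ⟨π, σ, hπ, ht⟩ := A'.aut γ (h'.CN (Cs ⟨S.U_le_grp h1.1, h1.2⟩))
      obtain rfl : σ = 1 := by
        ext c
        by_cases h0 : c = 0
        · rw [h0, map_zero, map_zero]
        · rw [b3_one hq h0, map_one, map_one]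
      exact A'.cent_Z ht hπ h2 h3
    · exact A'.cent_Z (mem_N0.1 (A'.commutator_le_N0 (commutator_mono (Cs.trans h'.CN) (Cs.trans h'.CN)
        (D.Γc hq hγ)))) (Or.inl rfl) h2 h3
  have key : ∀ c, c ≠ 0 → ∃ w ∈ W, (T.x E.θ c = w ∨ T.x E.θ c = w * t) ∧ ¬ IsConj s (T.x E.θ c) ∧
      ¬ IsConj s (s * T.x E.θ c) := by
    intro c c0
    have et := tZ _ (T.x_mem_X E.θ c)
    obtain ⟨w, hw, k, hk, e'⟩ := D.cen (T.x E.θ c) (h.mem_NL et) fun γ hγ =>
      (ΓZ hγ _ (T.x_mem_X E.θ c)).symm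
    refine ⟨w, hw, ?_, h'.nz _ _, hB' _ _ c0⟩
    rcases h.b3_k (WL hw) hk (D.sq w hw) (e' ▸ A'.x_sq _ c) (e' ▸ et) with rfl | rfl
    · exact Or.inl (by rw [e', mul_one])
    · exact Or.inr e'
  have cj1 : ∀ w ∈ W, w ∉ S.X E.θ → IsConj l w ∧ IsConj (l * t) (w * t) := by
    intro w hw hw'
    obtain ⟨a, ha, e'⟩ := D.conj w hw hw'
    exact ⟨isConj_iff.2 ⟨a, e'⟩, isConj_iff.2 ⟨a, by
      rw [← conj_mul, e', h.com ha, mul_inv_cancel_right]⟩⟩
  have lz : ∀ x ∈ S.X E.θ, l * x ∉ S.X E.θ := fun x hx h0 =>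
    D.lZ ((Subgroup.mul_mem_cancel_right _ hx).1 h0)
  have ZZ : Nat.card F = 2 → ∀ x ∈ S.X E.θ, x = 1 ∨ x = S.x E.θ 1 := by
    intro hq x hx
    obtain ⟨c, rfl⟩ := S.mem_X_iff.1 hx
    by_cases hc : c = 0
    · exact Or.inl (by rw [hc, S.x_zero])
    · exact Or.inr (by rw [b3_one hq hc])
  have fin : Nat.card F = 2 ∧ (T.x E.θ 1 = S.x E.θ 1 * t ∨ T.x E.θ 1 = l * S.x E.θ 1 ∨
      T.x E.θ 1 = l * S.x E.θ 1 * t) := by
    rcases e with rfl | rfl
    · have k2 : ∀ c, c ≠ 0 → ∃ w ∈ W, T.x E.θ c = w * t := by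
        intro c c0
        obtain ⟨w, hw, e' | e', n1, n2⟩ := key c c0
        · rw [e'] at n1 n2
          by_cases hz : w ∈ S.X E.θ
          · exact (n2 (cj1 _ (mul_mem D.lW hw) (lz w hz)).1).elim
          · exact (n1 (cj1 w hw hz).1).elim
        · exact ⟨w, hw, e'⟩
      have hq : Nat.card F = 2 := by
        refine (b3_q (F := F)).resolve_right fun hq => h.t_not_mem ?_
        obtain ⟨c, c0, c1⟩ := b3_exists hq
        obtain ⟨w₁, a1, e1⟩ := k2 1 one_ne_zero
        obtain ⟨w₂, a2, e2⟩ := k2 c c0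
        obtain ⟨w₃, a3, e3⟩ := k2 _ c1
        rw [T.x_add, e1, e2, mul_assoc, ← mul_assoc t, ← h.com (WL a2), mul_assoc, h.t2, mul_one] at e3
        refine (Subgroup.mul_mem_cancel_left _ (WL a3)).1 ?_
        rw [← e3]
        exact WL (mul_mem a1 a2)
      refine ⟨hq, ?_⟩
      obtain ⟨w, hw, e1⟩ := k2 1 one_ne_zero
      obtain ⟨-, -, -, n1, n2⟩ := key 1 one_ne_zero
      rw [e1] at n1 n2 ⊢
      by_cases hz : w ∈ S.X E.θ
      · rcases ZZ hq w hz with rfl | rfl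
        · rw [one_mul] at n1
          exact (n1 hs.symm).elim
        · exact Or.inl rfl
      · rcases D.two hq w hw hz with rfl | rfl
        · rw [← mul_assoc, l2, one_mul] at n2
          exact (n2 hs.symm).elim
        · exact Or.inr (Or.inr rfl)
    · have k2 : ∀ c, c ≠ 0 → ∃ x ∈ S.X E.θ, ∃ a, (a = l ∨ a = t) ∧ T.x E.θ c = a * x := by
        intro c c0
        obtain ⟨w, hw, e' | e', n1, n2⟩ := key c c0
        · rw [e'] at n1 n2
          refine ⟨l * w, by_contra fun hz => n2 ?_, l, Or.inl rfl, by rw [e', ← mul_assoc, l2, one_mul]⟩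
          rw [mul_assoc, ← h.com (WL hw), ← mul_assoc]
          exact (cj1 _ (mul_mem D.lW hw) hz).2
        · rw [e'] at n1
          exact ⟨w, by_contra fun hz => n1 (cj1 w hw hz).2, t, Or.inr rfl, by rw [e', h.com (WL hw)]⟩
      have ca : ∀ x ∈ S.X E.θ, ∀ a, a = l ∨ a = t → x * a = a * x := by
        rintro x hx a (rfl | rfl)
        · exact A.Y_le_cent _ (A.U_le_Y (D.WU D.lW)) x hx
        · exact h.com (S.UU_le_grp _ hx)
      have tZ' : t ∉ S.X E.θ := fun h0 => h.t_not_mem (S.UU_le_grp _ h0)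
      have hq : Nat.card F = 2 := by
        refine (b3_q (F := F)).resolve_right fun hq => ?_
        obtain ⟨c, c0, c1⟩ := b3_exists hq
        obtain ⟨x₁, a1, b₁, d1, e1⟩ := k2 1 one_ne_zero
        obtain ⟨x₂, a2, b₂, d2, e2⟩ := k2 c c0
        obtain ⟨x₃, a3, b₃, d3, e3⟩ := k2 _ c1
        rw [T.x_add, e1, e2, mul_assoc, ← mul_assoc x₁, ca x₁ a1 b₂ d2] at e3
        have e4 : b₃⁻¹ * (b₁ * b₂) ∈ S.X E.θ := by
          have : b₃⁻¹ * (b₁ * b₂) = x₃ * (x₁ * x₂)⁻¹ := by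
            calc _ = b₃⁻¹ * (b₁ * (b₂ * x₁ * x₂)) * (x₁ * x₂)⁻¹ := by group
              _ = _ := by rw [e3]; group
          rw [this]
          exact mul_mem a3 (inv_mem (mul_mem a1 a2))
        rcases d1 with rfl | rfl <;> rcases d2 with rfl | rfl <;> rcases d3 with rfl | rfl
        · rw [inv_mul_cancel_left] at e4; exact D.lZ e4
        · rw [l2, mul_one, inv_mem_iff] at e4; exact tZ' e4
        · rw [inv_mul_cancel_left] at e4; exact tZ' e4
        · rw [lt, inv_mul_cancel_left] at e4; exact D.lZ e4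
        · rw [← lt, inv_mul_cancel_left] at e4; exact tZ' e4
        · rw [inv_mul_cancel_left] at e4; exact D.lZ e4
        · rw [h.t2, mul_one, inv_mem_iff] at e4; exact D.lZ e4
        · rw [inv_mul_cancel_left] at e4; exact tZ' e4
      refine ⟨hq, ?_⟩
      obtain ⟨x, hx, a, ha, e1⟩ := k2 1 one_ne_zero
      obtain ⟨-, -, -, n1, n2⟩ := key 1 one_ne_zero
      rw [e1] at n1 n2 ⊢
      rcases ZZ hq x hx with rfl | rfl
      · rcases ha with rfl | rfl
        · rw [mul_one, mul_assoc, ← lt, ← mul_assoc, l2, one_mul] at n2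
          exact (n2 hs.symm).elim
        · rw [mul_one] at n1
          exact (n1 hs.symm).elim
      · rcases ha with rfl | rfl
        · exact Or.inr (Or.inl rfl)
        · exact Or.inl (h.com (S.x_mem_grp _ _)).symm
  obtain ⟨hq, hz⟩ := fin
  have U1 := h'.u1H hB' hq
  have last : ∀ P ≤ S.grp, IsPGroup 2 P → l ∈ P → (∀ p ∈ P, p * T.x E.θ 1 = T.x E.θ 1 * p) →
      ∀ p ∈ P, p * l = l * p := by
    intro P hP p2 hl hcz p hp
    refine (cs p (hP hp)).1 (U1.cent (b1_pg p2 h.t2 fun p hp => h.com (hP hp)) (fun x hx => ?_) ?_ p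
      (mem_sup_right hp))
    · exact mem_centralizer_singleton_iff.1 (sup_le (zpowers_le.2 (mem_centralizer_singleton_iff.2
        (tZ _ (T.x_mem_X _ _)).symm)) (fun p hp => mem_centralizer_singleton_iff.2 (hcz p hp)) hx)
    · rcases e with rfl | rfl
      · exact mem_sup_right hl
      · exact mul_mem (mem_sup_right hl) (mem_sup_left (mem_zpowers t))
  rcases hz with hz | hz
  · refine D.lZ (A.center_U.le ⟨D.WU D.lW, last S.U S.U_le_grp A.pg_U (D.WU D.lW) fun p hp => ?_⟩)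
    rw [hz]
    exact Commute.mul_right (A.Y_le_cent _ (A.U_le_Y hp) _ (S.x_mem_X _ _)).symm (h.com (S.U_le_grp hp))
  · obtain ⟨P, hP, p2, hl, hcz, c, hc1, hc2⟩ := D.P
    refine hc2 (last P hP p2 hl (fun p hp => ?_) c hc1)
    have := mem_centralizer_singleton_iff.1 (hcz hp)
    rcases hz with hz | hz <;> rw [hz]
    · exact this
    · exact Commute.mul_right this (h.com (hP hp))

/-- the inner case -/
theorem not_inner (hB : NB S t) {s : G} (hs : IsConj t s) (hc : s * t = t * s) (hne : s ≠ t)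
    (h0 : s ∈ N0 S) : False := by
  have A := h.amb
  have s2 := b1_sq h.t2 hs
  obtain ⟨l, hl, c, hc', rfl, l2, -⟩ := A.inv_split h0 s2
  have hk := h.b3_k hl hc' l2 s2 hc
  have l1 : l ≠ 1 := by
    rintro rfl
    rcases hk with rfl | rfl
    · rw [one_mul, isConj_one_left] at hs
      exact h.t1 hs
    · exact hne (one_mul _)
  obtain ⟨g, hg, H⟩ := A.dc l hl l2 l1
  have h1 : IsConj t (g * l * g⁻¹ * c) := hs.trans (isConj_iff.2 ⟨g, by
    rw [← conj_mul, hc' g hg, mul_inv_cancel_right]⟩)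
  rcases H with H | ⟨B, hB', H⟩ <;> rw [H] at h1
  · rcases hk with rfl | rfl
    · rw [mul_one] at h1
      exact h.nz _ _ h1
    · rw [h.com (S.x_mem_grp _ _)] at h1
      exact hB _ _ one_ne_zero h1
  · obtain ⟨Γ, W, D⟩ := A.dcf hB'
    exact h.b3_dcf hB D h1 (hk.imp (fun e => by rw [e, mul_one]) fun e => by rw [e])

/-- **FUS** -/
theorem fus {s : G} (hs : IsConj t s) (hc : s * t = t * s) (hne : s ≠ t) :
    IsConj t (t * S.x E.θ 1) := by
  by_contra hn
  have hB := h.nb_of1 hn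
  obtain ⟨g, s', h1, h2, h3, h4⟩ := h.exists_inner hB hs hc hne
  exact (h.cj g).not_inner (hB.cj g) ((b1_conj g t).symm.trans h1) h2 h3 h4

end Sit

end CfsgLib.SLE
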