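import Mathlib
import Cfsg.Agent.Lib.SLE.Rt
import Cfsg.Agent.Lib.Stein.Graph
import Cfsg.Agent.Lib.Stein.Exc
import Cfsg.Agent.Lib.Stein.MultChev

/-!
# The models: definitions
-/

set_option autoImplicit false

namespace CfsgLib.SLE

open Cfsg.Lie CfsgLib.RGD CfsgLib.Stein CfsgLib.Weyl CfsgLib.Chev Subgroup
open scoped commutatorElement Pointwise

universe u

/-- the root data of the three models -/
structure Mod (D : ChevalleyDatum) (h : RtOK D) (E : ER (rootSys h)) : Prop where
  typ : (D = chevE6 ∧ ∀ r, (E.γ r : ℕ) = rhoE6 r) ∨ ((D = chevE7 ∨ D = chevE8) ∧ E.γ = 1)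
  θ : (E.θ : ℕ) = D.nroots - 1

/-- the representatives of the classes of involutions which are not root elements -/
def RepE (D : ChevalleyDatum) (y : List ℕ) : Prop :=
  (D = chevE6 ∧ y ∈ [[68, 66], [55, 65, 67]]) ∨
  (D = chevE7 ∧ y ∈ [[78, 73], [78, 66, 63], [78, 73, 66], [78, 73, 66, 63]]) ∨
  (D = chevE8 ∧ y ∈ [[232, 233], [228, 222, 218], [226, 220, 213, 216]])

/-- `S.grp` is a central extension of the Chevalley group with kernel of odd order -/
structure Cov (D : ChevalleyDatum) [Good D] (h : RtOK D) {K : Type} [Field K] {G : Type u} [Group G]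
    (S : StSys (rootSys h) K G) (θ : S.grp →* D.group K) : Prop where
  nd : S.Nondeg
  rel : Rel (rootSys h) S.x
  r3 : R3 S
  map : ∀ r c, θ ⟨S.x r c, S.x_mem_grp r c⟩ = xG D K r c
  surj : Function.Surjective θ
  ker : ∀ z : S.grp, θ z = 1 ↔ (z : G) ∈ CL S
  odd : ∀ z : S.grp, θ z = 1 → Odd (orderOf z)

theorem Mod.mem {D : ChevalleyDatum} {h : RtOK D} {E : ER (rootSys h)} (hE : Mod D h E) :
    D = chevE6 ∨ D = chevE7 ∨ D = chevE8 := by
  rcases hE.typ with h | h
  · exact .inl h.1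
  · exact .inr h.1

theorem Mod.genOK {D : ChevalleyDatum} {h : RtOK D} {E : ER (rootSys h)} (hE : Mod D h E) :
    GenOK D := genOK_of_mem (by rcases hE.mem with rfl | rfl | rfl <;> simp)

end CfsgLib.SLE
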