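import Mathlib
import Cfsg.Agent.Lib.SLE.BasA

/-!
# Consequences of the relations alone
-/

set_option autoImplicit false
set_option linter.unusedSectionVars false

namespace CfsgLib.SLE

open CfsgLib.RGD CfsgLib.Stein Subgroup
open scoped commutatorElement Pointwise

universe u

variable {ι κ : Type} [Fintype κ] [DecidableEq κ] [Finite ι] {Φ : RootSys ι κ} {E : ER Φ}
  {F : Type} [Field F] [Finite F] [CharP F 2] {G : Type u} [Group G] [Finite G]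
  {S : StSys Φ F G}

namespace Pre

section Raw

omit [Finite G] [Finite F]

variable (E) {y : ι → F → G} (rel : Rel Φ y)
include rel

theorem y_zero (r : ι) : y r 0 = 1 := by simpa using rel.add r 0 0

theorem y_sq (r : ι) (c : F) : y r c * y r c = 1 := by
  rw [← rel.add, CharTwo.add_self_eq_zero, y_zero rel]

theorem y_inv (r : ι) (c : F) : (y r c)⁻¹ = y r c := inv_eq_of_mul_eq_one_right (y_sq rel r c)

include E

theorem conj_y {a b r : ι} (h : RAdd Φ a b r) (u v : F) :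
    y a u * y b v * (y a u)⁻¹ = y b v * y r (u * v) := by
  rw [rel.com b r (by rw [(E.radd_ip h).2.2]; norm_num), ← rel.cm a b r h, inv_mul_cancel_right]

/-- the action of `n_d(c)` -/
theorem n_conj (d s : ι) {c : F} (hc : c ≠ 0) (u : F) :
    y d c * y (Φ.neg d) c⁻¹ * y d c * y s u * (y d c * y (Φ.neg d) c⁻¹ * y d c)⁻¹ =
      y (rf Φ d s) (c ^ (-ip Φ d s) * u) := by
  obtain ⟨n, hn⟩ : ∃ n, n = y d c * y (Φ.neg d) c⁻¹ * y d c := ⟨_, rfl⟩
  rw [← hn]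
  have e : ∀ z, n * z * n⁻¹ =
      y d c * (y (Φ.neg d) c⁻¹ * (y d c * z * (y d c)⁻¹) * (y (Φ.neg d) c⁻¹)⁻¹) * (y d c)⁻¹ := fun z => by
    rw [hn]; group
  have com : ∀ {a b}, 0 ≤ ip Φ a b → ∀ u v, y a u * y b v = y b v * y a u := fun h => rel.com _ _ h
  have f : ∀ {a b}, 0 ≤ ip Φ a b → ∀ u v, y a u * y b v * (y a u)⁻¹ = y b v := fun h u v => by
    rw [com h, mul_inv_cancel_right]
  have k : ∀ {a k}, RAdd Φ a d k → (∀ u, n * y a u * n⁻¹ = y (rf Φ d a) (c ^ (-ip Φ d a) * u)) ∧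
      ∀ u, n * y k u * n⁻¹ = y (rf Φ d k) (c ^ (-ip Φ d k) * u) := fun {a k} h => by
    obtain ⟨h1, h2, h3⟩ := E.radd_ip h
    rw [ip_comm] at h1
    refine ⟨fun u => ?_, fun u => ?_⟩
    · rw [e, conj_y E rel h.symm, ← conj_mul (b := y (Φ.neg d) c⁻¹), f (by rw [ip_neg_left, h1]; norm_num),
        conj_y E rel h.sub.symm, inv_mul_cancel_left₀ hc, ← mul_assoc (y a u), com (by rw [h2]; norm_num),
        mul_assoc _ (y a u), y_sq rel, mul_one, f (by rw [h3]; norm_num), (E.rf_add h).1, h1, neg_neg, zpow_one]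
    · rw [e, f (by rw [h3]; norm_num), conj_y E rel h.sub.symm, ← conj_mul, f (by rw [h3]; norm_num),
        conj_y E rel h.symm, mul_inv_cancel_left₀ hc, com (by rw [h2]; norm_num), ← mul_assoc, y_sq rel, one_mul,
        (E.rf_add h).2, h3, zpow_neg_one]
  have k1 : ∀ {a}, ip Φ d a = 1 ∨ ip Φ d a = -1 →
      ∀ u, n * y a u * n⁻¹ = y (rf Φ d a) (c ^ (-ip Φ d a) * u) := fun h =>
    h.elim (fun h => (E.exists_sub h).elim fun _ h => (k h.symm).2)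
      fun h => (E.exists_add h).elim fun _ h => (k h.symm).1
  have k2 : s = d ∨ s = Φ.neg d → n * y s u * n⁻¹ = y (rf Φ d s) (c ^ (-ip Φ d s) * u) := fun h => by
    obtain ⟨a, b, hs⟩ := E.exists_radd s
    obtain ⟨-, h2, h3⟩ := E.radd_ip hs
    have k3 : ∀ {a}, ip Φ a s = 1 → ip Φ d a = 1 ∨ ip Φ d a = -1 := fun h' => h.imp
      (fun e => by rw [← h', e, ip_comm]) fun e => by rw [← h', e, ip_neg_right, neg_neg, ip_comm]
    rw [← mul_one u, ← rel.cm a b s hs, ← conj_mul, ← conj_mul, ← conj_mul, ← conj_inv, ← conj_inv, k1 (k3 h2),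
      k1 (k3 h3), rel.cm _ _ _ (hs.apply (rf_mem d)), hs.ip_right, neg_add, zpow_add₀ hc]
    congr 1
    ring
  rcases E.ip_cases d s with h | h | h | h | h
  · exact k2 (.inl h.1)
  · exact k1 (.inl h) u
  · rw [e, f h.ge, f (by rw [ip_neg_left, h]; norm_num), f h.ge, E.rf_orth h, h, neg_zero, zpow_zero, one_mul]
  · exact k1 (.inr h) u
  · exact k2 (.inr h.1)

/-- the system defined by a family with the relations -/
def sys : StSys Φ F G where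
  x := y
  x_add := rel.add
  comm r s h1 h2 t u := by
    rcases E.ip_cases r s with h | h | h | h | h
    · exact absurd h.1 h1
    · rw [mul_assoc, mul_assoc, ← rel.com r s (by omega)]; simp
    · rw [mul_assoc, mul_assoc, ← rel.com r s (by omega)]; simp
    · obtain ⟨k, hk⟩ := E.exists_add h
      have := rel.cm s r k hk.symm u t
      rw [y_inv rel, y_inv rel] at this ⊢
      exact subset_closure ⟨k, _, hk.isSum, this⟩
    · exact absurd h.1 h2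
  nconj i c hc := ⟨fun s => c ^ (-ip Φ (Φ.simple i) s), fun s => by
    rw [← zpow_add₀ hc, ip_neg_right, neg_neg, neg_add_cancel, zpow_zero], fun s t => by
      have := n_conj E rel (Φ.simple i) s hc t
      rw [E.rf_simple] at this
      simp only [nOf, CharTwo.neg_eq]
      exact this⟩

end Raw

theorem cm_mem (E : ER Φ) {K Ψ : Set ι} {r : ι} (hr : Φ.Pos r) (hK : Idl Φ K)
    (hΨ : ∀ s ∈ Ψ, Φ.Pos s ∧ ∀ k, RAdd Φ s r k → k ∈ K) {y : G} (hy : y ∈ S.UU Ψ) (a : F) :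
    y * S.x r a * y⁻¹ * (S.x r a)⁻¹ ∈ S.UU K := by
  have ne : ∀ {a b}, Φ.Pos a → Φ.Pos b → b ≠ Φ.neg a := fun ha hb e => by
    rw [pos_iff_ht] at ha hb
    rw [e, Φ.ht_neg] at hb
    omega
  simpa [S.x_neg] using S.comm_mem_UU_of_mem (K := K) (r := r)
    (fun s hs => ⟨ne hr (hΨ s hs).1, fun k hk => (hΨ s hs).2 k ((E.isSum_iff (ne hr (hΨ s hs).1)).1 hk).symm⟩)
    (fun s hs b hb => ⟨ne (hΨ s hs).1 (hK.1 b hb), fun k hk =>
      hK.2 b hb s (hΨ s hs).1 k ((E.isSum_iff (ne (hΨ s hs).1 (hK.1 b hb))).1 hk).symm⟩) (inv_mem hy) (-a)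

theorem conj_idl (E : ER Φ) {K : Set ι} (hK : Idl Φ K) {g y : G} (hg : g ∈ S.U) (hy : y ∈ S.UU K) :
    g * y * g⁻¹ ∈ S.UU K := by
  have ne : ∀ {a b}, Φ.Pos a → Φ.Pos b → b ≠ Φ.neg a := fun ha hb e => by
    rw [pos_iff_ht] at ha hb
    rw [e, Φ.ht_neg] at hb
    omega
  exact S.conj_mem_UU (Ψ := {r | Φ.Pos r}) (fun s hs b hb => ⟨ne hs (hK.1 b hb), fun k hk =>
    hK.2 b hb s hs k ((E.isSum_iff (ne hs (hK.1 b hb))).1 hk).symm⟩) hg hy

theorem eq_one (E : ER Φ) (nd : S.Nondeg) (rel : Rel Φ S.x) {T : Set ι} (hT : Idl Φ T) {r : ι}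
    (hr : Φ.Pos r) (Ψ : Set ι) (hΨ : ∀ s ∈ Ψ, Φ.Pos s ∧ ∃ k, RAdd Φ s r k ∧ k ∉ T) {w : G} (hw : w ∈ S.UU Ψ)
    (h : w * S.x r 1 * w⁻¹ * (S.x r 1)⁻¹ ∈ S.UU T) : w = 1 := by
  induction Ψ using WellFoundedLT.induction generalizing w with | _ Ψ ih => ?_
  rcases Ψ.eq_empty_or_nonempty with rfl | hne
  · rwa [S.UU_empty, mem_bot] at hw
  obtain ⟨s, hs, hm⟩ := Set.exists_min_image Ψ Φ.ht Ψ.toFinite hne
  obtain ⟨hp, k, hk, hkT⟩ := hΨ s hs
  obtain ⟨c, y, hy, rfl⟩ := S.exists_x_mul (E.closed_of (fun s hs => (hΨ s hs).1) fun a ha b hb j hj => by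
    obtain ⟨pa, _, h1, -⟩ := hΨ a ha
    obtain ⟨pb, _, h2, -⟩ := hΨ b hb
    have e : ip Φ j r = -2 := by rw [hj.ip_left, (E.radd_ip h1).1, (E.radd_ip h2).1]; norm_num
    have := E.eq_neg_one (radd_pos hj pa pb) hr (by omega)
    omega) (fun s hs => (hΨ s hs).1) s hw
  have hM : Idl Φ {j | j ∈ T ∨ Φ.Pos j ∧ Φ.ht k ≤ Φ.ht j ∧ j ≠ k} := ⟨fun j hj => hj.elim (hT.1 j) And.left,
    fun j hj a ha l hl => hj.imp (fun h => hT.2 j h a ha l hl) fun h => by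
      have := radd_ht hl
      have := pos_iff_ht.1 ha
      exact ⟨radd_pos hl h.1 ha, by omega, fun e => by subst e; omega⟩⟩
  have h1 := conj_idl E hM (S.x_mem_UU hp c) (cm_mem E hr hM (fun a ha => ⟨(hΨ a ha.1).1, fun l hl => .inr
    ⟨radd_pos hl (hΨ a ha.1).1 hr, by have := hm a ha.1; rw [radd_ht hl, radd_ht hk]; omega,
      fun e => ha.2 ((e ▸ hl).symm.unique hk.symm)⟩⟩) hy 1)
  have h2 := mul_mem (inv_mem h1) (S.UU_mono (fun _ => Or.inl) h)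
  rw [show (S.x s c * (y * S.x r 1 * y⁻¹ * (S.x r 1)⁻¹) * (S.x s c)⁻¹)⁻¹ *
    (S.x s c * y * S.x r 1 * (S.x s c * y)⁻¹ * (S.x r 1)⁻¹) = S.x s c * S.x r 1 * (S.x s c)⁻¹ * (S.x r 1)⁻¹ by group,
    rel.cm s r k hk, mul_one] at h2
  obtain rfl := nd.eq_zero_of_mem_UU (E.closed_of_idl hM) hM.1 (radd_pos hk hp hr)
    (fun h => h.elim hkT fun h => h.2.2 rfl) h2
  rw [S.x_zero, one_mul] at h ⊢
  exact ih _ (Set.sdiff_singleton_ssubset.2 hs) (fun a ha => hΨ a ha.1) hy h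

end Pre

theorem exists_exa_of_rel (E : ER Φ) (rel : Rel Φ S.x) {w : Equiv.Perm ι} (hw : w ∈ Φ.W) :
    ∃ n ∈ S.grp, Exa S n w := by
  induction hw using closure_induction with
  | mem g hg =>
    obtain ⟨i, rfl⟩ := hg
    exact ⟨_, mul_mem (mul_mem (S.x_mem_grp _ _) (S.x_mem_grp _ _)) (S.x_mem_grp _ _), fun r c =>
      (Pre.n_conj E rel (Φ.simple i) r one_ne_zero c).trans (by rw [one_zpow, one_mul, E.rf_simple])⟩
  | one => exact ⟨1, one_mem _, fun _ _ => by simp⟩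
  | mul a b _ _ ha hb =>
    obtain ⟨v, hv, ha⟩ := ha
    obtain ⟨w, hw, hb⟩ := hb
    exact ⟨_, mul_mem hv hw, ha.mul hb⟩
  | inv a _ ha =>
    obtain ⟨v, hv, ha⟩ := ha
    exact ⟨_, inv_mem hv, ha.inv⟩

theorem linf_of_rel (E : ER Φ) (nd : S.Nondeg) (rel : Rel Φ S.x) (T : Set ι) (hT : Idl Φ T) (r : ι)
    (hr : Φ.Pos r) (w : G) (hw : w ∈ S.U) (h : w * S.x r 1 * w⁻¹ * (S.x r 1)⁻¹ ∈ S.UU T) (a : F) :
    w * S.x r a * w⁻¹ * (S.x r a)⁻¹ ∈ S.UU T := by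
  obtain ⟨u, hu, v, hv, rfl⟩ := S.exists_mul_of_subset_union (Ψ₁ := {s | ∃ k, RAdd Φ s r k ∧ k ∉ T})
    (Ψ₂ := {s | ∀ k, RAdd Φ s r k → k ∈ T}) Φ.closed_pos (fun _ h => h)
    (fun s _ => (em _).imp_right fun h k hk => by_contra fun e => h ⟨k, hk, e⟩) hw
  have h1 := Pre.cm_mem E hr hT (fun _ h => h) hv
  have h2 := mul_mem (inv_mem (Pre.conj_idl E hT (S.UU_mono Set.inter_subset_left hu) (h1 1))) h
  rw [show (u * (v * S.x r 1 * v⁻¹ * (S.x r 1)⁻¹) * u⁻¹)⁻¹ * (u * v * S.x r 1 * (u * v)⁻¹ * (S.x r 1)⁻¹) =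
    u * S.x r 1 * u⁻¹ * (S.x r 1)⁻¹ by group] at h2
  rw [Pre.eq_one E nd rel hT hr _ (fun _ h => h) hu h2, one_mul]
  exact h1 a

end CfsgLib.SLE
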