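import Mathlib
import Cfsg.Agent.Lib.SLE.MDefs
import Cfsg.Agent.Lib.SLE.Pre

/-!
# Covers
-/

set_option autoImplicit false
set_option linter.unusedSectionVars false

namespace CfsgLib.SLE

open Cfsg.Lie CfsgLib.RGD CfsgLib.Stein CfsgLib.Weyl CfsgLib.Chev Subgroup
open scoped commutatorElement Pointwise

universe u

section Sub

variable {ι κ : Type} [Fintype κ] [DecidableEq κ] {Φ : RootSys ι κ} {F : Type} [Field F] {G : Type u} [Group G]

/-- the system inside the group that it generates -/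
def sub (S : StSys Φ F G) : StSys Φ F S.grp :=
  ClSys.comapSys S S.grp.subtype (subtype_injective _) (fun r c => ⟨S.x r c, S.x_mem_grp r c⟩) fun _ _ => rfl

theorem sub_map (S : StSys Φ F G) (r : ι) (c : F) : S.grp.subtype ((sub S).x r c) = S.x r c := rfl

theorem sub_grp (S : StSys Φ F G) : (sub S).grp = ⊤ :=
  (ClSys.comapSys_grp _ _ _ _ _).trans (subgroupOf_self _)

theorem mem_sub_UU {S : StSys Φ F G} {T : Set ι} {g : S.grp} : g ∈ (sub S).UU T ↔ (g : G) ∈ S.UU T := by
  rw [← map_UU _ (sub_map S)]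
  exact (mem_map_iff_mem (subtype_injective _)).symm

theorem nondeg_of_sub {S : StSys Φ F G} (h : (sub S).Nondeg) : S.Nondeg := fun i => (h i).imp fun t ht k => ht <| by
  rw [← map_B _ (sub_map S), ← sub_map] at k
  exact (mem_map_iff_mem (subtype_injective _)).1 k

end Sub

variable {D : ChevalleyDatum} [Good D] {h : RtOK D} {E : ER (rootSys h)}
  {K : Type} [Field K] [Finite K] [CharP K 2] {G : Type u} [Group G] [Finite G]

namespace Br1

theorem terms (E : ER (rootSys h)) {r s : Fin D.nroots} (h2 : s ≠ (rootSys h).neg r) : D.commTerms r s = [] ∨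
    ∃ k : Fin D.nroots, RAdd (rootSys h) r s k ∧ ∃ c, D.commTerms r s = [(k.1, c, 1, 1)] := by
  have key : ∀ c ∈ D.commTerms r s, ∃ hk : c.1 < D.nroots, RAdd (rootSys h) r s ⟨c.1, hk⟩ ∧ c.2.2 = (1, 1) := by
    intro c hc
    obtain ⟨hk, hs⟩ := isSum_of_mem_commTerms h r s hc
    have ha := (E.isSum_iff h2).1 hs
    obtain ⟨h3, h4, h5⟩ := E.radd_ip ha
    have e := ip_comb (Φ := rootSys h) (k := ⟨c.1, hk⟩) (r := r) (s := s)
      fun j => (mem_commTerms_spec h r.2 s.2 hc).2.2.2 j j.2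
    have e1 := e r
    have e2 := e s
    rw [ip_comm, h4, E.ip_self, ip_comm, h3] at e1
    rw [ip_comm, h5, E.ip_self, h3] at e2
    exact ⟨hk, ha, Prod.ext (by omega) (by omega)⟩
  have gen : ∀ (a : Option ℕ × ℤ × ℕ × ℕ) (l : List (Option ℕ × ℤ × ℕ × ℕ)), (∀ x ∈ l, x.2.2 ≠ (1, 1)) →
      (∀ c ∈ (a :: l).filterMap fun c => c.1.map fun k => (k, c.2), c.2.2 = (1, 1)) →
      ((a :: l).filterMap fun c => c.1.map fun k => (k, c.2)) = (a.1.map fun k => (k, a.2)).toList := by
    intro a l h1 h2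
    have : (l.filterMap fun c => c.1.map fun k => (k, c.2)) = [] := List.filterMap_eq_nil_iff.2 fun x hx => by
      obtain ⟨_ | k, x⟩ := x
      · rfl
      · exact absurd (h2 (k, x) (List.mem_filterMap.2 ⟨_, List.mem_cons_of_mem _ hx, rfl⟩)) (h1 _ hx)
    rw [List.filterMap_cons, this]
    obtain ⟨_ | k, x⟩ := a <;> rfl
  have e : D.commTerms r s = ((D.chainRoot r s 1).map fun k => (k, D.chainM r s 1, 1, 1)).toList :=
    gen _ _ (by simp) fun c hc => (key c hc).2.2
  cases e' : D.chainRoot r s 1 with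
  | none => exact .inl (by rw [e, e']; rfl)
  | some k =>
    rw [e'] at e
    obtain ⟨hk, ha, -⟩ := key (k, _) (by rw [e]; exact List.mem_singleton_self _)
    exact .inr ⟨_, ha, _, e⟩

theorem word (hE : Mod D h E) {r s : Fin D.nroots} (h1 : s ≠ r) (h2 : s ≠ (rootSys h).neg r) :
    (0 ≤ ip (rootSys h) r s ∧ ∀ t u : K, D.commWord K r s t u = []) ∨
      ∃ k : Fin D.nroots, RAdd (rootSys h) r s k ∧ ∀ t u : K, D.commWord K r s t u = [(k.1, u * t)] := by
  by_cases h0 : 0 ≤ ip (rootSys h) r s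
  · refine .inl ⟨h0, fun t u => ?_⟩
    rw [ChevalleyDatum.commWord, (terms E h2).resolve_right fun ⟨k, hk, _⟩ => by
      have := (E.radd_ip hk).1; omega, List.map_nil]
  obtain ⟨k, hk⟩ := E.exists_add (a := r) (b := s) (by
    rcases E.ip_cases r s with e | e | e | e | e
    exacts [absurd e.1 h1, by omega, by omega, e, absurd e.1 h2])
  obtain ⟨l, hl, e⟩ := E.lac.ex (gSys_nondeg (K := K) h hE.genOK) hk.symm 1 one_ne_zero
  have e1 : wordG (xG D K) (D.commWord K r s 1 1) ≠ 1 := fun e' => hl (by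
    simpa using (gSys_nondeg (K := K) h hE.genOK).eq_zero_of_x_eq_one ((e 1).symm.trans
      (((rel12_xG h).comm r r.2 s s.2 (fun e => h1 (Fin.ext e)) (fun e => h2 (Fin.ext e)) 1 1).trans e')))
  rcases terms E h2 with e2 | ⟨k', hk', c, e2⟩
  · exact absurd (by rw [ChevalleyDatum.commWord, e2]; rfl) e1
  refine .inr ⟨k', hk', fun t u => ?_⟩
  rcases CharTwo.intCast_cases (R := K) c with e3 | e3
  · exact absurd (by simp [ChevalleyDatum.commWord, e2, e3, wordG, (rel12_xG h).zero k'.2]) e1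
  · simp [ChevalleyDatum.commWord, e2, e3, mul_comm, CharTwo.neg_eq]

omit [Finite G] in
theorem rel_iff (hE : Mod D h E) {y : ℕ → K → G} :
    Rel12 D y ↔ Rel (rootSys h) fun r (c : K) => y r c := by
  refine ⟨fun hy => ?_, fun hy => ⟨fun r hr t u => (hy.add ⟨r, hr⟩ t u).symm, fun r hr s hs h1 h2 t u => ?_⟩⟩
  · have inv : ∀ (r : Fin D.nroots) c, (y r c)⁻¹ = y r c := fun r c => by rw [← hy.neg r.2, CharTwo.neg_eq]
    refine ⟨fun r t u => (hy.add r r.2 t u).symm, fun a b r hr u v => ?_, fun a b hr u v => ?_⟩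
    · have e := (E.radd_ip hr).1
      have h1 : a ≠ b := fun e' => by rw [e', E.ip_self] at e; omega
      have h2 : a ≠ (rootSys h).neg b := fun e' => by rw [e', ip_neg_left, E.ip_self] at e; omega
      have := hy.comm b b.2 a a.2 (fun e => h1 (Fin.ext e)) (fun e => h2 (Fin.ext e)) v u
      rcases word (K := K) hE h1 h2 with e' | ⟨k, hk, e'⟩
      · rw [ip_comm] at e; omega
      · rw [e', inv, inv, hk.unique' hr.symm] at this
        simpa [wordG, inv] using this
    · by_cases h1 : b = a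
      · rw [h1, hy.add a a.2, hy.add a a.2, add_comm]
      have h2 := ne_neg_of_ip hr
      have := hy.comm a a.2 b b.2 (fun e => h1 (Fin.ext e)) (fun e => h2 (Fin.ext e)) u v
      rcases word (K := K) hE h1 h2 with e' | ⟨k, hk, -⟩
      · rw [e'.2, wordG_nil, mul_assoc, ← mul_inv_rev, inv_mul_eq_one] at this
        exact this
      · have := (E.radd_ip hk).1; omega
  · rcases word (K := K) hE (r := ⟨r, hr⟩) (s := ⟨s, hs⟩) (fun e => h1 (congrArg Fin.val e))
      fun e => h2 (congrArg Fin.val e) with e' | ⟨k, hk, e'⟩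
    · rw [e'.2, wordG_nil, mul_assoc, ← mul_inv_rev, inv_mul_eq_one]
      exact hy.com _ _ e'.1 t u
    · have := hy.cm _ _ _ hk.symm u t
      rw [Pre.y_inv hy, Pre.y_inv hy] at this
      rw [e', Pre.y_inv hy ⟨s, hs⟩, Pre.y_inv hy ⟨r, hr⟩]
      simpa [wordG] using this

end Br1

theorem Mod.rel_xG (hE : Mod D h E) : Rel (rootSys h) fun r (c : K) => xG D K r c :=
  (Br1.rel_iff hE).1 (rel12_xG h)

theorem Mod.simple (hE : Mod D h E) : IsSimpleGroup (D.group K) := by
  rcases hE.mem with rfl | rfl | rfl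
  exacts [isSimpleGroup_E6, isSimpleGroup_E7, isSimpleGroup_E8]

theorem Mod.exists_cov (hE : Mod D h E) {y : Fin D.nroots → K → G} (hy : Rel (rootSys h) y)
    (h1 : ∃ r c, y r c ≠ 1) : ∃ S : StSys (rootSys h) K G, S.x = y ∧ ∃ θ, Cov D h S θ := by
  have hg := hE.genOK
  let S := Pre.sys E hy
  let y' : ℕ → K → S.grp := fun r t => if hr : r < D.nroots then (sub S).x ⟨r, hr⟩ t else 1
  have e : ∀ (r : Fin D.nroots) t, y' r t = (sub S).x r t := fun r t => dif_pos r.2
  obtain ⟨f, hf⟩ := exists_hom_cover h (y := y') ((Br1.rel_iff hE).2 (by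
    simp only [e]
    exact ⟨(sub S).x_add, fun a b r k u v => Subtype.ext (hy.cm a b r k u v),
      fun a b k u v => Subtype.ext (hy.com a b k u v)⟩))
  obtain ⟨θ₀, C⟩ := exists_cover_cover (K := K) h
  have su : Function.Surjective f := by
    rw [← MonoidHom.range_eq_top, MonoidHom.range_eq_map, ← C.gen,
      map_UUx _ (sub S).x f _ fun r _ t => (hf r r.2 t).trans (e r t), UUx_eq]
    exact sub_grp S
  have := hE.simple (K := K)
  have hk : f.ker ≤ θ₀.ker := by
    rcases (Normal.map (inferInstance : f.ker.Normal) θ₀ C.surjective).eq_bot_or_eq_top with k | k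
    · exact (Subgroup.map_eq_bot_iff _).1 k
    obtain ⟨r, c, hc⟩ := h1
    obtain ⟨a, b, hr⟩ := E.exists_radd r
    obtain ⟨g, hg1⟩ := su ((sub S).x a c)
    obtain ⟨g', hg2⟩ := su ((sub S).x b 1)
    obtain ⟨n, hn, e1⟩ := k.ge (mem_top (θ₀ g))
    have e2 : n⁻¹ * g ∈ center _ := C.ker_eq_center h hg ▸ (by
      rw [MonoidHom.mem_ker, map_mul, map_inv, e1, inv_mul_cancel])
    have e3 := congrArg (fun x => (f x : G)) (mem_center_iff.1 e2 g')
    simp only [map_mul, map_inv, show f n = 1 from hn, inv_one, one_mul, hg1, hg2, coe_mul] at e3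
    refine absurd ?_ hc
    rw [← mul_one c, ← hy.cm a b r hr, mul_inv_eq_one, mul_inv_eq_iff_eq_mul]
    exact e3.symm
  obtain ⟨θ, hθ⟩ : ∃ θ : S.grp →* D.group K, ∀ r c, θ ((sub S).x r c) = (gSys K h hg).x r c :=
    ⟨f.liftOfSurjective su ⟨θ₀, hk⟩, fun r c => by
      rw [← e, ← hf r r.2, MonoidHom.liftOfRightInverse_comp_apply]
      exact C.map r r.2 c⟩
  have nd := gSys_nondeg (K := K) h hg
  have r3 := ClSys.r3_of_finite θ hθ nd (gSys_r3 h hg)
  refine ⟨S, rfl, θ, nondeg_of_sub (nondeg_of_map θ hθ nd), hy, ClSys.r3_map _ (sub_map S) r3, hθ, ?_,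
    fun z => ⟨fun k g hg => ?_, fun k => eq_one_of_commute h fun r hr t => ?_⟩, fun z k => ?_⟩
  · rw [← MonoidHom.range_eq_top, MonoidHom.range_eq_map, ← sub_grp]
    exact (map_UU θ hθ _).trans ((cover_id h).sys_grp h hg)
  · exact (congrArg Subtype.val (commute_of_map_eq_one θ hθ nd (sub_grp S ▸ mem_top z) k
      (g := ⟨g, hg⟩) (sub_grp S ▸ mem_top _))).symm
  · have := congrArg θ (Subtype.ext (k _ (S.x_mem_grp ⟨r, hr⟩ t)) :
      (sub S).x ⟨r, hr⟩ t * z = z * (sub S).x ⟨r, hr⟩ t)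
    rw [map_mul, map_mul, hθ] at this
    exact this.symm
  · obtain ⟨t, rfl⟩ := (r3.range_hHom (Finset.nodup_toList Finset.univ) (by simp)).ge
      (mem_H_of_map_eq_one θ hθ nd (sub_grp S ▸ mem_top z) k)
    refine (BA.odd_q K).of_dvd_nat (orderOf_dvd_of_pow_eq_one ?_)
    rw [← map_pow, show t ^ (Nat.card K - 1) = 1 from funext fun i => ?_, map_one]
    rw [Pi.pow_apply, ← Nat.card_units, pow_card_eq_one', Pi.one_apply]

end CfsgLib.SLE
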