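import Mathlib
import Cfsg.Agent.Lib.SLE.MDefs
import Cfsg.Agent.Lib.SLE.RootT

/-!
# The certificates for the classes of involutions
-/

set_option autoImplicit false
set_option synthInstance.maxSize 4000

namespace CfsgLib.SLE

open Cfsg.Lie CfsgLib.RGD CfsgLib.Stein CfsgLib.Weyl CfsgLib.Chev Subgroup
open scoped commutatorElement Pointwise

universe u

attribute [local instance high] decAll decEx

/-- the grade in numerical form -/
def grN (f : ℕ → ℕ → ℤ) (B : List ℕ) (r : ℕ) : ℤ := (B.map fun b => f r b).sum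

/-- the numerical form of `DCert` -/
structure NDC (N n : ℕ) (f : ℕ → ℕ → ℤ) (S : ℕ → ℕ) (θ : ℕ) (B : List ℕ) (M I : ℕ) (V : List ℕ)
    (P : List (ℕ × ℕ)) : Prop where
  nd : B.Nodup
  ort : ∀ b ∈ B, ∀ b' ∈ B, b ≠ b' → f b b' = 0
  nθ : θ ∉ B
  dom : ∀ i < n, 0 ≤ grN f B (S i)
  ab : ∀ r < N, 2 ≤ grN f B r → ∀ s < N, 2 ≤ grN f B s → 0 ≤ f r s
  tb : ∀ a < N, M.testBit a = true → N ≤ 2 * a ∧ (∀ b ∈ B, 0 ≤ f a b) ∧
    ((∃ d < N, (∀ b ∈ B, f d b = 0) ∧ f d a ≠ 0) ∨ ∃ x < N, f x a = 1 ∧ ∀ b ∈ B, 0 ≤ f x b ∧ f x b ≤ f a b)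
  idl : ∀ r < N, I.testBit r = true → M.testBit r = true ∧ ∀ k < N, r < k → f r k = 1 → I.testBit k = true
  gen : ∀ i < n, ∃ a < N, I.testBit a = true ∧ f (S i) a = -1
  el : ∀ r < N, N ≤ 2 * r → grN f B r < 2 → ∃ a < N, M.testBit a = true ∧ f r a = -1
  svb : ∀ r < N, 2 ≤ grN f B r → r ∈ V ∨ ∃ a < N, M.testBit a = true ∧ f r a < 0
  pb : ∀ p ∈ P, p.1 < N ∧ p.2 < N ∧ N ≤ 2 * p.1 ∧ N ≤ 2 * p.2 ∧ 0 ≤ f p.1 p.2 ∧
    (∃ b ∈ B, ∃ b' ∈ B, b ≠ b' ∧ (∀ c ∈ B, c ≠ b → 0 ≤ f p.1 c) ∧ (∀ c ∈ B, c ≠ b' → 0 ≤ f p.2 c) ∧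
      ∃ k < N, NAdd f p.1 b k ∧ NAdd f p.2 b' k) ∧
    ∃ d < N, (∀ b ∈ B, f d b = 0) ∧ f d p.1 = f d p.2 ∧ f d p.1 ≠ 0
  sv : ∀ r ∈ V, r ∈ B ∨ r = θ ∨ ∃ p ∈ P, f r p.1 = -1 ∧ ∃ k < N, NAdd f r p.1 k ∧
    ∀ s ∈ V, ¬ NAdd f s p.2 k ∧ ¬ NAdd f s p.2 r
  eq : ∀ b ∈ B, ∀ b' ∈ B, b ≠ b' → ∃ p ∈ P, f b p.1 = -1 ∧ f b' p.2 = -1 ∧
    ∃ k < N, NAdd f b p.1 k ∧ NAdd f b' p.2 k ∧ ∀ s ∈ V, ¬ NAdd f s p.2 b
  eta : ∃ b ∈ B, ∃ η < N, NAdd f η b θ ∧ ∀ c ∈ B, c ≠ b → 0 ≤ f η c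
  del : ∃ δ < N, f δ θ = -1 ∧ ∀ b ∈ B, 0 ≤ f δ b
  lb : N / 2 + 3 ≤ 2 * ((List.range N).filter fun a => decide (N ≤ 2 * a ∧ ∀ b ∈ B, 0 ≤ f a b)).length

theorem ncard_fin {N : ℕ} (p : ℕ → Prop) [DecidablePred p] :
    {a : Fin N | p a}.ncard = ((List.range N).filter fun a => decide (p a)).length := by
  rw [← Set.ncard_image_of_injective _ Fin.val_injective, ← List.toFinset_card_of_nodup
    (List.nodup_range.filter _), ← Set.ncard_coe_finset]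
  congr 1
  ext a
  simp [Fin.exists_iff, and_comm]

variable {D : ChevalleyDatum} {h : RtOK D} {f : ℕ → ℕ → ℤ} {S : ℕ → ℕ}

theorem dcert_of (T : Tab h f S) (E : ER (rootSys h)) {B : List (Fin D.nroots)} {M I : ℕ} {V : List ℕ}
    {P : List (ℕ × ℕ)} (H : NDC D.nroots D.rank f S E.θ (B.map (↑)) M I V P) : DCert E B := by
  have hm : ∀ r : Fin D.nroots, (r : ℕ) ∈ B.map (↑) ↔ r ∈ B := fun r => List.mem_map_of_injective Fin.val_injective
  have hg : ∀ r, grB (rootSys h) B r = grN f (B.map (↑)) r := fun r => by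
    simp only [grB, grN, List.map_map, T.ip, Function.comp_def]
  have hc : ∀ r, CmB (rootSys h) B r ↔ ∀ b ∈ B.map (↑), 0 ≤ f r b := fun r => by
    simp only [CmB, List.forall_mem_map, T.ip]
  have ho : ∀ r, OrB (rootSys h) B r ↔ ∀ b ∈ B.map (↑), f r b = 0 := fun r => by
    simp only [OrB, List.forall_mem_map, T.ip]
  have tb : ∀ a : Fin D.nroots, M.testBit a = true → TB (rootSys h) B a := fun a ha => by
    obtain ⟨k1, k2, k3⟩ := H.tb a a.2 ha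
    refine ⟨(pos_val a).2 k1, (hc a).2 k2, k3.symm.imp ?_ ?_⟩
    · rintro ⟨x, hx, k4, k5⟩
      obtain ⟨y, hy⟩ := lac_sub T.lac (a := ⟨x, hx⟩) (r := a) (by rwa [T.ip])
      refine ⟨⟨x, hx⟩, y, (hc _).2 fun b hb => (k5 b hb).1, fun b hb => ?_, hy⟩
      have e1 := hy.ip_left b
      have e2 := (k5 b ((hm b).2 hb)).2
      rw [T.ip a, T.ip ⟨x, hx⟩] at e1
      simp only at e1
      omega
    · rintro ⟨d, hd, k4, k5⟩
      exact ⟨⟨d, hd⟩, (ho _).2 k4, by rwa [T.ip]⟩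
  have sv : ∀ r : Fin D.nroots, SvB (rootSys h) B r → (r : ℕ) ∈ V := fun r hr =>
    (H.svb r r.2 (hg r ▸ hr.1)).resolve_right fun ⟨a, ha, k1, k2⟩ => by
      have := hr.2 ⟨a, ha⟩ (tb _ k1)
      rw [T.ip] at this
      exact k2.not_ge this
  have pb : ∀ p ∈ P, ∃ a a' : Fin D.nroots, (a : ℕ) = p.1 ∧ (a' : ℕ) = p.2 ∧ PB (rootSys h) B a a' :=
      fun p hp => by
    obtain ⟨k1, k2, k3, k4, k5, ⟨b, hb, b', hb', k6, k7, k8, k, hk, k9, k10⟩, d, hd, k11, k12, k13⟩ := H.pb p hp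
    obtain ⟨b, hb0, rfl⟩ := List.mem_map.1 hb
    obtain ⟨b', hb0', rfl⟩ := List.mem_map.1 hb'
    refine ⟨⟨_, k1⟩, ⟨_, k2⟩, rfl, rfl, (pos_val _).2 k3, (pos_val _).2 k4, by rwa [T.ip],
      ⟨b, hb0, b', hb0', ⟨k, hk⟩, (T.radd _ _ _).2 k9, (T.radd _ _ _).2 k10, fun e => k6 (e ▸ rfl),
        fun c hc e => ?_, fun c hc e => ?_⟩, ⟨d, hd⟩, (ho _).2 k11, by rwa [T.ip, T.ip], by rwa [T.ip]⟩
    · rw [T.ip]; exact k7 c ((hm c).2 hc) (Fin.val_ne_of_ne e)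
    · rw [T.ip]; exact k8 c ((hm c).2 hc) (Fin.val_ne_of_ne e)
  have idl : Idl (rootSys h) {r | I.testBit r = true} :=
    ⟨fun r hr => (tb r (H.idl r r.2 hr).1).1, fun r hr a ha k hk => (H.idl r r.2 hr).2 k k.2
      (rootSys_lt_of_isSum h hk.isSum (tb r (H.idl r r.2 hr).1).1 ha) ((T.radd _ _ _).1 hk).2.1⟩
  refine ⟨H.nd.of_map _, fun b hb b' hb' e => ?_, fun e => H.nθ ((hm _).2 e), fun i => ?_,
    fun r s h1 h2 => ?_, ⟨_, idl, lac_gen_of T.lac fun i => ?_, fun a ha => tb a (H.idl a a.2 ha).1⟩,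
    fun r h1 h2 => ?_, fun r hr => ?_, fun b hb b' hb' e => ?_, ?_, ?_, ?_⟩
  · rw [T.ip]; exact H.ort b ((hm b).2 hb) b' ((hm b').2 hb') (Fin.val_ne_of_ne e)
  · rw [hg, T.simple]; exact H.dom i i.2
  · rw [T.ip]; exact H.ab r r.2 (hg r ▸ h1) s s.2 (hg s ▸ h2)
  · obtain ⟨a, ha, k1, k2⟩ := H.gen i i.2
    obtain ⟨k, hk⟩ := T.lac.exists_radd_of_neg (a := (rootSys h).simple i) (b := ⟨a, ha⟩)
      (by rw [T.ip, T.simple, k2]; rfl)
    exact ⟨⟨a, ha⟩, k1, k, idl.2 _ k1 _ ((rootSys h).pos_simple i) k hk.symm, hk⟩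
  · obtain ⟨a, ha, k1, k2⟩ := H.el r r.2 ((pos_val r).1 h1) (hg r ▸ h2)
    exact ⟨⟨a, ha⟩, tb _ k1, by rwa [T.ip]⟩
  · refine (H.sv r (sv r hr)).imp (hm r).1 (Or.imp Fin.ext ?_)
    rintro ⟨p, hp, -, k, hk, k1, k2⟩
    obtain ⟨a, a', e1, e2, k3⟩ := pb p hp
    rw [← e1] at k1
    rw [← e2] at k2
    exact ⟨a, a', ⟨k, hk⟩, k3, (T.radd _ _ _).2 k1, fun s hs => by
      rw [T.radd, T.radd]; exact k2 s (sv s hs)⟩
  · obtain ⟨p, hp, -, -, k, hk, k1, k2, k4⟩ := H.eq b ((hm b).2 hb) b' ((hm b').2 hb') (Fin.val_ne_of_ne e)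
    obtain ⟨a, a', e1, e2, k3⟩ := pb p hp
    rw [← e1] at k1
    rw [← e2] at k2 k4
    exact ⟨a, a', ⟨k, hk⟩, k3, (T.radd _ _ _).2 k1, (T.radd _ _ _).2 k2, fun s hs => by
      rw [T.radd]; exact k4 s (sv s hs)⟩
  · obtain ⟨b, hb, η, hη, k1, k2⟩ := H.eta
    obtain ⟨b, hb0, rfl⟩ := List.mem_map.1 hb
    exact ⟨b, hb0, ⟨η, hη⟩, (T.radd _ _ _).2 k1, fun c hc e => by
      rw [T.ip]; exact k2 c ((hm c).2 hc) (Fin.val_ne_of_ne e)⟩
  · obtain ⟨δ, hδ, k1, k2⟩ := H.del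
    exact ⟨⟨δ, hδ⟩, by rwa [T.ip], (hc _).2 k2⟩
  · rw [NP, ncard_pos_rootSys]
    simp only [pos_val, hc]
    rw [ncard_fin fun a => D.nroots ≤ 2 * a ∧ ∀ b ∈ B.map Fin.val, 0 ≤ f a b]
    exact H.lb

theorem exists_word {C A S T : ℕ} (ht : TablesOK D C A S T) (wd : List ℕ) (hw : ∀ i ∈ wd, i < D.rank) :
    ∃ w ∈ (rootSys h).W, ∀ r : Fin D.nroots, (w r : ℕ) = wd.foldl (fun x i => actT T i x) r := by
  induction wd with
  | nil => exact ⟨1, one_mem _, fun _ => rfl⟩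
  | cons i wd ih =>
    obtain ⟨w, h1, h2⟩ := ih fun j hj => hw j (List.mem_cons_of_mem _ hj)
    have hi := hw i List.mem_cons_self
    refine ⟨w * (rootSys h).s ⟨i, hi⟩, mul_mem h1 ((rootSys h).s_mem_W _), fun r => ?_⟩
    rw [Equiv.Perm.mul_apply, h2, rootSys_s, List.foldl_cons,
      ht.refl_eq (fun j hj => ht.simple_eq j hj ▸ h.root.simple_lt j hj) i hi r r.2]

theorem dcert_word {C A S' T : ℕ} (ht : TablesOK D C A S' T) (T' : Tab h f S) (E : ER (rootSys h)) {θ : ℕ}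
    (hθ : (E.θ : ℕ) = θ) {y B : List ℕ} (wd : List ℕ) {M I : ℕ} {V : List ℕ} {P : List (ℕ × ℕ)}
    (H : NDC D.nroots D.rank f S θ B M I V P) (hy : (∀ a ∈ y, a < D.nroots) ∧ (∀ i ∈ wd, i < D.rank) ∧
      y.map (fun r => wd.foldl (fun x i => actT T i x) r) = B) :
    ∃ y' : List (Fin D.nroots), y'.map (↑) = y ∧ ∃ w ∈ (rootSys h).W, DCert E (y'.map w) := by
  obtain ⟨w, h1, h2⟩ := exists_word (h := h) ht wd hy.2.1
  obtain ⟨y', rfl⟩ : ∃ y' : List (Fin D.nroots), y'.map (↑) = y :=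
    ⟨y.pmap Fin.mk hy.1, by simp [List.map_pmap]⟩
  refine ⟨_, rfl, w, h1, dcert_of T' E (M := M) (I := I) (V := V) (P := P) ?_⟩
  rw [hθ]
  convert H
  rw [← hy.2.2, List.map_map, List.map_map]
  exact List.map_congr_left fun r _ => h2 r

theorem ndc6a : NDC 72 6 (fN 72 tI6) (actT tSE6 0) 71 [63, 70]
    0xffffdfa67000000000
    0xffffd2225000000000
    [63, 70, 71]
    [(53, 46), (46, 53)] := by
  constructor <;> decide +kernel

theorem ndc6b : NDC 72 6 (fN 72 tI6) (actT tSE6 0) 71 [69, 65, 53]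
    0xff6cf76b0000000000
    0xff00e0000000000000
    [53, 65, 69, 71]
    [(39, 44), (39, 60), (44, 39), (44, 60), (60, 39), (60, 44)] := by
  constructor <;> decide +kernel

theorem ndc7a : NDC 126 7 (fN 126 tI7) (actT tSE7 0) 125 [124, 108]
    0x3fffdfffdf67f1ff8000000000000000
    0x3fffdf661f66319b8000000000000000
    [108, 124, 125]
    [(93, 109), (109, 93)] := by
  constructor <;> decide +kernel

theorem ndc7b : NDC 126 7 (fN 126 tI7) (actT tSE7 0) 125 [102, 116, 92]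
    0x3fe7df060a5da3168000000000000000
    0x3fe41000000000000000000000000000
    [92, 102, 116, 122, 124, 125]
    [(95, 64), (93, 71), (87, 78), (71, 93), (78, 87), (64, 95)] := by
  constructor <;> decide +kernel

theorem ndc7c : NDC 126 7 (fN 126 tI7) (actT tSE7 0) 125 [114, 123, 109]
    0x3fffef7faf787c048000000000000000
    0x3fffe000000000000000000000000000
    [109, 114, 123, 125]
    [(87, 73), (87, 92), (73, 87), (73, 92), (92, 87), (92, 73)] := by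
  constructor <;> decide +kernel

theorem ndc7d : NDC 126 7 (fN 126 tI7) (actT tSE7 0) 125 [92, 119, 116, 102]
    0x3fe7df020a5d82040000000000000000
    0x3fe41000000000000000000000000000
    [92, 102, 116, 119, 122, 124, 125]
    [(95, 64), (93, 71), (99, 65), (65, 99), (63, 78), (63, 87), (64, 95), (78, 63), (78, 87), (71, 93), (87, 63), (87, 78)] := by
  constructor <;> decide +kernel

theorem ndc8a : NDC 240 8 (fN 240 tI8) (actT tSE8 0) 239 [238, 227]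
    0xfffffffffffffffffffd5bbdf7deec000000000000000000000000000000
    0xfffffffffffffffffffc0000000000000000000000000000000000000000
    [227, 238, 239]
    [(120, 161), (161, 120)] := by
  constructor <;> decide +kernel

theorem ndc8b : NDC 240 8 (fN 240 tI8) (actT tSE8 0) 239 [161, 228, 237]
    0xfff3ffffeffbecfb31826ddefbef71000000000000000000000000000000
    0xfff3e7320c82008000020000000000000000000000000000000000000000
    [161, 228, 237, 239]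
    [(226, 159), (226, 121), (159, 226), (159, 121), (121, 226), (121, 159)] := by
  constructor <;> decide +kernel

theorem ndc8c : NDC 240 8 (fN 240 tI8) (actT tSE8 0) 239 [226, 206, 224, 213]
    0xfffffffff6c37edf8100367bc08042000000000000000000000000000000
    0xfffffffff000000000000000000000000000000000000000000000000000
    [206, 213, 224, 226, 234, 236, 238, 239]
    [(134, 162), (125, 164), (120, 166), (166, 120), (159, 141), (159, 152), (162, 134), (141, 159), (141, 152), (164, 125), (152, 159), (152, 141)] := by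
  constructor <;> decide +kernel

theorem Mod.dcert {D : ChevalleyDatum} {h : RtOK D} {E : ER (rootSys h)} (hE : Mod D h E)
    {y : List ℕ} (hy : RepE D y) : ∃ y' : List (Fin D.nroots), y'.map (↑) = y ∧
      ∃ w ∈ (rootSys h).W, DCert E (y'.map w) := by
  simp only [RepE, List.mem_cons, List.not_mem_nil, or_false] at hy
  obtain ⟨rfl, rfl | rfl⟩ | ⟨rfl, rfl | rfl | rfl | rfl⟩ | ⟨rfl, rfl | rfl | rfl⟩ := hy
  · exact dcert_word tablesOKE6 (tab6 h) E hE.θ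
      [2, 3] ndc6a
      (by decide +kernel)
  · exact dcert_word tablesOKE6 (tab6 h) E hE.θ
      [0, 2, 0] ndc6b
      (by decide +kernel)
  · exact dcert_word tablesOKE7 (tab7 h) E hE.θ
      [0, 3, 2, 4, 3, 1, 5, 4, 3, 2, 0, 6, 5, 4, 3, 1, 2, 3, 4, 5, 1, 3, 2] ndc7a
      (by decide +kernel)
  · exact dcert_word tablesOKE7 (tab7 h) E hE.θ
      [3, 2, 0, 5, 4, 3, 1, 2, 3, 4, 5, 6, 2, 3] ndc7b
      (by decide +kernel)
  · exact dcert_word tablesOKE7 (tab7 h) E hE.θ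
      [0, 3, 1, 2, 0, 4, 3, 5, 4, 3, 1, 2, 3, 6, 5, 4, 3, 1, 2, 0, 3, 2, 1, 3, 1, 4, 3, 5] ndc7c
      (by decide +kernel)
  · exact dcert_word tablesOKE7 (tab7 h) E hE.θ
      [0, 3, 1, 2, 0, 4, 3, 5, 4, 3, 1, 2, 0, 3, 2, 4, 5, 6, 5, 4, 3, 1, 2, 3] ndc7d
      (by decide +kernel)
  · exact dcert_word tablesOKE8 (tab8 h) E hE.θ
      [1, 3, 4, 5, 6] ndc8a
      (by decide +kernel)
  · exact dcert_word tablesOKE8 (tab8 h) E hE.θ
      [0, 2, 0, 3, 1, 2, 3, 4, 3, 2, 0, 5] ndc8b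
      (by decide +kernel)
  · exact dcert_word tablesOKE8 (tab8 h) E hE.θ
      [2, 3, 2, 4, 3, 5] ndc8c
      (by decide +kernel)

end CfsgLib.SLE
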