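import Mathlib
import Cfsg.Agent.Lib.SLE.Br1
import Cfsg.Agent.Lib.SLE.Pre
import Cfsg.Agent.Lib.SLE.Dce
import Cfsg.Agent.Lib.ChevAut.Main
import Cfsg.Agent.Lib.ChevAut.SymCert
import Cfsg.Agent.Lib.ChevAut.Out
import Cfsg.Agent.Lib.ChevInv.DataA
import Cfsg.Agent.Lib.ChevInv.DataE8

/-!
# Automorphisms and involutions of the models
-/

set_option autoImplicit false

namespace CfsgLib.SLE

open Cfsg.Lie CfsgLib.RGD CfsgLib.Stein CfsgLib.Weyl CfsgLib.Chev Subgroup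
open scoped commutatorElement Pointwise

universe u

variable {D : ChevalleyDatum} [Good D] {h : RtOK D} {E : ER (rootSys h)}
  {K : Type} [Field K] [Finite K] [CharP K 2]

open CfsgLib.ChevAut CfsgLib.ChevInv

theorem br2_eps : ∀ r < chevE6.nroots, epsE6 r = 1 ∨ epsE6 r = -1 := by decide +kernel

theorem Mod.br2_graph (hE : Mod D h E) {g : MulAut (D.group K)} (hg : D.IsGraphAut g) :
    ∃ π : Equiv.Perm (Fin D.nroots), (π = 1 ∨ π = E.γ) ∧
      ∀ (r : Fin D.nroots) (c : K), g (xG D K r c) = xG D K (π r) c := by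
  obtain ⟨π, -, e⟩ := isGraphAut_iff.1 hg
  have h1 : ∀ i j : Fin D.rank, (D.isLong (D.simple j) && !D.isLong (D.simple i)) = false := by
    rcases hE.mem with rfl | rfl | rfl <;> decide +kernel
  have hp : Par g π 1 fun _ => RingHom.id K := fun i t => by
    simpa [ChevalleyDatum.graphExp, h1] using e i t
  have k : (List.range D.rank).map (natP π) = List.range D.rank → ∃ π : Equiv.Perm (Fin D.nroots),
      (π = 1 ∨ π = E.γ) ∧ ∀ (r : Fin D.nroots) (c : K), g (xG D K r c) = xG D K (π r) c := fun e => by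
    obtain rfl := perm_ext_natP (e.trans map_natP_one.symm)
    exact ⟨1, .inl rfl, fun r c => by rw [hp.ext h Par.one]; rfl⟩
  rcases hE.typ with ⟨rfl, hγ⟩ | ⟨rfl | rfl, -⟩
  · have h2 := hp.mem_list h symOK_E6
    simp only [List.mem_cons, List.not_mem_nil, or_false] at h2
    rcases h2 with h2 | h2
    · exact k h2
    obtain ⟨α, hα⟩ := exists_graphE6 (K := K)
    have hα' : ∀ r < chevE6.nroots, ∀ t, α (xG chevE6 K r t) = xG chevE6 K (rhoE6 r) t := fun r hr t => by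
      rw [hα r hr]; rcases br2_eps r hr with e | e <;> simp [e, CharTwo.neg_eq]
    have h3 : ∀ i : Fin chevE6.rank, (π i : ℕ) = [5, 1, 4, 3, 2, 0].getD i 0 := fun i => by
      rw [← h2, ← natP_val]; exact (congrFun (getD_map_natP π) i).symm
    have h4 : ∀ i : Fin chevE6.rank, rhoE6 (chevE6.simple i) = chevE6.simple ([5, 1, 4, 3, 2, 0].getD i 0) ∧
        rhoE6 (chevE6.neg (chevE6.simple i)) = chevE6.neg (chevE6.simple ([5, 1, 4, 3, 2, 0].getD i 0)) ∧
        chevE6.simple i < chevE6.nroots ∧ chevE6.neg (chevE6.simple i) < chevE6.nroots := by decide +kernel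
    refine ⟨E.γ, .inr rfl, fun r c => ?_⟩
    rw [hp.ext h (θ' := α) fun i t => by
      rw [hα' _ (h4 i).2.2.1, hα' _ (h4 i).2.2.2, (h4 i).1, (h4 i).2.1, h3]; simp, hγ, hα' r r.2]
  · exact k (List.mem_singleton.1 (hp.mem_list h symOK_E7))
  · exact k (List.mem_singleton.1 (hp.mem_list h symOK_E8))

theorem Mod.aut_model (hE : Mod D h E) (α : MulAut (D.group K)) :
    ∃ (g : D.group K) (π : Equiv.Perm (Fin D.nroots)) (d : Fin D.nroots → K) (σ : K ≃+* K),
      (π = 1 ∨ π = E.γ) ∧ (∀ r, d r * d ((rootSys h).neg r) = 1) ∧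
      ∀ (r : Fin D.nroots) (c : K), g * α (xG D K r c) * g⁻¹ = xG D K (π r) (d r * σ c) := by
  obtain ⟨L, hL⟩ := exists_symOK (D := D) (by rcases hE.mem with rfl | rfl | rfl <;> simp)
  obtain ⟨x, d, g, f, ⟨χ, hχ, hd⟩, hg, hf, rfl⟩ := exists_decomposition h hL α
  obtain rfl : d = diagAut hχ := MulEquiv.ext fun g => Subtype.ext (Units.ext (hd g))
  obtain ⟨σ, rfl⟩ := isFieldAut_iff'.1 hf
  obtain ⟨π, h1, h2⟩ := hE.br2_graph hg
  refine ⟨x⁻¹, π, fun r => χ (π r), σ, h1, fun r => ?_, fun r c => ?_⟩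
  · have : π ((rootSys h).neg r) = (rootSys h).neg (π r) := by
      rcases h1 with rfl | rfl
      exacts [rfl, E.γn r]
    simp only [this]
    change (χ (π r) : K) * χ (D.neg (π r)) = 1
    rw [hχ.1 _ (π r).2]
    simp
  · simp only [MulAut.mul_apply, groupEquiv_xG', h2, diagAut_xG, MulAut.conj_apply]
    group

omit [Finite K] [CharP K 2] in
theorem br2_wd (hg : GenOK D) (y : List (Fin D.nroots)) :
    wd D K (y.map (↑)) = ((gSys K h hg).xprod y fun _ => 1 : D.group K) := by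
  induction y with
  | nil => rfl
  | cons r y ih => rw [List.map_cons, wd_cons, ih]; rfl

theorem Mod.br2_rep (hE : Mod D h E) {t : GL D.Idx K} (ht : t ∈ D.group K) (h2 : orderOf t = 2) :
    ∃ g ∈ D.group K, ∃ y, ((∃ r : Fin D.nroots, y = [r].map (↑)) ∨ RepE D y) ∧ g * t * g⁻¹ = wd D K y := by
  have := Fintype.ofFinite K
  rcases hE.mem with rfl | rfl | rfl
  · obtain ⟨g, hg, y, hy, e⟩ := (classesE6 K).2 t ht h2
    exact ⟨g, hg, y, (List.mem_cons.1 hy).imp (fun e => ⟨⟨71, by decide⟩, e⟩) fun e => .inl ⟨rfl, e⟩, e⟩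
  · obtain ⟨g, hg, y, hy, e⟩ := (classesE7 K).2 t ht h2
    exact ⟨g, hg, y, (List.mem_cons.1 hy).imp (fun e => ⟨⟨63, by decide⟩, e⟩) fun e => .inr (.inl ⟨rfl, e⟩), e⟩
  · obtain ⟨g, hg, y, hy, e⟩ := (classesE8 K).2 t ht h2
    exact ⟨g, hg, y, (List.mem_cons.1 hy).imp (fun e => ⟨⟨239, by decide⟩, e⟩) fun e => .inr (.inr ⟨rfl, e⟩), e⟩

theorem Mod.dc_model (hE : Mod D h E) (hg : GenOK D) (l : D.group K) (h2 : l * l = 1) (h1 : l ≠ 1) :
    ∃ g, g * l * g⁻¹ = (gSys K h hg).x E.θ 1 ∨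
      ∃ B, DCert E B ∧ g * l * g⁻¹ = (gSys K h hg).xprod B fun _ => 1 := by
  obtain ⟨g, hg', y, hy, e⟩ := hE.br2_rep l.2 (by
    rw [orderOf_coe]; exact orderOf_eq_prime (by rw [sq, h2]) h1)
  have k : ∀ y' : List (Fin D.nroots), y'.map (↑) = y → ∀ w ∈ (rootSys h).W,
      ∃ g, g * l * g⁻¹ = (gSys K h hg).xprod (y'.map w) fun _ => 1 := by
    rintro y' rfl w hw
    obtain ⟨n, -, hn⟩ := exists_exa_of_rel E (S := gSys K h hg) hE.rel_xG hw
    have e1 : (⟨g, hg'⟩ : D.group K) * l * (⟨g, hg'⟩ : D.group K)⁻¹ = (gSys K h hg).xprod y' fun _ => 1 :=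
      Subtype.ext (e.trans (br2_wd hg y'))
    refine ⟨n * ⟨g, hg'⟩, ?_⟩
    rw [show ∀ a : D.group K, n * a * l * (n * a)⁻¹ = n * (a * l * a⁻¹) * n⁻¹ from fun a => by group, e1]
    clear e1 e hy
    induction y' with
    | nil => simp [StSys.xprod]
    | cons r y' ih => rw [List.map_cons, StSys.xprod_cons, StSys.xprod_cons, ← conj_mul, ih, hn]
  rcases hy with ⟨r, rfl⟩ | hy
  · obtain ⟨w, hw, e1⟩ := E.exists_θ r
    obtain ⟨g, e2⟩ := k [r] rfl w⁻¹ (inv_mem hw)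
    exact ⟨g, .inl (by simpa [StSys.xprod, ← e1] using e2)⟩
  · obtain ⟨y', h3, w, hw, h4⟩ := hE.dcert hy
    obtain ⟨g, e2⟩ := k y' h3 w hw
    exact ⟨g, .inr ⟨_, h4, e2⟩⟩

end CfsgLib.SLE
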