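import Mathlib
import Cfsg.Agent.Lib.SLE.Br1
import Cfsg.Agent.Lib.ChevFold.F4
import Cfsg.Agent.Lib.ChevInv.DataA
import Cfsg.Agent.Lib.ChevInv.CentF4

/-!
# Centralisers of involutions in the fixed points of the graph automorphism
-/

set_option autoImplicit false

namespace CfsgLib.SLE

open Cfsg.Lie CfsgLib.RGD CfsgLib.Stein CfsgLib.Weyl CfsgLib.Chev Subgroup
open scoped commutatorElement Pointwise

universe u

variable {K : Type} [Field K] [Finite K] [CharP K 2]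

open CfsgLib.ChevFold CfsgLib.ChevInv

theorem lbg_W : ∀ r < chevF4.nroots, ∃ a < chevE6.nroots,
    (rhoE6 a = a ∧ (f4W r = [(a, 1)] ∨ f4W r = [(a, -1)])) ∨
    (rhoE6 a ≠ a ∧ (f4W r = [(a, 1), (rhoE6 a, 1)] ∨ f4W r = [(a, 1), (rhoE6 a, -1)])) := by
  decide +kernel

theorem lbg_W' : ∀ a < chevE6.nroots, rhoE6 a = a →
    ∃ r < chevF4.nroots, f4W r = [(a, 1)] ∨ f4W r = [(a, -1)] := by decide +kernel

omit [Finite K] in
theorem lbg_one {r a : ℕ} (e : f4W r = [(a, 1)] ∨ f4W r = [(a, -1)]) (t : K) :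
    f4y K r t = xU chevE6 K a t := by
  rcases e with e | e <;> simp [f4y, fold, e, wordG, CharTwo.neg_eq]

omit [Finite K] in
theorem lbg_two {r a b : ℕ} (e : f4W r = [(a, 1), (b, 1)] ∨ f4W r = [(a, 1), (b, -1)]) (t : K) :
    f4y K r t = xU chevE6 K a t * xU chevE6 K b t := by
  rcases e with e | e <;> simp [f4y, fold, e, wordG, CharTwo.neg_eq]

theorem lbg_card {ι κ : Type} [Fintype κ] [DecidableEq κ] [Finite ι] {Φ : RootSys ι κ} {F G : Type*} [Field F]
    [Group G] [Finite G] {S : StSys Φ F G} (hS : S.Nondeg) {L : List ι} (hL : L.Nodup) (hp : ∀ r ∈ L, Φ.Pos r) :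
    Nat.card F ^ L.length ≤ Nat.card (S.UU {k | k ∈ L}) := by
  classical
  rw [← List.toFinset_card_of_nodup hL, ← Fintype.card_coe, ← Nat.card_eq_fintype_card, ← Nat.card_fun]
  refine Nat.card_le_card_of_injective (fun t : L.toFinset → F => (⟨S.xprod L fun r =>
    if h : r ∈ L.toFinset then t ⟨r, h⟩ else 0, S.xprod_mem_UU (fun _ h => h) _⟩ : S.UU {k | k ∈ L}))
    fun t t' e => funext fun ⟨r, hr⟩ => ?_
  simpa only [dif_pos hr] using hS.xprod_inj hL hp (congrArg Subtype.val e) r (List.mem_toFinset.1 hr)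

/-- twenty positive roots of `F₄` -/
def lbgL : List (Fin chevF4.nroots) :=
  (List.finRange chevF4.nroots).filter fun k => 24 ≤ k.1 ∧ k.1 ∉ [27, 25, 34, 26]

theorem lbg_L : lbgL.Nodup ∧ lbgL.length = 20 ∧ ∀ k ∈ lbgL, chevF4.nroots ≤ 2 * k ∧
    ∀ y ∈ [[47], [44], [47, 44], [39, 45]], ∀ s ∈ y, s < chevF4.nroots ∧ s ≠ chevF4.neg k ∧
      ∀ c ∈ chevF4.commTerms k s, 2 ∣ c.2.1 := by decide +kernel

theorem lbg_f4 {v : chevF4.group K} (h2 : v * v = 1) : ∃ P : Subgroup (chevF4.group K),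
    IsPGroup 2 P ∧ P ≤ centralizer {v} ∧ Nat.card K ^ 20 ≤ Nat.card P := by
  classical
  let S := gSys K rtOKF4 genOKF4
  have hS : S.Nondeg := gSys_nondeg _ _
  have hp : ∀ k ∈ lbgL, (rootSys rtOKF4).Pos k := fun k hk => (Twist.pos_iff_le _).2 (lbg_L.2.2 k hk).1
  obtain ⟨g, hg⟩ : ∃ g, S.UU {k | k ∈ lbgL} ≤ centralizer {g * v * g⁻¹} := by
    by_cases h1 : v = 1
    · exact ⟨1, fun u _ => mem_centralizer_singleton_iff.2 (by simp [h1])⟩
    have := Fintype.ofFinite K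
    obtain ⟨g, hg, y, hy, e⟩ := (classesF4 K).2 v v.2 (by
      rw [orderOf_coe]; exact orderOf_eq_prime (by rw [sq, h2]) h1)
    refine ⟨⟨g, hg⟩, S.UU_le_iff.2 fun k hk t => mem_centralizer_singleton_iff.2 (Subtype.ext ?_)⟩
    change xU chevF4 K k t * (g * v * g⁻¹) = g * v * g⁻¹ * xU chevF4 K k t
    have h3 := (lbg_L.2.2 k hk).2 y hy
    rw [e]
    clear e hy
    refine Commute.eq ?_
    induction y with
    | nil => exact Commute.one_right _
    | cons s y ih =>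
      obtain ⟨⟨h4, h5, h6⟩, h7⟩ := List.forall_mem_cons.1 h3
      exact (Twist.commute_of_commTerms k.2 h4 h5
        (fun c hc => (CharP.intCast_eq_zero_iff K 2 _).2 (h6 c hc)) t 1).mul_right (ih h7)
  refine ⟨(S.UU {k | k ∈ lbgL}).map (MulAut.conj g⁻¹).toMonoidHom,
    ((St.isPGroup_UU hS 2 (rootSys rtOKF4).closed_pos fun _ h => h).to_le (S.UU_mono hp)).map _, ?_, ?_⟩
  · rintro _ ⟨u, hu, rfl⟩
    have := mem_centralizer_singleton_iff.1 (hg hu)
    refine mem_centralizer_singleton_iff.2 ?_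
    calc g⁻¹ * u * g⁻¹⁻¹ * v = g⁻¹ * (u * (g * v * g⁻¹)) * g := by group
      _ = v * (g⁻¹ * u * g⁻¹⁻¹) := by rw [this]; group
  · rw [card_map_of_injective (MulAut.conj g⁻¹).injective, ← lbg_L.2.1]
    exact lbg_card hS lbg_L.1 hp

theorem lbg_model {h : RtOK chevE6} {E : ER (rootSys h)} (hE : Mod chevE6 h E) (hg : GenOK chevE6)
    {v : chevE6.group K} (hv : v ∈ (gSys K h hg).UU {r | (rootSys h).Pos r ∧ E.γ r = r})
    (h2 : v * v = 1) : ∃ P ≤ twG (gSys K h hg) E.γ (fun _ => 1) (RingEquiv.refl K) Set.univ,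
      IsPGroup 2 P ∧ P ≤ centralizer {v} ∧ Nat.card K ^ 40 ≤ Nat.card P ^ 2 := by
  have hγ : ∀ r, (E.γ r : ℕ) = rhoE6 r := by
    rcases hE.typ with e | ⟨e | e, -⟩
    · exact e.2
    · exact absurd (congrArg ChevalleyDatum.rank e) (by decide)
    · exact absurd (congrArg ChevalleyDatum.rank e) (by decide)
  obtain ⟨φ, h3, -, h4⟩ := exists_f4Hom (F := K)
  set T := twG (gSys K h hg) E.γ (fun _ => 1) (RingEquiv.refl K) Set.univ
  have h5 : ∀ g, φ g ∈ T.map (chevE6.group K).subtype := fun g => by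
    have : (⊤ : Subgroup (chevF4.group K)) ≤ (T.map (chevE6.group K).subtype).comap φ := by
      rw [← UUx_xG_eq_top]
      refine (closure_le _).2 ?_
      rintro _ ⟨r, -, t, rfl⟩
      rw [SetLike.mem_coe, mem_comap]
      obtain ⟨a, ha, e | e⟩ := lbg_W r r.2
      · rw [h4 r r.2, lbg_one e.2]
        exact ⟨_, subset_closure ⟨⟨a, ha⟩, trivial, t, .inl ⟨Fin.ext ((hγ _).trans e.1), one_mul _, rfl⟩⟩, rfl⟩
      · rw [h4 r r.2, lbg_two e.2]
        refine ⟨_, subset_closure ⟨⟨a, ha⟩, trivial, t,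
          .inr ⟨fun e' => e.1 ((hγ _).symm.trans (congrArg Fin.val e')), rfl⟩⟩, ?_⟩
        change xU chevE6 K a t * xU chevE6 K (E.γ ⟨a, ha⟩) (1 * t) = _
        rw [hγ, one_mul]
    exact this trivial
  let ψ := φ.codRestrict (chevE6.group K) fun g => map_subtype_le T (h5 g)
  have h6 : Function.Injective ψ := fun _ _ e => h3 (congrArg Subtype.val e)
  obtain ⟨v, rfl⟩ : v ∈ ψ.range := by
    refine (gSys K h hg).UU_le_iff.2 (fun a ha t => ?_) hv
    obtain ⟨r, hr, e⟩ := lbg_W' a a.2 ((hγ a).symm.trans (congrArg Fin.val ha.2))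
    exact ⟨xG chevF4 K r t, Subtype.ext ((h4 r hr t).trans (lbg_one e t))⟩
  obtain ⟨P, h7, h8, h9⟩ := lbg_f4 (v := v) (h6 (by rw [map_mul, h2, map_one]))
  refine ⟨P.map ψ, ?_, h7.map _, ?_, ?_⟩
  · rintro _ ⟨u, -, rfl⟩
    obtain ⟨w, hw, e⟩ := h5 u
    exact (Subtype.ext e : w = ψ u) ▸ hw
  · rintro _ ⟨u, hu, rfl⟩
    exact mem_centralizer_singleton_iff.2 (by
      rw [← map_mul, ← map_mul, mem_centralizer_singleton_iff.1 (h8 hu)])
  · rw [card_map_of_injective h6, show 40 = 20 * 2 from rfl, pow_mul]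
    exact Nat.pow_le_pow_left h9 2

end CfsgLib.SLE
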