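import Mathlib
import Cfsg.Agent.Lib.SLE.Br2
import Cfsg.Agent.Lib.SLE.Lbg
import Cfsg.Agent.Lib.PLocal.Constrained

/-!
# The kit
-/

set_option autoImplicit false
set_option linter.unusedSectionVars false

namespace CfsgLib.SLE

open Cfsg.Lie CfsgLib.RGD CfsgLib.Stein CfsgLib.Weyl CfsgLib.Chev Subgroup
open scoped commutatorElement Pointwise

universe u

namespace Br3

theorem desc {A B : Type*} [Group A] [Group B] {θ : A →* B} (su : Function.Surjective θ) (φ : MulAut A)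
    (hk : ∀ z, θ (φ z) = 1 ↔ θ z = 1) : ∃ α : MulAut B, ∀ z, α (θ z) = θ (φ z) := by
  obtain ⟨f, hf⟩ : ∃ f : B →* B, ∀ z, f (θ z) = θ (φ z) :=
    ⟨θ.liftOfSurjective su ⟨θ.comp φ.toMonoidHom, fun z k => (hk z).2 k⟩, fun z =>
      MonoidHom.liftOfRightInverse_comp_apply _ _ _ _ _⟩
  refine ⟨MulEquiv.ofBijective f ⟨(injective_iff_map_eq_one f).2 fun b k => ?_, fun b => ?_⟩, hf⟩
  · obtain ⟨z, rfl⟩ := su b
    exact (hk z).1 (hf z ▸ k)
  · obtain ⟨z, rfl⟩ := su b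
    exact ⟨θ (φ.symm z), by rw [hf, MulEquiv.apply_symm_apply]⟩

variable {ι κ : Type} [Fintype κ] [DecidableEq κ] {Φ : RootSys ι κ} {F : Type} [Field F]
  {G G₀ : Type*} [Group G] [Group G₀]

theorem map_xprod {S : StSys Φ F G} {S₀ : StSys Φ F G₀} (f : G →* G₀) (hf : ∀ r t, f (S.x r t) = S₀.x r t)
    (L : List ι) (t : ι → F) : f (S.xprod L t) = S₀.xprod L t := by
  simp only [StSys.xprod, map_list_prod, List.map_map, Function.comp_def, hf]

end Br3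

section

variable {ι κ : Type} [Fintype κ] [DecidableEq κ] {Φ : RootSys ι κ} {F : Type} [Field F]
  {G : Type u} [Group G]

theorem Br3.xprod_sq [Finite ι] [Finite F] [Finite G] [CharP F 2] {S : StSys Φ F G} (rel : Rel Φ S.x) {L : List ι}
    (hL : ∀ a ∈ L, ∀ b ∈ L, 0 ≤ ip Φ a b) (t : ι → F) : S.xprod L t * S.xprod L t = 1 := by
  induction L with
  | nil => simp [StSys.xprod]
  | cons r L ih =>
    have c : Commute (S.x r (t r)) (S.xprod L t) := Commute.list_prod_right _ _ fun x hx => by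
      obtain ⟨b, hb, rfl⟩ := List.mem_map.1 hx
      exact rel.com _ _ (hL _ List.mem_cons_self _ (List.mem_cons_of_mem _ hb)) _ _
    rw [StSys.xprod_cons, ← sq, c.mul_pow, sq, sq, Pre.y_sq rel, one_mul]
    exact ih fun a ha b hb => hL _ (List.mem_cons_of_mem _ ha) _ (List.mem_cons_of_mem _ hb)

end

theorem twG_map {ι κ : Type} [Fintype κ] [DecidableEq κ] {Φ : RootSys ι κ} {F : Type} [Field F]
    {G G₀ : Type*} [Group G] [Group G₀] {S : StSys Φ F G} {S₀ : StSys Φ F G₀} (f : G →* G₀)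
    (hf : ∀ r t, f (S.x r t) = S₀.x r t) (π : Equiv.Perm ι) (d : ι → F) (σ : F ≃+* F) (Ψ : Set ι) :
    (twG S π d σ Ψ).map f = twG S₀ π d σ Ψ := by
  rw [twG, MonoidHom.map_closure, twG]
  congr 1
  ext g
  constructor
  · rintro ⟨_, ⟨r, hr, c, ⟨h1, h2, rfl⟩ | ⟨h1, rfl⟩⟩, rfl⟩
    exacts [⟨r, hr, c, .inl ⟨h1, h2, hf _ _⟩⟩, ⟨r, hr, c, .inr ⟨h1, by rw [map_mul, hf, hf]⟩⟩]
  · rintro ⟨r, hr, c, ⟨h1, h2, rfl⟩ | ⟨h1, rfl⟩⟩
    exacts [⟨_, ⟨r, hr, c, .inl ⟨h1, h2, rfl⟩⟩, hf _ _⟩,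
      ⟨_, ⟨r, hr, c, .inr ⟨h1, rfl⟩⟩, by rw [map_mul, hf, hf]⟩]

variable {D : ChevalleyDatum} [Good D] {h : RtOK D} {E : ER (rootSys h)}
  {K : Type} [Field K] [Finite K] [CharP K 2] {G : Type u} [Group G] [Finite G]
  {S : StSys (rootSys h) K G} {θ : S.grp →* D.group K}

/-- elements of order at most two are determined by their images -/
theorem Cov.eq_of_sq (C : Cov D h S θ) {a b : S.grp} (ha : a * a = 1) (hb : b * b = 1)
    (e : θ a = θ b) : a = b := by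
  have k : θ (b⁻¹ * a) = 1 := by rw [map_mul, map_inv, e, inv_mul_cancel]
  have c : b * (b⁻¹ * a) = b⁻¹ * a * b := Subtype.ext ((C.ker _).1 k _ b.2)
  have e2 : (b⁻¹ * a) ^ 2 = 1 := by
    rw [inv_eq_of_mul_eq_one_right hb] at c ⊢
    calc (b * a) ^ 2 = b * a * b * a := by rw [sq, ← mul_assoc]
      _ = 1 := by rw [← c, ← mul_assoc b b, hb, one_mul, ha]
  have := ((Nat.dvd_prime Nat.prime_two).1 (orderOf_dvd_of_pow_eq_one e2)).resolve_right fun e' => by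
    have := C.odd _ k
    rw [e'] at this
    exact absurd this (by decide)
  exact (inv_mul_eq_one.1 (orderOf_eq_one_iff.1 this)).symm

theorem Cov.sub_sq (C : Cov D h S θ) (r : Fin D.nroots) (c : K) : (sub S).x r c * (sub S).x r c = 1 :=
  Subtype.ext (Pre.y_sq C.rel r c)

theorem Cov.aut (C : Cov D h S θ) (hE : Mod D h E) {g : G} (hg : g ∈ NL S) :
    ∃ π σ, (π = 1 ∨ π = E.γ) ∧ Typ S g π σ := by
  obtain ⟨φ, hφ⟩ : ∃ φ : MulAut S.grp, ∀ z, (φ z : G) = g * z * g⁻¹ :=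
    ⟨S.grp.normalizerMonoidHom ⟨g, hg⟩, fun z => rfl⟩
  obtain ⟨α, hα⟩ := Br3.desc C.surj φ fun z => by
    rw [C.ker, C.ker, hφ]
    refine ⟨fun k y hy => ?_, fun k y hy => ?_⟩
    · have := k _ ((mem_normalizer_iff.1 hg y).1 hy)
      calc y * z = g⁻¹ * (g * y * g⁻¹ * (g * z * g⁻¹)) * g := by group
        _ = _ := by rw [this]; group
    · have := k _ ((mem_normalizer_iff''.1 hg y).1 hy)
      calc y * (g * z * g⁻¹) = g * (g⁻¹ * y * g * z) * g⁻¹ := by group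
        _ = _ := by rw [this]; group
  obtain ⟨g₀, π, d, σ, h1, h2, h3⟩ := hE.aut_model α
  obtain ⟨l, rfl⟩ := C.surj g₀
  refine ⟨π, σ, h1, l, l.2, d, h2, fun r c => ?_⟩
  have := C.eq_of_sq (a := l * φ ((sub S).x r c) * l⁻¹) (b := (sub S).x (π r) (d r * σ c))
    (by rw [conj_mul, ← map_mul, C.sub_sq, map_one, mul_one, mul_inv_cancel]) (C.sub_sq _ _)
    (by rw [map_mul, map_mul, map_inv, ← hα]; exact (congrArg (fun x => θ l * α x * (θ l)⁻¹) (C.map r c)).trans ((h3 r c).trans (C.map _ _).symm))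
  have := congrArg Subtype.val this
  rw [coe_mul, coe_mul, hφ] at this
  rw [← show (l : G) * (g * S.x r c * g⁻¹) * (l : G)⁻¹ = S.x (π r) (d r * σ c) from this]
  group

theorem Cov.simp (C : Cov D h S θ) (hE : Mod D h E) {M : Subgroup G} (h1 : M ≤ S.grp)
    (h2 : S.grp ≤ normalizer (M : Set G)) : M ≤ CL S ∨ M = S.grp := by
  have := hE.simple (K := K)
  have n : (M.subgroupOf S.grp).Normal := ⟨fun m hm g => (mem_normalizer_iff.1 (h2 g.2) m).1 hm⟩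
  refine (n.map θ C.surj).eq_bot_or_eq_top.imp (fun k m hm => ?_) fun k => h1.antisymm ?_
  · exact (C.ker ⟨m, h1 hm⟩).1 ((Subgroup.map_eq_bot_iff _).1 k hm)
  refine (closure_le _).2 ?_
  rintro _ ⟨r, -, c, rfl⟩
  obtain ⟨a, b, hr⟩ := E.exists_radd r
  obtain ⟨m, hm, e⟩ := k.ge (mem_top (θ ((sub S).x a c)))
  have e2 := (C.ker (m⁻¹ * (sub S).x a c)).1 (by rw [map_mul, map_inv, e, inv_mul_cancel]) _ (S.x_mem_grp b 1)
  have e3 : S.x r c = m * (S.x b 1 * (m : G)⁻¹ * (S.x b 1)⁻¹) := by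
    rw [← mul_one c, ← C.rel.cm a b r hr]
    calc S.x a c * S.x b 1 * (S.x a c)⁻¹ * (S.x b 1)⁻¹
        = m * ((m : G)⁻¹ * S.x a c * S.x b 1) * (S.x a c)⁻¹ * (S.x b 1)⁻¹ := by group
      _ = m * (S.x b 1 * ((m : G)⁻¹ * S.x a c)) * (S.x a c)⁻¹ * (S.x b 1)⁻¹ :=
        congrArg (fun x => (m : G) * x * (S.x a c)⁻¹ * (S.x b 1)⁻¹) e2.symm
      _ = _ := by group
  rw [SetLike.mem_coe, e3]
  exact M.mul_mem hm ((mem_normalizer_iff.1 (h2 (S.x_mem_grp b 1)) _).1 (M.inv_mem hm))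

theorem Cov.dc (C : Cov D h S θ) (hE : Mod D h E) {l : G} (hl : l ∈ S.grp) (h2 : l * l = 1)
    (h1 : l ≠ 1) : ∃ g ∈ S.grp, g * l * g⁻¹ = S.x E.θ 1 ∨
      ∃ B, DCert E B ∧ g * l * g⁻¹ = S.xprod B fun _ => 1 := by
  have h2' : (⟨l, hl⟩ : S.grp) * ⟨l, hl⟩ = 1 := Subtype.ext h2
  obtain ⟨g₀, k⟩ := hE.dc_model hE.genOK (θ ⟨l, hl⟩) (by rw [← map_mul, h2', map_one]) fun e =>
    h1 (congrArg Subtype.val (C.eq_of_sq h2' (mul_one 1) (e.trans θ.map_one.symm)))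
  obtain ⟨g, rfl⟩ := C.surj g₀
  have c : g * ⟨l, hl⟩ * g⁻¹ * (g * ⟨l, hl⟩ * g⁻¹) = 1 := by rw [conj_mul, h2', mul_one, mul_inv_cancel]
  rw [← map_inv, ← map_mul, ← map_mul] at k
  refine ⟨g, g.2, k.imp (fun k => ?_) fun ⟨B, hB, k⟩ => ⟨B, hB, ?_⟩⟩
  · exact congrArg Subtype.val (C.eq_of_sq c (C.sub_sq E.θ 1) (k.trans (C.map _ _).symm))
  · have e := Br3.map_xprod S.grp.subtype (sub_map S) B fun _ => 1
    rw [← e]
    refine congrArg Subtype.val (C.eq_of_sq c (Subtype.ext ?_)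
      (k.trans (Br3.map_xprod (S := sub S) (S₀ := gSys K h hE.genOK) θ C.map B _).symm))
    refine (congrArg₂ (· * ·) e e).trans (Br3.xprod_sq C.rel (fun a ha b hb => ?_) _)
    by_cases e : a = b
    · rw [e, E.ip_self]; decide
    · exact (hB.ort a ha b hb e).ge

theorem Cov.lbg_one (C : Cov D h S θ) (hE : Mod D h E) (hγ : E.γ ≠ 1) {v : G}
    (hv : v ∈ S.UU {r | (rootSys h).Pos r ∧ E.γ r = r}) (h2 : v * v = 1) :
    ∃ P ≤ twG S E.γ (fun _ => 1) (RingEquiv.refl K) Set.univ, IsPGroup 2 P ∧ P ≤ centralizer {v} ∧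
      Nat.card K ^ (NP (rootSys h) + 3) ≤ Nat.card P ^ 2 := by
  obtain rfl : D = chevE6 := (hE.typ.resolve_right fun e => hγ e.2).1
  have hθ : ∀ r c, θ ((sub S).x r c) = (gSys K h hE.genOK).x r c := C.map
  obtain ⟨w, hw, rfl⟩ := (map_UU _ (sub_map S) _).ge hv
  have w2 : w * w = 1 := Subtype.ext h2
  obtain ⟨P₀, h3, h4, h5, h6⟩ := lbg_model hE hE.genOK (map_UU θ hθ _ ▸ mem_map_of_mem θ hw)
    (by rw [← map_mul, w2, map_one])
  rw [← twG_map θ hθ] at h3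
  rw [← twG_map _ (sub_map S)]
  generalize twG (sub S) E.γ (fun _ => 1) (RingEquiv.refl K) Set.univ = T at h3
  have : Fact (Nat.Prime 2) := ⟨Nat.prime_two⟩
  obtain ⟨P, p1, p2⟩ := PLocal.Constr.exists_isPGroup_map_eq (θ.subgroupMap_surjective T)
    (h4.comap_subtype (K := T.map θ))
  refine ⟨(P.map T.subtype).map S.grp.subtype, map_mono (map_subtype_le _), (p1.map _).map _, ?_, ?_⟩
  · rintro _ ⟨_, ⟨p, hp, rfl⟩, rfl⟩
    have e := mem_centralizer_singleton_iff.1 (h5 (p2.le (mem_map_of_mem _ hp)))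
    have := C.eq_of_sq (a := p * w * (p : S.grp)⁻¹) (by rw [conj_mul, w2, mul_one, mul_inv_cancel]) w2
      (by rw [map_mul, map_mul, map_inv, mul_inv_eq_iff_eq_mul]; exact e)
    exact mem_centralizer_singleton_iff.2 (congrArg Subtype.val (mul_inv_eq_iff_eq_mul.1 this))
  · rw [card_map_of_injective (subtype_injective _), card_map_of_injective (subtype_injective _)]
    have e : Nat.card P₀ ≤ Nat.card P := by
      rw [← Nat.card_congr (subgroupOfEquivOfLe h3).toEquiv, show P₀.subgroupOf _ = _ from p2.symm]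
      exact Nat.le_of_dvd Nat.card_pos (card_map_dvd _ _)
    refine le_trans (Nat.pow_le_pow_right Nat.card_pos ?_) (h6.trans (Nat.pow_le_pow_left e 2))
    rw [NP, ncard_pos_rootSys]
    decide

theorem Cov.amb (C : Cov D h S θ) (hE : Mod D h E) : Amb E S := by
  refine ⟨C.nd, C.rel, C.r3, fun _ => C.aut hE, fun _ => C.simp hE, linf_of_rel E C.nd C.rel,
    fun _ => C.dc hE, fun hγ d h1 h2 h3 v hv v2 => ?_⟩
  obtain ⟨s, s1, s2, s3⟩ : ∃ s : Fin D.nroots → K, (∀ r, s r * s r = d r) ∧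
      (∀ a b r, RAdd (rootSys h) a b r → s r = s a * s b) ∧ ∀ r, s (E.γ r) * s r = 1 :=
    ⟨fun r => (frobeniusEquiv K 2).symm (d r), fun r => by
      rw [← sq]; exact (frobeniusEquiv K 2).apply_symm_apply _,
      fun a b r k => by simp only [h1 a b r k, map_mul], fun r => by rw [← map_mul, h3, map_one]⟩
  have s0 : ∀ r, s r ≠ 0 := fun r => right_ne_zero_of_mul_eq_one (s3 r)
  obtain ⟨S', e, θ', C'⟩ := hE.exists_cov (y := fun r c => S.x r ((s r)⁻¹ * c))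
    ⟨fun r u v => by rw [mul_add, S.x_add], fun a b r k u v => by
      rw [C.rel.cm a b r k, s2 a b r k, mul_inv, mul_mul_mul_comm], fun a b k u v => C.rel.com a b k _ _⟩
    ⟨E.θ, s E.θ, fun k => one_ne_zero ((inv_mul_cancel₀ (s0 _)).symm.trans (C.nd.eq_zero_of_x_eq_one k))⟩
  obtain ⟨P, p1, p2⟩ := C'.lbg_one hE hγ (v := v) (closure_mono (by
    rintro _ ⟨r, hr, c, rfl⟩
    exact ⟨r, hr, s r * c, by rw [e]; simp only [inv_mul_cancel_left₀ (s0 r)]⟩) hv) v2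
  refine ⟨P, p1.trans (closure_mono ?_), p2⟩
  rintro _ ⟨r, hr, c, ⟨k1, -, rfl⟩ | ⟨k1, rfl⟩⟩
  · refine ⟨r, hr, (s r)⁻¹ * c, .inl ⟨k1, ?_, by rw [e]⟩⟩
    have := s3 r
    rw [k1, s1] at this
    rw [this, one_mul, RingEquiv.refl_apply]
  · refine ⟨r, hr, (s r)⁻¹ * c, .inr ⟨k1, ?_⟩⟩
    rw [e, ← s1, RingEquiv.refl_apply, RingEquiv.refl_apply, one_mul, mul_assoc, mul_inv_cancel_left₀ (s0 r)]
    simp only [inv_eq_of_mul_eq_one_right (s3 r)]

theorem Mod.kit (hE : Mod D h E) : Kit.{u} E := fun _ _ _ _ _ _ _ _ hy h1 => by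
  obtain ⟨S, e, θ, C⟩ := hE.exists_cov hy h1
  exact ⟨S, e, C.amb hE⟩

end CfsgLib.SLE
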