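import Mathlib
import Cfsg.Agent.Lib.SLE.Hat1

/-!
# The commutator relations between hats
-/

set_option autoImplicit false
set_option linter.unusedSectionVars false

namespace CfsgLib.SLE

open CfsgLib.RGD CfsgLib.Stein Subgroup
open scoped commutatorElement Pointwise

universe u

variable {ι κ : Type} [Fintype κ] [DecidableEq κ] [Finite ι] {Φ : RootSys ι κ} {E : ER Φ}
  {F : Type} [Field F] [Finite F] [CharP F 2] {G : Type u} [Group G] [Finite G]
  {S : StSys Φ F G}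

theorem ht2_inv {a : G} (ha : a * a = 1) : a⁻¹ = a := inv_eq_of_mul_eq_one_right ha

theorem ht2_comm {a b : G} (ha : a * a = 1) (hb : b * b = 1) (hab : a * b * (a * b) = 1) :
    a * b = b * a := by
  rw [← ht2_inv hab, mul_inv_rev, ht2_inv ha, ht2_inv hb]

theorem ht2_odd {o : G} (ho : Odd (orderOf o)) (h : o * o = 1) : o = 1 := by
  have h1 : orderOf o ∣ 2 := orderOf_dvd_of_pow_eq_one (by rw [pow_two, h])
  rcases (Nat.dvd_prime Nat.prime_two).1 h1 with h2 | h2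
  · exact orderOf_eq_one_iff.1 h2
  · rw [h2] at ho; exact absurd ho (by decide)

theorem ht2_conj {g x : G} (h : g * x = x * g) : g * x * g⁻¹ = x := by
  rw [h, mul_inv_cancel_right]

theorem ht2_of_conj {g x : G} (h : g * x * g⁻¹ = x) : g * x = x * g := by
  rw [← mul_inv_eq_iff_eq_mul]; exact h

namespace Hats

variable {t : G} {Z : ι → Subgroup G} (h : Hats E S t Z)
include h

theorem ovr {r : ι} {g : G} (hg : g ∈ Z r) : ∃ c, g * t * g⁻¹ = t * S.x r c :=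
  ((h.mem r g).1 hg).2.2.1

theorem xZ (r : ι) (c : F) : S.x r c ∈ Z r := h.X_le r (S.x_mem_X r c)

theorem xt2 (r : ι) (c : F) : S.x r c * t = t * S.x r c := h.toSit.com (S.x_mem_grp r c)

theorem ovr_eq {r : ι} {g g' : G} (hg : g ∈ Z r) (hg' : g' ∈ Z r)
    (e : g * t * g⁻¹ = g' * t * g'⁻¹) : ∃ c, g = g' * S.x r c := by
  have h1 : g'⁻¹ * g ∈ S.X r := h.ker r _ (mul_mem (inv_mem hg') hg) (by
    have : g * t = g' * t * g'⁻¹ * g := by rw [← e]; group
    rw [mul_assoc, this]; group)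
  obtain ⟨c, hc⟩ := S.mem_X_iff.1 h1
  exact ⟨c, by rw [← hc]; group⟩

theorem ovr_zero {r : ι} {g : G} (hg : g ∈ Z r) (e : g * t * g⁻¹ = t * S.x r 0) : g ∈ S.X r :=
  h.ker r g hg (ht2_of_conj (by rw [e, S.x_zero, mul_one]))

/-- a hat commutes with its commutators -/
theorem com_cx2 {a b r : ι} (hr : RAdd Φ a b r) {g : G} (hg : g ∈ Z a) (u : F) :
    g * (g * S.x b u * g⁻¹ * (S.x b u)⁻¹) = g * S.x b u * g⁻¹ * (S.x b u)⁻¹ * g := by
  have g2 := h.sq hg
  refine ht2_comm g2 (h.sq (h.cx a b r hr g hg u)) ?_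
  have e : g * (g * S.x b u * g⁻¹ * (S.x b u)⁻¹) = S.x b u * g⁻¹ * (S.x b u)⁻¹ := by
    simp only [← mul_assoc, g2, one_mul]
  rw [e, conj_mul, ← mul_inv_rev, g2]
  group

theorem h2 {a r : ι} (hr : ip Φ a r = 1) {g k : G} (hg : g ∈ Z a) (hk : k ∈ Z r) :
    g * k = k * g := by
  obtain ⟨b, hb⟩ := E.exists_sub hr
  obtain ⟨c, hc⟩ := h.ovr hg
  by_cases c0 : c = 0
  · subst c0
    obtain ⟨e, rfl⟩ := S.mem_X_iff.1 (h.ovr_zero hg hc)
    exact (h.com_x (by omega) hk e).symm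
  obtain ⟨c', hc'⟩ := h.ovr hk
  have h1 := h.cx_t hb hg hc (c' / c)
  rw [div_mul_cancel₀ _ c0, ← hc'] at h1
  obtain ⟨e, rfl⟩ := h.ovr_eq hk (h.cx a b r hb g hg _) h1.symm
  exact Commute.mul_right (h.com_cx2 hb hg _) (h.com_x (by rw [ip_comm]; omega) hg e)

theorem ht2_dec {k : G} (hk : k ∈ CL S) (ht : k * t = t * k) :
    ∃ o ∈ CL S, o * t = t * o ∧ Odd (orderOf o) ∧ (k = o ∨ k = o * t) := by
  rcases h.toSit.odd_or h.two hk ht with h1 | h1
  · exact ⟨k, hk, ht, h1, Or.inl rfl⟩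
  · refine ⟨k * t, mul_mem hk h.tC, by rw [mul_assoc, ← mul_assoc t, ← ht, mul_assoc], h1, Or.inr ?_⟩
    rw [mul_assoc, h.t2, mul_one]

theorem ht2_core {a b : ι} (hab : a ≠ b) {g k m q : G} (hg : g ∈ Z a) (hk : k ∈ Z b)
    (m2 : m * m = 1) (gm : g * m = m * g) (km : k * m = m * k) (mo : CO S t m) (hq : q ∈ CL S)
    (ht : q * t = t * q) (e : g * k * g⁻¹ * k⁻¹ = m * q) : q = 1 ∨ g ∈ S.X a := by
  have g2 := h.sq hg
  have k2 := h.sq hk
  have i1 : g * (m * q) * g⁻¹ = (m * q)⁻¹ := by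
    rw [← e, ht2_inv g2, ht2_inv k2]
    simp only [mul_inv_rev, ht2_inv g2, ht2_inv k2, ← mul_assoc, g2, one_mul]
  have i2 : k * (m * q) * k⁻¹ = (m * q)⁻¹ := by
    rw [← e, ht2_inv g2, ht2_inv k2]
    simp only [mul_inv_rev, ht2_inv g2, ht2_inv k2, mul_assoc, k2, mul_one]
  obtain ⟨o, ho, ot, oo, rfl | rfl⟩ := h.ht2_dec hq ht
  · left
    have go := h.co a g hg q ho ot oo
    rw [ht2_conj (Commute.mul_right gm go), eq_inv_iff_mul_eq_one] at i1
    refine ht2_odd oo ?_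
    rw [mul_assoc, ← mul_assoc q, ← mo q ho ot oo, ← mul_assoc, ← mul_assoc, m2, one_mul] at i1
    exact i1
  · right
    obtain ⟨c, hc⟩ := h.ovr hg
    obtain ⟨c', hc'⟩ := h.ovr hk
    rw [← conj_mul, ← conj_mul, ht2_conj gm, ht2_conj (h.co a g hg o ho ot oo), hc] at i1
    rw [← conj_mul, ← conj_mul, ht2_conj km, ht2_conj (h.co b k hk o ho ot oo), hc', ← i1] at i2
    have e1 : S.x a c = S.x b c' := by simpa using i2.symm
    by_cases c0 : c = 0
    · subst c0; exact h.ovr_zero hg hc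
    · exact absurd (h.amb.x_inj c0 e1).1 hab

/-- `[Z a, Z b] ≤ X a X b` for orthogonal roots -/
theorem h3a {a b : ι} (hr : ip Φ a b = 0) {g k : G} (hg : g ∈ Z a) (hk : k ∈ Z b) :
    ∃ c e, g * k * g⁻¹ * k⁻¹ = S.x a c * S.x b e := by
  have A := h.amb
  have hr' : ip Φ b a = 0 := by rw [ip_comm, hr]
  have aa := E.ip_self a
  have bb := E.ip_self b
  have ga : ∀ c, g * S.x a c = S.x a c * g := h.com_x (by omega) hg
  have gb : ∀ c, g * S.x b c = S.x b c * g := h.com_x (by omega) hg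
  have ka : ∀ c, k * S.x a c = S.x a c * k := h.com_x (by omega) hk
  have kb : ∀ c, k * S.x b c = S.x b c * k := h.com_x (by omega) hk
  have ab : ∀ c e, S.x a c * S.x b e = S.x b e * S.x a c := A.com (by omega)
  have sq : ∀ c e, S.x a c * S.x b e * (S.x a c * S.x b e) = 1 := fun c e => by
    rw [mul_assoc, ← mul_assoc (S.x b e), ← ab, mul_assoc, A.x_sq, mul_one, A.x_sq]
  obtain ⟨c, hc⟩ := h.ovr hg
  obtain ⟨c', hc'⟩ := h.ovr hk
  have e1 : g * k * t * (g * k)⁻¹ = t * (S.x a c * S.x b c') := by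
    rw [show g * k * t * (g * k)⁻¹ = g * (k * t * k⁻¹) * g⁻¹ by group, hc', ← conj_mul, hc,
      ht2_conj (gb c'), mul_assoc]
  have e2 : g * k * (S.x a c * S.x b c') * (g * k)⁻¹ = S.x a c * S.x b c' :=
    ht2_conj (Commute.mul_left (Commute.mul_right (ga c) (gb c')) (Commute.mul_right (ka c) (kb c')))
  have e0 : g * k * g⁻¹ * k⁻¹ = g * k * (g * k) := by
    rw [ht2_inv (h.sq hg), ht2_inv (h.sq hk)]; simp only [mul_assoc]
  have e3 : g * k * g⁻¹ * k⁻¹ * t = t * (g * k * g⁻¹ * k⁻¹) := by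
    refine ht2_of_conj ?_
    rw [e0, show g * k * (g * k) * t * (g * k * (g * k))⁻¹ =
      g * k * (g * k * t * (g * k)⁻¹) * (g * k)⁻¹ by group, e1, ← conj_mul, e1, e2, mul_assoc, sq,
      mul_one]
  have n1 : g * k * g⁻¹ * k⁻¹ ∈ NL S := h.CN (mem_centralizer_singleton_iff.2 e3)
  have gc : g ∈ centralizer (Y2 S a b : Set G) :=
    centralizer_le (S.UU_mono fun _ hs => hs.1) (h.cent hg)
  have kc : k ∈ centralizer (Y2 S a b : Set G) :=
    centralizer_le (S.UU_mono fun _ hs => hs.2) (h.cent hk)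
  obtain ⟨p, q, y, hy, e4⟩ := A.cen_Y2 (Or.inr hr) n1
    (mul_mem (mul_mem (mul_mem gc kc) (inv_mem gc)) (inv_mem kc))
  have mt : S.x a p * S.x b q * t = t * (S.x a p * S.x b q) :=
    Commute.mul_left (h.xt2 a p) (h.xt2 b q)
  have yt : y * t = t * y := by
    rw [e4, mul_assoc, ← mul_assoc t, ← mt, mul_assoc _ t] at e3
    exact mul_left_cancel e3
  rcases h.ht2_core (fun e : a = b => by rw [e] at hr; omega) hg hk (sq p q)
    (Commute.mul_right (ga p) (gb q)) (Commute.mul_right (ka p) (kb q))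
    (fun o ho _ _ => ho _ (mul_mem (S.x_mem_grp a p) (S.x_mem_grp b q))) hy yt e4 with h1 | h1
  · exact ⟨p, q, by rw [e4, h1, mul_one]⟩
  · obtain ⟨u, rfl⟩ := S.mem_X_iff.1 h1
    exact ⟨0, 0, by rw [← ka u, S.x_zero, S.x_zero]; group⟩

theorem ht2_four {a b f e : ι} (ab : ip Φ a b = 0) (fa : ip Φ f a = 1) (fb : ip Φ f b = 1)
    (ea : ip Φ e a = 1) (eb : ip Φ e b = 1) (fe : ip Φ f e = 0) {c₁ c₂ c₃ c₄ : F}
    (H : S.x a c₁ * S.x b c₂ * (S.x f c₃ * S.x e c₄) = 1) : c₁ = 0 ∧ c₂ = 0 := by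
  classical
  have aa := E.ip_self a
  have bb := E.ip_self b
  have ee := E.ip_self e
  have ba : ip Φ b a = 0 := by rw [ip_comm, ab]
  have n1 : a ≠ b := fun h => by subst h; omega
  have n2 : a ≠ f := fun h => by subst h; omega
  have n3 : a ≠ e := fun h => by subst h; omega
  have n4 : b ≠ f := fun h => by subst h; omega
  have n5 : b ≠ e := fun h => by subst h; omega
  have n6 : f ≠ e := fun h => by subst h; omega
  have := h.amb.xprod_inj' (a := a) (b := b) (by omega) (L := [a, b, f, e])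
    (by simp [n1, n2, n3, n4, n5, n6])
    (by simp only [List.mem_cons, List.not_mem_nil, or_false]; rintro r (rfl | rfl | rfl | rfl) <;> omega)
    (t := fun r => if r = a then c₁ else if r = b then c₂ else if r = f then c₃ else c₄)
    (t' := fun _ => 0) (by
      simp only [StSys.xprod, List.map_cons, List.map_nil, List.prod_cons, List.prod_nil, if_true,
        if_neg n1.symm, if_neg n2.symm, if_neg n3.symm, if_neg n4.symm, if_neg n5.symm,
        if_neg n6.symm, S.x_zero, mul_one]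
      rw [← H, mul_assoc])
  refine ⟨by simpa using this a (by simp), ?_⟩
  simpa [n1.symm] using this b (by simp)

theorem h3 {a b : ι} (hr : ip Φ a b = 0) {g k : G} (hg : g ∈ Z a) (hk : k ∈ Z b) :
    g * k = k * g := by
  obtain ⟨e, ea, eb⟩ := E.eps' hr
  obtain ⟨d, hd⟩ := E.exists_sub eb
  have da : ip Φ a d = -1 := by have := hd.ip_right a; rw [ip_comm a e] at this; omega
  obtain ⟨f, hf⟩ := E.exists_add da
  have p1 := E.radd_ip hd
  have p2 := E.radd_ip hf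
  have fa : ip Φ f a = 1 := by rw [ip_comm]; omega
  have fb : ip Φ f b = 1 := by have := hf.ip_left b; omega
  have fe : ip Φ f e = 0 := by
    have := hf.ip_left e; rw [ip_comm a e, ip_comm d e] at this; omega
  obtain ⟨c', hc'⟩ := h.ovr hk
  obtain ⟨g', hg', hc⟩ := h.surj e c'
  have h1 := h.cx_t hd hg' hc 1
  rw [one_mul, ← hc'] at h1
  have hk₀ := h.cx e d b hd g' hg' 1
  obtain ⟨u, rfl⟩ := h.ovr_eq hk hk₀ h1.symm
  refine Commute.mul_right ?_ (h.com_x (by rw [ip_comm]; omega) hg u)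
  have hf₀ := h.cx a d f hf g hg 1
  have j1 : S.x d 1 * g * (S.x d 1)⁻¹ = g * (g * S.x d 1 * g⁻¹ * (S.x d 1)⁻¹) := by
    simp only [← mul_assoc, h.sq hg, one_mul, ht2_inv (h.sq hg)]
  have j2 : S.x d 1 * g' * (S.x d 1)⁻¹ = g' * (g' * S.x d 1 * g'⁻¹ * (S.x d 1)⁻¹) := by
    simp only [← mul_assoc, h.sq hg', one_mul, ht2_inv (h.sq hg')]
  generalize g' * S.x d 1 * g'⁻¹ * (S.x d 1)⁻¹ = k at hk₀ j2
  generalize g * S.x d 1 * g⁻¹ * (S.x d 1)⁻¹ = y at hf₀ j1
  have c1 : g' * g = g * g' := h.h2 ea hg' hg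
  have c2 : g' * k = k * g' := h.h2 eb hg' hk₀
  have c3 : y * k = k * y := h.h2 fb hf₀ hk₀
  have c4 : g * y * (g' * k) = g' * k * (g * y) := by
    rw [← j1, ← j2, conj_mul, conj_mul, c1]
  obtain ⟨p, q, e1⟩ := h.h3a hr hg hk₀
  obtain ⟨p', q', e2⟩ := h.h3a fe hf₀ hg'
  have c5 : k * g * (S.x f p' * S.x e q') = S.x f p' * S.x e q' * (k * g) :=
    Commute.mul_left
      (Commute.mul_right (h.com_x (by omega) hk₀ p') (h.com_x (by omega) hk₀ q'))
      (Commute.mul_right (h.com_x (by omega) hg p') (h.com_x (by omega) hg q'))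
  have e3 : S.x a p * S.x b q * (S.x f p' * S.x e q') = 1 := by
    have l1 : g * y * (g' * k) = g * k * (y * g') := by
      rw [c2, mul_assoc, ← mul_assoc y, c3]; simp only [mul_assoc]
    have l2 : g' * k * (g * y) = k * g * (g' * y) := by
      rw [c2, mul_assoc, ← mul_assoc g', c1]; simp only [mul_assoc]
    have l3 : g * k = S.x a p * S.x b q * (k * g) := by rw [← e1]; group
    have l4 : y * g' = S.x f p' * S.x e q' * (g' * y) := by rw [← e2]; group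
    rw [l1, l2, l3, l4, ← mul_assoc, mul_left_inj, mul_assoc, c5, ← mul_assoc] at c4
    exact mul_eq_right.1 c4
  obtain ⟨rfl, rfl⟩ := h.ht2_four hr fa fb ea eb fe e3
  rw [S.x_zero, S.x_zero, mul_one, mul_inv_eq_one, mul_inv_eq_iff_eq_mul] at e1
  exact e1

theorem com' {a b : ι} (hr : 0 ≤ ip Φ a b) {g k : G} (hg : g ∈ Z a) (hk : k ∈ Z b) :
    g * k = k * g := by
  rcases E.ip_cases a b with ⟨rfl, -⟩ | h1 | h1 | h1 | ⟨-, h1⟩
  · exact h.com_self hg hk
  · exact h.h2 h1 hg hk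
  · exact h.h3 h1 hg hk
  · omega
  · omega

theorem cz_aux {a b r s : ι} (hr : RAdd Φ a b r) {g k : G} (hg : g ∈ Z a) (hk : k ∈ Z b)
    (h1 : 0 ≤ ip Φ s r) (h2 : 0 ≤ ip Φ s b) (u : F) :
    S.x s u * (g * k * (g * k)) = g * k * (g * k) * S.x s u := by
  have kx := h.com_x h2 hk u
  by_cases h3 : 0 ≤ ip Φ s a
  · have gk : Commute (g * k) (S.x s u) := Commute.mul_left (h.com_x h3 hg u) kx
    exact (gk.mul_left gk).symm
  have p := E.radd_ip hr
  have e1 := hr.ip_right s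
  have sa : ip Φ a s = -1 := by
    rcases E.ip_cases a s with ⟨-, h4⟩ | h4 | h4 | h4 | ⟨h5, h4⟩
    all_goals rw [ip_comm s a] at h3
    any_goals omega
    rw [h5, ip_neg_left] at h1; omega
  obtain ⟨f, hf⟩ := E.exists_add sa
  have hy := h.cx a s f hf g hg u
  have j1 : S.x s u * g * (S.x s u)⁻¹ = g * (g * S.x s u * g⁻¹ * (S.x s u)⁻¹) := by
    simp only [← mul_assoc, h.sq hg, one_mul, ht2_inv (h.sq hg)]
  generalize g * S.x s u * g⁻¹ * (S.x s u)⁻¹ = y at hy j1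
  have c1 : g * y = y * g := h.h2 (E.radd_ip hf).2.1 hg hy
  have c2 : y * k = k * y := h.com' (by
    have := hf.ip_left b; rw [ip_comm s a] at e1; omega) hy hk
  refine ht2_of_conj ?_
  rw [← conj_mul, ← conj_mul, j1, ht2_conj kx.symm]
  calc g * y * k * (g * y * k) = g * (y * k) * (g * y) * k := by simp only [mul_assoc]
    _ = g * k * (y * y) * (g * k) := by rw [c2, c1]; simp only [mul_assoc]
    _ = _ := by rw [h.sq hy, mul_one]

theorem cz' {a b r : ι} (hr : RAdd Φ a b r) {g k : G} (hg : g ∈ Z a) (hk : k ∈ Z b) :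
    g * k * g⁻¹ * k⁻¹ ∈ Z r := by
  have A := h.amb
  have p := E.radd_ip hr
  have g2 := h.sq hg
  have k2 := h.sq hk
  have e0 : g * k * g⁻¹ * k⁻¹ = g * k * (g * k) := by
    rw [ht2_inv g2, ht2_inv k2]; simp only [mul_assoc]
  have cY : g * k * g⁻¹ * k⁻¹ ∈ centralizer (Y S r : Set G) := by
    refine mem_cent_UU.2 fun s hs u => ?_
    have hs' : 0 ≤ ip Φ s r := hs
    by_cases h2 : 0 ≤ ip Φ s b
    · rw [e0]; exact h.cz_aux hr hg hk hs' h2 u
    · have := h.cz_aux hr.symm hk hg hs' (by have := hr.ip_right s; omega) u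
      have e : g * k * g⁻¹ * k⁻¹ = (k * g * (k * g))⁻¹ := by
        simp only [mul_inv_rev, ht2_inv g2, ht2_inv k2, mul_assoc]
      rw [e]
      exact Commute.inv_right this
  obtain ⟨c, hc⟩ := h.ovr hg
  obtain ⟨c', hc'⟩ := h.ovr hk
  have hk₁ := h.cx a b r hr g hg c'
  have hk₂ := h.cx b a r hr.symm k hk c
  have j1 : g * S.x b c' * g⁻¹ = g * S.x b c' * g⁻¹ * (S.x b c')⁻¹ * S.x b c' := by group
  have j2 : k * S.x a c * k⁻¹ = k * S.x a c * k⁻¹ * (S.x a c)⁻¹ * S.x a c := by group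
  generalize g * S.x b c' * g⁻¹ * (S.x b c')⁻¹ = k₁ at hk₁ j1
  generalize k * S.x a c * k⁻¹ * (S.x a c)⁻¹ = k₂ at hk₂ j2
  have gZ : ∀ {z}, z ∈ Z r → g * z = z * g := fun hz => h.h2 p.2.1 hg hz
  have kZ : ∀ {z}, z ∈ Z r → k * z = z * k := fun hz => h.h2 p.2.2 hk hz
  have aZ : ∀ {z}, z ∈ Z r → z * S.x a c = S.x a c * z := fun hz => h.com_x (by omega) hz c
  have bZ : ∀ {z}, z ∈ Z r → z * S.x b c' = S.x b c' * z := fun hz => h.com_x (by omega) hz c'
  have e1 : g * k * t * (g * k)⁻¹ = t * (S.x a c * (k₁ * S.x b c')) := by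
    rw [show g * k * t * (g * k)⁻¹ = g * (k * t * k⁻¹) * g⁻¹ by group, hc', ← conj_mul, hc, j1,
      mul_assoc]
  have hm : k₂ * k₁ * S.x r (c' * c) ∈ Z r := mul_mem (mul_mem hk₂ hk₁) (h.xZ r _)
  have e2 : k * (t * (S.x a c * (k₁ * S.x b c'))) * k⁻¹ =
      t * (S.x a c * (k₂ * k₁ * S.x r (c' * c))) := by
    rw [← conj_mul, ← conj_mul, ← conj_mul, hc', j2, ht2_conj (kZ hk₁),
      ht2_conj (h.com_x (by rw [E.ip_self]; omega) hk c'), mul_assoc, mul_right_inj,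
      ← aZ hm, mul_assoc (k₂ * k₁), ← A.com (by omega) c (c' * c), ← A.conj_x hr.symm, A.x_inv,
      ← mul_assoc, ← mul_assoc, ← mul_assoc, ← bZ hk₂, mul_assoc _ (S.x a c), ← aZ hk₁, ← mul_assoc,
      mul_assoc _ (S.x b c') k₁, ← bZ hk₁]
    simp only [mul_assoc]
  have e3 : g * k * g⁻¹ * k⁻¹ * t * (g * k * g⁻¹ * k⁻¹)⁻¹ = t * (k₂ * k₁ * S.x r (c' * c)) := by
    rw [e0, show g * k * (g * k) * t * (g * k * (g * k))⁻¹ =
      g * (k * (g * k * t * (g * k)⁻¹) * k⁻¹) * g⁻¹ by group, e1, e2, ← conj_mul, ← conj_mul, hc,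
      ht2_conj (h.com_x (by rw [E.ip_self]; omega) hg c), ht2_conj (gZ hm), mul_assoc,
      ← mul_assoc (S.x a c), A.x_sq, one_mul]
  generalize k₂ * k₁ * S.x r (c' * c) = m at hm e3
  have mt : m * t = t * m := by
    refine (ht2_comm h.t2 (h.sq hm) ?_).symm
    rw [← e3, conj_mul, h.t2]; group
  obtain ⟨c₀, rfl⟩ := S.mem_X_iff.1 (h.ker r m hm mt)
  obtain ⟨k₀, hk₀, e4⟩ := h.surj r c₀
  have e5 : k₀⁻¹ * (g * k * g⁻¹ * k⁻¹) * t = t * (k₀⁻¹ * (g * k * g⁻¹ * k⁻¹)) := by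
    refine ht2_of_conj ?_
    rw [show ∀ x y z : G, x⁻¹ * y * z * (x⁻¹ * y)⁻¹ = x⁻¹ * (y * z * y⁻¹) * x from
      fun x y z => by group, e3, ← e4]
    group
  obtain ⟨u, y, hy, e6⟩ := A.cen_Y r (h.CN (mem_centralizer_singleton_iff.2 e5))
    (mul_mem (inv_mem (h.cent hk₀)) cY)
  have yt : y * t = t * y := by
    rw [e6, mul_assoc, ← mul_assoc t, ← h.xt2, mul_assoc] at e5
    exact mul_left_cancel e5
  have hm' : k₀ * S.x r u ∈ Z r := mul_mem hk₀ (h.xZ r u)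
  have e7 : g * k * g⁻¹ * k⁻¹ = k₀ * S.x r u * y := by rw [mul_assoc k₀, ← e6]; group
  rcases h.ht2_core (fun e : a = b => by have := E.ip_self b; rw [e] at p; omega) hg hk (h.sq hm')
    (gZ hm') (kZ hm') (h.co r _ hm') hy yt e7 with h1 | h1
  · rw [e7, h1, mul_one]; exact hm'
  · obtain ⟨v, rfl⟩ := S.mem_X_iff.1 h1
    have := inv_mem (h.cx b a r hr.symm k hk v)
    simpa only [mul_inv_rev, inv_inv, mul_assoc] using this

theorem hats2 : Hats2 E S t Z :=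
  { h with
    com := fun _ _ hr _ hg _ hk => h.com' hr hg hk
    cz := fun _ _ _ hr _ hg _ hk => h.cz' hr hg hk }

end Hats

end CfsgLib.SLE
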