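import Mathlib
import Cfsg.Agent.Lib.SLE.NF

/-!
# The product case: the unique fixed point of `t`
-/

set_option autoImplicit false

namespace CfsgLib.SLE

open CfsgLib.RGD CfsgLib.Stein CfsgLib.UFP Subgroup
open scoped commutatorElement Pointwise

universe u

variable {ι κ : Type} [Fintype κ] [DecidableEq κ] [Finite ι] {Φ : RootSys ι κ} {E : ER Φ}
  {F : Type} [Field F] [Finite F] [CharP F 2] {G : Type u} [Group G] [Finite G]
  {S : StSys Φ F G} {t : G} {Z : ι → Subgroup G}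

theorem four_sq_lt (n : ℕ) : 4 * n ^ 2 < 8 ^ n := by
  rcases Nat.eq_zero_or_pos n with rfl | h
  · simp
  have h1 : 2 * n ≤ 2 ^ n := by
    obtain ⟨m, rfl⟩ : ∃ m, n = m + 1 := ⟨n - 1, by omega⟩
    have := Nat.lt_two_pow_self (n := m)
    rw [pow_succ]; omega
  calc 4 * n ^ 2 = (2 * n) ^ 2 := by ring
    _ ≤ (2 ^ n) ^ 2 := Nat.pow_le_pow_left h1 2
    _ = 4 ^ n := by rw [← pow_mul, mul_comm, pow_mul]; rfl
    _ < 8 ^ n := Nat.pow_lt_pow_left (by omega) h.ne'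

theorem eight_pow : 8 ^ Nat.card (F ≃+* F) = Nat.card F ^ 3 := by
  rw [show (8 : ℕ) = 2 ^ 3 from rfl, ← pow_mul, mul_comm 3, pow_mul, ← card_aut]

omit [Finite G] in
theorem Pf.map {G' : Type u} [Group G'] {M : Subgroup G'} (h : Pf M) (φ : G' →* G) :
    Pf (M.map φ) :=
  ⟨by rw [← map_commutator]; exact map_mono h.1, (map_mono h.2).trans (by
    rw [MonoidHom.map_closure]
    refine closure_mono ?_
    rintro _ ⟨x, ⟨h1, h2⟩, rfl⟩
    exact ⟨mem_map_of_mem φ h1, by rw [← map_mul, h2, map_one]⟩)⟩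

omit [Finite G] in
theorem Pf.top {M : Subgroup G} (h : Pf M) : Pf (⊤ : Subgroup M) := by
  have e : ∀ K : Subgroup M, M ≤ K.map M.subtype → ⊤ ≤ K := fun K hK x _ => by
    obtain ⟨y, hy, e⟩ := hK x.2
    exact (Subtype.ext e : y = x) ▸ hy
  refine ⟨e _ ?_, e _ (h.2.trans ((closure_le _).2 fun x hx =>
    ⟨⟨x, hx.1⟩, subset_closure ⟨mem_top _, Subtype.ext hx.2⟩, rfl⟩))⟩
  rw [map_commutator, ← MonoidHom.range_eq_map, range_subtype]
  exact h.1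

namespace Amb

variable (A : Amb E S)
include A

theorem side {s : G} (hs : s ∈ NL S) (s2 : s * s = 1) (hU : s ∈ normalizer (S.U : Set G)) :
    (∃ P ≤ S.grp ⊓ centralizer {s}, IsPGroup 2 P ∧ Nat.card F ^ (NP Φ + 3) ≤ Nat.card P ^ 2) ∨
      ∃ M, SemiD E S s M ∧ s ∉ N0 S := by
  obtain ⟨π, σ, hπ, h⟩ := A.aut s hs
  by_cases hσ : σ = 1
  · subst hσ; exact Or.inl (A.lb h hπ s2)
  · obtain ⟨M, hM⟩ := A.semiD h hπ hσ s2 hU
    exact Or.inr ⟨M, hM, fun h' => hσ (A.typ_unique h h' hπ (Or.inl rfl)).2⟩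

theorem mem_CL {g : G} {σ : F ≃+* F} (h : StdD S g 1 (fun _ => 1) σ)
    (h1 : ∀ c, g * S.x E.θ c = S.x E.θ c * g) : g ∈ CL S := by
  have h2 : ∀ r c, g * S.x r c * g⁻¹ = S.x r (σ c) := fun r c => by simpa using h.2 r c
  refine mem_cent_UU.2 fun r _ c => ?_
  have : σ c = c := A.nd.x_injective E.θ (by rw [← h2, h1, mul_inv_cancel_right])
  have h3 := h2 r c
  rw [this, mul_inv_eq_iff_eq_mul] at h3
  exact h3.symm

/-- a subgroup normalised by `L` contains `L` or is centralised by it -/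
theorem le_or_cent {K : Subgroup G} (h1 : S.grp ≤ normalizer (K : Set G)) (h2 : K ≤ NL S) :
    S.grp ≤ K ∨ K ≤ CL S := by
  rcases A.simp (K ⊓ S.grp) inf_le_right (fun g hg => norm_inf (h1 hg) (le_normalizer hg)) with
    h | h
  · refine Or.inr ?_
    have h3 : ⁅K, S.grp⁆ ≤ CL S := (commutator_le.2 fun k hk l hl => by
      rw [commutatorElement_def]
      refine ⟨?_, S.grp.mul_mem (conj_mem (h2 hk) hl) (inv_mem hl)⟩
      have := K.mul_mem hk (conj_mem (h1 hl) (K.inv_mem hk))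
      rwa [← mul_assoc, ← mul_assoc] at this).trans h
    have h4 : ⁅⁅K, S.grp⁆, S.grp⁆ = ⊥ := commutator_eq_bot_iff_le_centralizer.2 h3
    have h5 := commutator_commutator_eq_bot_of_rotate (by rw [commutator_comm S.grp K]; exact h4) h4
    exact commutator_eq_bot_iff_le_centralizer.1 (by
      rw [commutator_comm]; exact eq_bot_iff.2 ((commutator_mono A.pf_grp.1 le_rfl).trans h5.le))
  · exact Or.inl (h.ge.trans inf_le_left)

theorem not_le_CL : ¬ S.grp ≤ CL S := fun h => one_ne_zero (A.x_eq_one.1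
  (A.eq_one (S.x_mem_grp E.θ 1) (h (S.x_mem_grp _ _)) (pgroup_zpowers_of_sq (A.x_sq _ _))))

end Amb

namespace DblP

variable {S₁ S₂ : StSys Φ F G} (d : DblP E S t Z S₁ S₂)
include d

theorem tinv : t⁻¹ = t := inv_eq_of_mul_eq_one_right d.t2

theorem symm : DblP E S t Z S₂ S₁ :=
  ⟨d.toHats2, d.amb₂, d.amb₁, fun r s c e => (d.c12 s r e c).symm,
    fun r c => by rw [d.ext, d.c12], fun r c => by
      rw [← d.t12, show t * (t * S₁.x r c * t⁻¹) * t⁻¹ = t * t * S₁.x r c * (t * t)⁻¹ by group, d.t2]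
      group,
    fun r => by rw [d.ZT, sup_comm]⟩

theorem conj_UU (Ψ : Set ι) : MulAut.conj t • S₁.UU Ψ = S₂.UU Ψ := by
  rw [← cj_UU]; simp only [StSys.UU, cj_x, d.t12]

theorem c21 : S₂.grp ≤ CL S₁ :=
  S₂.UU_le_iff.2 fun r _ c => mem_cent_UU.2 fun s _ e => d.c12 s r e c

theorem cm {a b : G} (ha : a ∈ S₁.grp) (hb : b ∈ S₂.grp) : a * b = b * a :=
  mem_cent.1 (d.c21 hb) a ha

theorem G0_eq : ⨆ r, Z r = S₁.grp ⊔ S₂.grp :=
  le_antisymm (iSup_le fun r => d.ZT r ▸ sup_le_sup (S₁.UU_le_grp _) (S₂.UU_le_grp _)) (sup_le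
    (S₁.UU_le_iff.2 fun r _ c => le_iSup Z r (d.ZT r ▸ mem_sup_left (S₁.x_mem_X r c)))
    (S₂.UU_le_iff.2 fun r _ c => le_iSup Z r (d.ZT r ▸ mem_sup_right (S₂.x_mem_X r c))))

theorem mem_W {k : G} (h1 : k ∈ CL S₁) (h2 : k ∈ CL S₂) :
    k ∈ centralizer ((⨆ r, Z r : Subgroup G) : Set G) := by
  rw [d.G0_eq]
  exact le_centralizer_iff.1 (sup_le (le_centralizer_iff.1 (zpowers_le.2 h1))
    (le_centralizer_iff.1 (zpowers_le.2 h2))) (mem_zpowers k)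

theorem norm1 : ⨆ r, Z r ≤ NL S₁ :=
  d.G0_eq ▸ sup_le le_normalizer (d.c21.trans (centralizer_le_normalizer _))

theorem le1 : S₁.grp ≤ ⨆ r, Z r := d.G0_eq ▸ le_sup_left

theorem ne : S₁.grp ≠ S₂.grp := fun e => d.amb₁.not_le_CL (e.le.trans d.c21)

theorem perm {g : G} (hg : g ∈ normalizer ((⨆ r, Z r : Subgroup G) : Set G)) :
    MulAut.conj g • S₁.grp = S₁.grp ∨ MulAut.conj g • S₁.grp = S₂.grp := by
  have h1 : MulAut.conj g • S₁.grp ≤ ⨆ r, Z r :=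
    Coprime.conj_smul_le_iff.2 fun x hx => conj_mem hg (d.le1 hx)
  have h2 : ⨆ r, Z r ≤ normalizer ((MulAut.conj g • S₁.grp : Subgroup G) : Set G) := fun x hx => by
    have := norm_conj (g := g) (d.norm1 (conj_mem' hg hx))
    rwa [show g * (g⁻¹ * x * g) * g⁻¹ = x by group] at this
  have hc : Nat.card S₂.grp = Nat.card S₁.grp := by
    rw [StSys.grp, ← d.conj_UU, Coprime.card_conj_smul]; rfl
  rcases d.amb₁.le_or_cent (d.le1.trans h2) (h1.trans d.norm1) with h3 | h3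
  · exact Or.inl (Core.eq_of_le_of_card_le h3 (Coprime.card_conj_smul g _).le).symm
  rcases d.amb₂.le_or_cent (d.symm.le1.trans h2) (h1.trans d.symm.norm1) with h4 | h4
  · exact Or.inr (Core.eq_of_le_of_card_le h4 ((Coprime.card_conj_smul g _).trans hc.symm).le).symm
  · refine absurd (fun x hx => ?_) (d.amb₁.cj g).not_le_CL
    rw [StSys.grp, cj_UU] at hx
    refine centralizer_le ?_ (d.mem_W (h3 hx) (h4 hx))
    rw [StSys.grp, cj_UU]; exact h1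

theorem norm2 {g : G} (hg : g ∈ normalizer ((⨆ r, Z r : Subgroup G) : Set G)) (h : g ∈ NL S₁) :
    g ∈ NL S₂ := by
  rcases d.symm.perm hg with h1 | h1
  · exact Coprime.mem_normalizer_iff_conj_smul_eq.2 h1
  · exact absurd (MulAction.injective _ ((Coprime.mem_normalizer_iff_conj_smul_eq.1 h).trans h1.symm))
      d.ne

theorem idx {g : G} (hg : g ∈ normalizer ((⨆ r, Z r : Subgroup G) : Set G)) :
    g ∈ NL S₁ ∨ g * t ∈ NL S₁ := by
  rcases d.symm.perm hg with h1 | h1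
  · exact Or.inl (d.symm.norm2 hg (Coprime.mem_normalizer_iff_conj_smul_eq.2 h1))
  · refine Or.inr (Coprime.mem_normalizer_iff_conj_smul_eq.2 ?_)
    rw [map_mul, mul_smul, StSys.grp, d.conj_UU]; exact h1

theorem diag {Ψ : Set ι} {l : G} (hl : l ∈ S.UU Ψ) : ∃ a ∈ S₁.UU Ψ, l = a * (t * a * t⁻¹) := by
  refine S.UU_induction (p := fun l => ∃ a ∈ S₁.UU Ψ, l = a * (t * a * t⁻¹))
    ⟨1, one_mem _, by group⟩ ?_ hl
  rintro r hr c _ - ⟨a, ha, rfl⟩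
  refine ⟨a * S₁.x r c, mul_mem ha (S₁.x_mem_UU hr c), ?_⟩
  have h1 : t * a * t⁻¹ ∈ S₂.grp := S₂.UU_le_grp Ψ (d.conj_UU Ψ ▸ Coprime.conj_mem_conj_smul ha)
  rw [d.ext, ← d.t12, mul_assoc a, ← mul_assoc _ (S₁.x r c), ← d.cm (S₁.x_mem_grp r c) h1]
  group

/-- the involutions of `L t` are conjugate to `t` in `G0` -/
theorem exists_conj {w : G} (hw : w ∈ S.grp) (w2 : w * w = 1) :
    ∃ a ∈ S₁.grp, w * t = a * t * a⁻¹ := by
  obtain ⟨a, ha, e⟩ := d.diag hw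
  obtain ⟨m, ⟨k, hm⟩, hp⟩ := exists_two_pow a
  have h2 : ∀ a ∈ S₁.grp, t * a * t⁻¹ ∈ S₂.grp := fun a ha =>
    S₂.UU_le_grp _ (d.conj_UU _ ▸ Coprime.conj_mem_conj_smul ha)
  have e1 : w = a ^ m * (t * a ^ m * t⁻¹) := by
    rw [← conj_pow, ← (show Commute a (t * a * t⁻¹) from d.cm ha (h2 a ha)).mul_pow, ← e, hm,
      pow_succ, pow_mul, pow_two, w2, one_pow, one_mul]
  have hb := pow_mem ha m
  generalize a ^ m = b at *
  have h3 : b * b = (t * (b * b) * t⁻¹)⁻¹ := by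
    rw [e1, mul_assoc, ← mul_assoc (t * b * t⁻¹), ← d.cm hb (h2 b hb)] at w2
    rw [eq_inv_iff_mul_eq_one, ← w2]; group
  have h4 := d.amb₁.eq_one (mul_mem hb hb) (h3 ▸ inv_mem (d.c21 (h2 _ (mul_mem hb hb))))
    (pg_zpowers hp (mul_mem (mem_zpowers b) (mem_zpowers b)))
  refine ⟨b, hb, ?_⟩
  rw [e1, inv_eq_of_mul_eq_one_right h4]; group

theorem nat1 {g : G} (h : MulAut.conj (g * t * g⁻¹) • S₁.grp = S₂.grp) {x : G} (hx : x ∈ S₁.grp) :
    g⁻¹ * x * g ∈ ⨆ r, Z r := by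
  obtain ⟨s, hs⟩ : ∃ s, s = g * t * g⁻¹ := ⟨_, rfl⟩
  have H := d.toSit.cj g
  rw [← hs] at h H
  have h2 : ∀ a ∈ S₁.grp, s * a * s⁻¹ ∈ S₂.grp := fun a ha => h ▸ Coprime.conj_mem_conj_smul ha
  let φ : S₁.grp →* G := MonoidHom.mk' (fun a => a * (s * a * s⁻¹)) fun a b => by
    simp only [coe_mul]
    rw [mul_assoc (a : G) (s * a * s⁻¹), ← mul_assoc (s * a * s⁻¹), ← d.cm b.2 (h2 a a.2)]
    group
  have hD : ∀ a ∈ S₁.grp, g⁻¹ * (a * (s * a * s⁻¹)) * g ∈ S.grp := fun a ha =>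
    mem_cj_UU.1 (H.amb.pf_le H.cyc (d.amb₁.pf_grp.top.map φ) (le_trans (by
      rintro _ ⟨b, -, rfl⟩
      refine mem_cent1.2 ?_
      show s * (b * (s * b * s⁻¹)) = b * (s * b * s⁻¹) * s
      rw [d.cm b.2 (h2 b b.2), ← mul_inv_eq_iff_eq_mul, show s * (s * b * s⁻¹ * b) * s⁻¹ =
        s * s * b * (s * s)⁻¹ * (s * b * s⁻¹) by group, H.t2, ← d.cm b.2 (h2 b b.2)]
      group) H.CN) (mem_map_of_mem φ (mem_top ⟨a, ha⟩)))
  have h3 : S₁.grp ≤ MulAut.conj g • normalizer ((⨆ r, Z r : Subgroup G) : Set G) := by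
    refine d.amb₁.pf_grp.2.trans ((closure_le _).2 fun y hy => Coprime.mem_conj_smul_iff.2 ?_)
    have y1 : y⁻¹ = y := inv_eq_of_mul_eq_one_right hy.2
    obtain ⟨a, ha, e⟩ := d.exists_conj (hD y hy.1) (by
      rw [show g⁻¹ * (y * (s * y * s⁻¹)) * g * (g⁻¹ * (y * (s * y * s⁻¹)) * g) =
        g⁻¹ * (y * (s * y * s⁻¹ * y) * (s * y * s⁻¹)) * g by group, ← d.cm hy.1 (h2 y hy.1),
        show y * (y * (s * y * s⁻¹)) * (s * y * s⁻¹) = y * y * (s * (y * y) * s⁻¹) by group, hy.2]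
      group)
    refine (Subgroup.mul_mem_cancel_left _ (inv_mem (le_normalizer (d.le1 ha)))).1
      (d.toHats.cent_le (mem_cent1.2 ?_))
    calc _ = a⁻¹ * (a * t * a⁻¹) * (g⁻¹ * y * g) := by group
      _ = a⁻¹ * (g⁻¹ * (y * s * (y * s⁻¹ * (g * t * g⁻¹) * y)) * g) := by rw [← e]; group
      _ = _ := by rw [← hs, inv_mul_cancel_right, hy.2, hs]; group
  have h4 : ⁅S₁.grp, S₁.grp⁆ ≤ MulAut.conj g • ⨆ r, Z r := commutator_le.2 fun y hy a ha => by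
    have h5 := d.toHats.L_le (hD a ha)
    have h6 := mul_mem (conj_mem (Coprime.mem_conj_smul_iff.1 (h3 hy)) h5) (inv_mem h5)
    refine Coprime.mem_conj_smul_iff.2 ?_
    rwa [show g⁻¹ * y * g * (g⁻¹ * (a * (s * a * s⁻¹)) * g) * (g⁻¹ * y * g)⁻¹ *
      (g⁻¹ * (a * (s * a * s⁻¹)) * g)⁻¹ = g⁻¹ * (y * a * (s * a * s⁻¹ * y⁻¹) * (s * a * s⁻¹)⁻¹ * a⁻¹) * g
      by group, ← d.cm (inv_mem hy) (h2 a ha), show y * a * (y⁻¹ * (s * a * s⁻¹)) * (s * a * s⁻¹)⁻¹ *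
      a⁻¹ = ⁅y, a⁆ by rw [commutatorElement_def]; group] at h6
  exact Coprime.mem_conj_smul_iff.1 (h4 (d.amb₁.pf_grp.1 hx))

theorem mixed {g : G} {P : Subgroup G} (h1 : P ≤ S₁.grp ⊓ centralizer {g * t * g⁻¹})
    (hP : IsPGroup 2 P) (h2 : Nat.card F ^ (NP Φ + 3) ≤ Nat.card P ^ 2) {M : Subgroup G}
    (D : SemiD E S₂ (g * t * g⁻¹) M) (h3 : g * t * g⁻¹ ∉ N0 S₂) : False := by
  have H := d.toSit.cj g
  have hc : ∀ a ∈ P, ∀ b ∈ S₂.U ⊓ centralizer {g * t * g⁻¹}, a * b = b * a := fun a ha b hb =>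
    d.cm (h1 ha).1 (S₂.U_le_grp hb.1)
  have h4 := card_sup_comm hc fun a ha hb =>
    d.amb₁.eq_one (h1 ha).1 (d.c21 (S₂.U_le_grp hb.1)) (pg_zpowers hP ha)
  have h5 : P ⊔ S₂.U ⊓ centralizer {g * t * g⁻¹} ≤ centralizer {g * t * g⁻¹} :=
    sup_le (h1.trans inf_le_right) inf_le_right
  have h6 : g * t * g⁻¹ ∈ normalizer ((P ⊔ S₂.U ⊓ centralizer {g * t * g⁻¹} : Subgroup G) : Set G) :=
    centralizer_le_normalizer _ (mem_cent.2 fun a ha => (mem_cent1.1 (h5 ha)).symm)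
  have h7' : P ⊔ S₂.U ⊓ centralizer {g * t * g⁻¹} ≤ N0 S₂ :=
    sup_le (fun a ha => le_N0 (mem_sup_right (d.symm.c21 (h1 ha).1)))
      fun a ha => le_N0 (mem_sup_left (S₂.U_le_grp ha.1))
  have h7 := card_sup_inv H.t2 (fun h => h3 (h7' h)) h6
  have h8 := H.amb.card_le (d.two.cj g) (IsPGroup.to_sup_of_normal_left'
    (pg_sup_comm hP d.amb₂.pg_U.to_inf_left hc) (pgroup_zpowers_of_sq H.t2) (zpowers_le.2 h6))
    ((sup_le h5 (zpowers_le.2 (mem_cent1.2 rfl))).trans H.CN)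
  have h9 := four_sq_lt (Nat.card (F ≃+* F))
  have h10 := D.card
  rw [eight_pow] at h9
  rw [pow_add] at h2
  have h11 : 0 < Nat.card F ^ NP Φ := pow_pos Nat.card_pos _
  generalize Nat.card F ^ NP Φ = a, Nat.card F ^ 3 = b, Nat.card P = c,
    Nat.card (S₂.U ⊓ centralizer {g * t * g⁻¹} : Subgroup G) = e, Nat.card (F ≃+* F) = n at *
  have h12 : c * e ≤ 2 * n * a := by nlinarith
  have h13 : a * b * a ≤ (2 * n * a) ^ 2 :=
    calc a * b * a ≤ c ^ 2 * e ^ 2 := by rw [h10]; exact Nat.mul_le_mul_right _ h2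
      _ = (c * e) ^ 2 := by ring
      _ ≤ _ := Nat.pow_le_pow_left h12 2
  have h14 : 0 < a * a := by positivity
  nlinarith

theorem no_fix {g : G} (h1 : g * t * g⁻¹ ∈ normalizer (S₁.U : Set G)) (h1' : g * t * g⁻¹ ∈ NL S₁)
    (h2 : g * t * g⁻¹ ∈ normalizer (S₂.U : Set G)) (h2' : g * t * g⁻¹ ∈ NL S₂) : False := by
  have H := d.toSit.cj g
  have h0 : 0 < Nat.card F ^ NP Φ := pow_pos Nat.card_pos _
  rcases d.amb₁.side h1' H.t2 h1 with ⟨P, p1, p2, p3⟩ | ⟨M, D, m⟩ <;>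
    rcases d.amb₂.side h2' H.t2 h2 with ⟨P', q1, q2, q3⟩ | ⟨M', D', m'⟩
  · have hc : ∀ a ∈ P, ∀ b ∈ P', a * b = b * a := fun a ha b hb => d.cm (p1 ha).1 (q1 hb).1
    have h4 := (card_sup_comm hc fun a ha hb =>
      d.amb₁.eq_one (p1 ha).1 (d.c21 (q1 hb).1) (pg_zpowers p2 ha)).trans
      (H.amb.card_le (d.two.cj g) (pg_sup_comm p2 q2 hc)
        ((sup_le (p1.trans inf_le_right) (q1.trans inf_le_right)).trans H.CN))
    have h5 := four_lt (Nat.card (F ≃+* F))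
    have h6 := Nat.mul_le_mul p3 q3
    rw [← pow_two, ← mul_pow, pow_le_pow_iff_left₀ (by omega) (by omega) two_ne_zero, pow_add] at h6
    rw [eight_pow] at h5
    nlinarith
  · exact d.mixed p1 p2 p3 D' m'
  · exact d.symm.mixed q1 q2 q3 D m
  · have hM := H.amb.pf_le H.cyc (D.pf.sup D'.pf)
      ((sup_le (D.le.trans inf_le_right) (D'.le.trans inf_le_right)).trans H.CN)
    have hc : ∀ a ∈ S₁.U ⊓ centralizer {g * t * g⁻¹}, ∀ b ∈ S₂.U ⊓ centralizer {g * t * g⁻¹},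
        a * b = b * a := fun a ha b hb => d.cm (S₁.U_le_grp ha.1) (S₂.U_le_grp hb.1)
    have h4 := card_sup_comm hc fun a ha hb => d.amb₁.eq_one (S₁.U_le_grp ha.1)
      (d.c21 (S₂.U_le_grp hb.1)) (pg_zpowers d.amb₁.pg_U ha.1)
    have h5 := (pow_left_inj₀ (by omega) (by omega) two_ne_zero).1 (D.card.trans D'.card.symm)
    rw [← h5, ← pow_two, D.card] at h4
    obtain ⟨l, hl, e⟩ := H.amb.eq_cj_U
      (pg_sup_comm d.amb₁.pg_U.to_inf_left d.amb₂.pg_U.to_inf_left hc)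
      ((sup_le_sup D.PM D'.PM).trans hM) h4
    have A := H.amb.cj l
    have key : ∀ {S₁ S₂ : StSys Φ F G}, DblP E S t Z S₁ S₂ → (cj (cj S g) l).U =
        S₁.U ⊓ centralizer {g * t * g⁻¹} ⊔ S₂.U ⊓ centralizer {g * t * g⁻¹} → ∀ c, c ≠ 0 →
        S₁.x E.θ c * (g * t * g⁻¹) = g * t * g⁻¹ * S₁.x E.θ c →
        (cj (cj S g) l).grp ⊓ centralizer {S₁.x E.θ c} = Y (cj (cj S g) l) E.θ :=
      fun {S₁ S₂} d e c hc h => by
        have h6 : S₁.x E.θ c ∈ (cj (cj S g) l).X E.θ := by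
          rw [← A.center_U, e]
          refine ⟨mem_sup_left ⟨S₁.x_mem_U E.pos_θ c, mem_cent1.2 h.symm⟩,
            le_centralizer_iff.1 (sup_le ?_ ?_) (mem_zpowers _)⟩
          · exact inf_le_left.trans (le_centralizer_iff.1 (zpowers_le.2
              (d.amb₁.center_U.ge (S₁.x_mem_X _ c)).2))
          · exact inf_le_left.trans (S₂.U_le_grp.trans (d.c21.trans
              (centralizer_le (zpowers_le.2 (S₁.x_mem_grp _ c)))))
        obtain ⟨c', h7⟩ := (StSys.mem_X_iff _).1 h6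
        rw [h7]
        exact A.cent_x _ fun h8 => hc (d.amb₁.x_eq_one.1 (h7.trans (by rw [h8, StSys.x_zero])))
    obtain ⟨c, c0, c1, x, hx, c2⟩ := D.z0
    obtain ⟨c', c0', c1', -⟩ := D'.z0
    refine c2 (mem_cent1.1 ((key d e.symm c c0 c1).ge ((key d.symm (by rw [← e, sup_comm]) c' c0' c1').le
      ⟨?_, mem_cent1.2 (d.cm (D.le hx).1 (S₂.x_mem_grp _ _)).symm⟩)).2).symm
    rw [cj_grp_of_mem (le_normalizer hl)]
    exact hM (mem_sup_left hx)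

/-- **(U)** -/
theorem u : U (normalizer ((⨆ r, Z r : Subgroup G) : Set G)) t := by
  refine ⟨d.t2, d.toHats.t_mem, fun g hg => ?_⟩
  have sq : ∀ g : G, IsPGroup 2 (zpowers (g * t * g⁻¹)) := fun g =>
    pgroup_zpowers_of_sq (d.toSit.cj g).t2
  rcases d.perm hg with h | h
  · exfalso
    have h1 : g * t * g⁻¹ ∈ NL S₁ := Coprime.mem_normalizer_iff_conj_smul_eq.2 h
    have h2 := d.norm2 hg h1
    have cj : ∀ {K : Subgroup G} {l g : G}, l ∈ K → g * t * g⁻¹ ∈ K → l * g * t * (l * g)⁻¹ ∈ K :=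
      fun {K l g} h1 h2 => by
        rw [show l * g * t * (l * g)⁻¹ = l * (g * t * g⁻¹) * l⁻¹ by group]
        exact K.mul_mem (K.mul_mem h1 h2) (K.inv_mem h1)
    obtain ⟨l, hl, h3⟩ := d.amb₁.exists_norm_U (sq g) (zpowers_le.2 h1)
    have h4 := h3 _ (mem_zpowers _)
    rw [show l * (g * t * g⁻¹) * l⁻¹ = l * g * t * (l * g)⁻¹ by group] at h4
    have h5 := cj (d.symm.norm1 (d.le1 hl)) h2
    obtain ⟨k, hk, h6⟩ := d.amb₂.exists_norm_U (sq _) (zpowers_le.2 h5)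
    have h7 := h6 _ (mem_zpowers _)
    rw [show k * (l * g * t * (l * g)⁻¹) * k⁻¹ = k * (l * g) * t * (k * (l * g))⁻¹ by group] at h7
    exact d.no_fix (cj (centralizer_le_normalizer _ (centralizer_le S₁.U_le_grp (d.c21 hk))) h4)
      (cj (d.norm1 (d.symm.le1 hk)) (cj (le_normalizer hl) h1)) h7 (cj (le_normalizer hk) h5)
  · have h' : MulAut.conj (g * t * g⁻¹) • S₂.grp = S₁.grp := by
      rw [← h, conj_conj (d.toSit.cj g).t2]
    refine inv_mem_iff.1 (mem_normalizer_fintype fun x hx => ?_)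
    rw [SetLike.mem_coe, d.G0_eq] at hx
    obtain ⟨a, ha, b, hb, rfl⟩ := mem_sup_comm (fun _ ha _ hb => d.cm ha hb) hx
    rw [show g⁻¹ * (a * b) * g⁻¹⁻¹ = g⁻¹ * a * g * (g⁻¹ * b * g) by group]
    exact mul_mem (d.nat1 h ha) (d.symm.nat1 h' hb)

end DblP

end CfsgLib.SLE
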