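import Mathlib
import Cfsg.Agent.Lib.SLE.NP
import Cfsg.Agent.Lib.SLE.NS

/-!
# The product case is impossible
-/

set_option autoImplicit false

namespace CfsgLib.SLE

open CfsgLib.RGD CfsgLib.Stein CfsgLib.UFP Subgroup
open scoped commutatorElement Pointwise

universe u

variable {ι κ : Type} [Fintype κ] [DecidableEq κ] [Finite ι] {Φ : RootSys ι κ} {E : ER Φ}
  {F : Type} [Field F] [Finite F] [CharP F 2] {G : Type u} [Group G] [Finite G]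
  {S : StSys Φ F G} {t : G} {Z : ι → Subgroup G} {S₁ S₂ : StSys Φ F G}

/-- the normaliser of `G0` -/
abbrev NZ (Z : ι → Subgroup G) : Subgroup G := normalizer ((⨆ r, Z r : Subgroup G) : Set G)

theorem Amb.cen_R (A : Amb E S) {g : G} (hg : g ∈ NL S)
    (h : ∀ r, Φ.Pos r → r ≠ E.α → ∀ c, g * S.x r c = S.x r c * g) :
    ∃ c e, (S.x E.θ c * S.x E.β e)⁻¹ * g ∈ CL S := by
  obtain ⟨u, hu, σ, h2⟩ := A.cen_R1 hg fun r h1 h2 => h r h1 h2 1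
  obtain ⟨c, e, h3⟩ := A.mem_W_iff.1 (inv_mem hu)
  refine ⟨c, e, ?_⟩
  rw [← h3, inv_inv]
  refine A.mem_CL h2 fun a => ?_
  rw [mul_assoc, h _ E.pos_θ (E.simple_ne_θ _).symm, ← mul_assoc, A.Z_cent (S.x_mem_X _ a)
    (S.UU_le_U (by rintro _ (rfl | rfl); exacts [E.pos_θ, E.pos_β]) hu), mul_assoc]

theorem Amb.mul_mem_N0 {a b : G} (h1 : Typ S a E.γ 1) (h2 : Typ S b E.γ 1) : a * b ∈ N0 S := by
  have := h1.mul h2 E.γn
  rwa [aa_gp_sq (E := E) (Or.inr rfl), mul_one] at this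

namespace DblP

variable (d : DblP E S t Z S₁ S₂)
include d

theorem red {p : ι → Prop} {m : G} (hm : m ∈ NZ Z) (h : ∀ r, p r → ∀ c, m * S.x r c = S.x r c * m) :
    ∃ n, n ∈ NL S₁ ∧ n ∈ NL S₂ ∧ m * t * m⁻¹ = n * t * n⁻¹ ∧
      (∀ r, p r → ∀ c, n * S₁.x r c = S₁.x r c * n) ∧
      ∀ r, p r → ∀ c, n * S₂.x r c = S₂.x r c * n := by
  have key : ∀ n ∈ NZ Z, n ∈ NL S₁ → ∀ r c, n * S.x r c = S.x r c * n →
      n * S₁.x r c = S₁.x r c * n ∧ n * S₂.x r c = S₂.x r c * n := fun n h1 h2 r c h3 => by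
    have := d.amb₁.split_unique (conj_mem h2 (S₁.x_mem_grp r c)) (S₁.x_mem_grp r c)
      (d.c21 (conj_mem (d.norm2 h1 h2) (S₂.x_mem_grp r c))) (d.c21 (S₂.x_mem_grp r c))
      (pgroup_zpowers_of_sq ((d.amb₁.cj n).x_sq r c)) (pgroup_zpowers_of_sq (d.amb₁.x_sq r c)) (by
        rw [← d.ext, ← mul_inv_eq_iff_eq_mul.2 h3, d.ext]; group)
    exact ⟨mul_inv_eq_iff_eq_mul.1 this.1, mul_inv_eq_iff_eq_mul.1 this.2⟩
  rcases d.idx hm with h1 | h1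
  · exact ⟨m, h1, d.norm2 hm h1, rfl, fun r hr c => (key m hm h1 r c (h r hr c)).1,
      fun r hr c => (key m hm h1 r c (h r hr c)).2⟩
  · have h2 := mul_mem hm d.toHats.t_mem
    have h3 : ∀ r, p r → ∀ c, m * t * S.x r c = S.x r c * (m * t) := fun r hr c => by
      rw [mul_assoc, ← d.toSit.com (S.x_mem_grp r c), ← mul_assoc, h r hr c, mul_assoc]
    exact ⟨m * t, h1, d.norm2 h2 h1, by group, fun r hr c => (key _ h2 h1 r c (h3 r hr c)).1,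
      fun r hr c => (key _ h2 h1 r c (h3 r hr c)).2⟩

theorem conj_t {m a b : G} (ha : a ∈ S₁.grp) (hb : b ∈ S₂.grp) (h1 : a⁻¹ * m ∈ CL S₁)
    (h2 : b⁻¹ * m ∈ CL S₂) : ∃ k ∈ centralizer ((⨆ r, Z r : Subgroup G) : Set G),
      m * t * m⁻¹ = k * (a * b * t * (a * b)⁻¹) := by
  have h3 : (a * b)⁻¹ * m ∈ centralizer ((⨆ r, Z r : Subgroup G) : Set G) := d.mem_W
    (by rw [mul_inv_rev, mul_assoc]; exact mul_mem (inv_mem (d.c21 hb)) h1)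
    (by rw [d.cm ha hb, mul_inv_rev, mul_assoc]; exact mul_mem (inv_mem (d.symm.c21 ha)) h2)
  have h4 := mul_mem h3 (conj_mem (norm_cent d.toHats.t_mem) (inv_mem h3))
  refine ⟨_, h4, ?_⟩
  rw [← mul_assoc, ← mul_assoc, ← mem_cent.1 h4 _ (mul_mem (d.le1 ha) (d.symm.le1 hb))]
  group

theorem uw : UW (NZ Z) t S.U := by
  have hZ : ∀ r a b, S₁.x r a * S₂.x r b ∈ Z r := fun r a b =>
    d.ZT r ▸ mul_mem (mem_sup_left (S₁.x_mem_X r a)) (mem_sup_right (S₂.x_mem_X r b))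
  refine d.toHats.uw d.u (fun m hm h => ?_) (fun m hm h => ?_) fun z hz => ?_
  · obtain ⟨n, n1, n2, e, h1, h2⟩ := d.red hm h
    obtain ⟨a, k, hk, e1⟩ := d.amb₁.cen_Q E.θ n1 (mem_cent_UU.2 fun r hr c => (h1 r hr c).symm)
    obtain ⟨b, k', hk', e2⟩ := d.amb₂.cen_Q E.θ n2 (mem_cent_UU.2 fun r hr c => (h2 r hr c).symm)
    exact ⟨_, hZ _ a b, e ▸ d.conj_t (S₁.x_mem_grp _ _) (S₂.x_mem_grp _ _)
      (by rwa [e1, inv_mul_cancel_left]) (by rwa [e2, inv_mul_cancel_left])⟩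
  · obtain ⟨n, n1, n2, e, h1, h2⟩ := d.red (p := fun r => Φ.Pos r ∧ r ≠ E.α) hm fun r h' => h r h'.1 h'.2
    obtain ⟨a, a', e1⟩ := d.amb₁.cen_R n1 fun r h3 h4 => h1 r ⟨h3, h4⟩
    obtain ⟨b, b', e2⟩ := d.amb₂.cen_R n2 fun r h3 h4 => h2 r ⟨h3, h4⟩
    refine ⟨_, hZ _ a b, _, hZ _ a' b', ?_⟩
    rw [e, mul_assoc (S₁.x E.θ a), ← mul_assoc (S₂.x E.θ b), ← d.c12, mul_assoc (S₁.x E.β a'),
      ← mul_assoc (S₁.x E.θ a)]
    exact d.conj_t (mul_mem (S₁.x_mem_grp _ _) (S₁.x_mem_grp _ _))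
      (mul_mem (S₂.x_mem_grp _ _) (S₂.x_mem_grp _ _)) e1 e2
  · rw [d.ZT] at hz
    obtain ⟨_, h1, _, h2, rfl⟩ :=
      mem_sup_comm (fun _ ha _ hb => d.cm (S₁.UU_le_grp _ ha) (S₂.UU_le_grp _ hb)) hz
    obtain ⟨a, rfl⟩ := S₁.mem_X_iff.1 h1
    obtain ⟨b, rfl⟩ := S₂.mem_X_iff.1 h2
    refine ⟨_, le_iSup Z _ (hZ E.α a b), _, S.x_mem_grp E.β 1, ?_⟩
    rw [d.ext, ← mul_one a, ← mul_one b, ← d.amb₁.rel.cm _ _ _ E.hβ, ← d.amb₂.rel.cm _ _ _ E.hβ,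
      mul_one, mul_one, ER.α]
    have a1 := S₁.x_mem_grp (Φ.simple E.i₀) a
    have b1 := S₁.x_mem_grp E.β 1
    have a2 := S₂.x_mem_grp (Φ.simple E.i₀) b
    have b2 := S₂.x_mem_grp E.β 1
    have h3 := mul_mem (mul_mem a2 b2) (inv_mem a2)
    rw [mul_assoc _ _⁻¹, d.cm (inv_mem b1) (mul_mem h3 (inv_mem b2)), mul_assoc _ _⁻¹,
      ← mul_assoc _⁻¹, ← mul_assoc _⁻¹, d.cm (inv_mem a1) h3]
    calc _ = S₁.x (Φ.simple E.i₀) a * (S₁.x E.β 1 * S₂.x (Φ.simple E.i₀) b) * S₂.x E.β 1 *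
        (S₁.x (Φ.simple E.i₀) a * S₂.x (Φ.simple E.i₀) b)⁻¹ * (S₁.x E.β 1 * S₂.x E.β 1)⁻¹ := by group
      _ = _ := by rw [d.c12]; group

theorem tN : t ∉ NL S₁ := fun h =>
  d.ne ((Coprime.mem_normalizer_iff_conj_smul_eq.1 h).symm.trans (d.conj_UU _))

theorem swap : Swap (NZ Z) (NZ Z ⊓ NL S₁) (NZ Z ⊓ CL S₂) (NZ Z ⊓ CL S₁) := by
  have e : MulAut.conj t • S₁.grp = S₂.grp := d.conj_UU _
  have := swap_of d.t2 d.toHats.t_mem d.tN (fun _ => d.idx) (by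
    rw [e]
    exact d.toHats.odd_W.of_dvd_nat (card_dvd_of_le fun x hx => d.mem_W hx.2.2 hx.1.2))
  rwa [e] at this

theorem not_mem {Gs : Subgroup G} (g : Glob Gs t) : t ∉ Gs := by
  have w := d.swap
  obtain ⟨B, _, _, l, hB, hl⟩ := exists_two_hom w.le fun a ha b hb => by
    by_cases h : b ∈ NZ Z ⊓ NL S₁
    · exact mul_mem (w.conj ha h) (inv_mem h)
    · exact w.idx _ (mul_mem (mul_mem ha hb) (inv_mem ha)) _ (inv_mem hb) (w.conj_not ha h)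
        fun e => h (inv_mem_iff.1 e)
  exact g.not_mem (not_mem_commutator d.t2 d.u.mem l (fun h => by
    obtain ⟨m, hm, h1⟩ := (hl _).1 h
    exact d.tN (mem_of_odd_pow (pgroup_zpowers_of_sq d.t2) hm h1).2) fun x hx _ => d.u.uniq x hx)

theorem L1_le : S₁.grp ≤ NZ Z := d.le1.trans le_normalizer

variable {P : Subgroup G} (hP : IsPGroup 2 P) (hU : S₁.U ≤ P)
include hP hU

theorem mem_split {w : G} (hw : w ∈ P ⊓ (NZ Z ⊓ NL S₁)) (h : w ∈ N0 S₁) :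
    w ∈ S₁.U ⊔ P ⊓ (NZ Z ⊓ CL S₁) := by
  obtain ⟨l, hl, c, hc, rfl⟩ :=
    d.amb₁.split h (d.amb₁.le_norm_U hP hU hw.1 hw.2.2) (pg_zpowers hP hw.1)
  exact mul_mem (mem_sup_left hl) (mem_sup_right ⟨(P.mul_mem_cancel_left (hU hl)).1 hw.1,
    (Subgroup.mul_mem_cancel_left _ (d.L1_le (S₁.U_le_grp hl))).1 hw.2.1, hc⟩)

omit d in
theorem inf_eq (A : Amb E S₁) : P ⊓ S₁.grp = S₁.U :=
  le_antisymm (A.inf_le_U hP hU) (le_inf hU S₁.U_le_grp)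

variable (h1 : P ≤ NZ Z) (ht : t ∈ P)
  (syl : ∀ R ≤ NZ Z, IsPGroup 2 R → ∃ g ∈ NZ Z, ∀ p ∈ R, g * p * g⁻¹ ∈ P)
include h1 ht syl

theorem prdL : PrdL (NZ Z) (NZ Z ⊓ NL S₁) (NZ Z ⊓ CL S₂) (NZ Z ⊓ CL S₁) P S₁.grp t := by
  have A := d.amb₁
  refine ⟨d.swap, hP, h1, ht, fun h => d.tN h.2, syl, le_inf d.L1_le d.symm.c21, inf_le_right,
    inf_le_right, ?_, ?_⟩ <;> rw [inf_eq hP hU A]
  · refine ⟨S₁.UU {E.θ, E.β}, S₁.UU_le_U (by rintro _ (rfl | rfl); exacts [E.pos_θ, E.pos_β]),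
      fun g hg => (A.norm_U_Z hg.2.2 (A.le_norm_U hP hU hg.1 hg.2.2)).2.2.2, fun a ha => ?_,
      _, S₁.x_mem_UU (Or.inl rfl) 1, _, S₁.x_mem_UU (Or.inr rfl) 1,
      fun e => one_ne_zero (A.x_eq_one.1 e), fun e => one_ne_zero (A.x_eq_one.1 e),
      fun e => A.ht_β_lt.ne' (congrArg _ (A.x_inj one_ne_zero e).1)⟩
    obtain ⟨c, e, rfl⟩ := A.mem_W_iff.1 ha
    rw [mul_assoc, ← mul_assoc (S₁.x E.β e), A.Z_cent (S₁.x_mem_X _ c) (S₁.x_mem_U E.pos_β e),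
      mul_assoc, A.x_sq, mul_one, A.x_sq]
  · refine d.uw.mono (le_inf (fun x hx => ?_) fun x hx =>
      mem_cent1.2 (d.toSit.com (S.U_le_grp hx)).symm)
    obtain ⟨a, ha, rfl⟩ := d.diag hx
    exact mul_mem (mem_sup_left ha) (mem_sup_right (Coprime.conj_mem_conj_smul ha))

theorem nu (hq : 2 < Nat.card F) : NUData (NZ Z) (NZ Z ⊓ NL S₁) (NZ Z ⊓ CL S₂) (NZ Z ⊓ CL S₁) P
    S₁.grp t fun i => S₁.UU ({r | Φ.Pos r} \ {Φ.simple i}) := by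
  have A := d.amb₁
  have ty : ∀ w ∈ P ⊓ (NZ Z ⊓ NL S₁) ⊓ centralizer (S₁.X E.θ : Set G),
      w ∉ S₁.U ⊔ P ⊓ (NZ Z ⊓ CL S₁) → E.γ ≠ 1 ∧ Typ S₁ w E.γ 1 := fun w hw h =>
    (A.typ_of_cent hw.1.2.2 (A.le_norm_U hP hU hw.1.1 hw.1.2.2) hw.2).resolve_left
      fun e => h (d.mem_split hP hU hw.1 e)
  refine ⟨d.prdL hP hU h1 ht syl, ?_, fun g g1 g2 => ?_, ?_, ?_, ?_, fun j w hw _ hc => ?_, ?_, ?_⟩
  · rw [inf_eq hP hU A]
    refine ⟨⟨_, S₁.x_mem_U (Φ.pos_simple E.i₀) 1, _, S₁.x_mem_U E.pos_β 1, fun e => ?_⟩,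
      fun w hw K hK => ?_, ?_, ?_⟩
    · have := A.rel.cm _ _ _ E.hβ 1 1
      rw [e, mul_inv_cancel_right, mul_inv_cancel, mul_one] at this
      exact one_ne_zero (A.x_eq_one.1 this.symm)
    · rw [A.center_U]
      exact A.cz hw.2.2 (A.le_norm_U hP hU hw.1 hw.2.2) hK
    · rw [A.center_U]
      exact fun w hw w' hw' h h' => d.mem_split hP hU (mul_mem hw.1 hw'.1)
        (Amb.mul_mem_N0 (ty w hw h).2 (ty w' hw' h').2)
    · rw [A.center_U]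
      exact fun w hw h J _ hJ => ⟨A.comm_le_of_index hq hJ, A.exists_gr hq hJ (ty w hw h).1
        (ty w hw h).2 (A.le_norm_U hP hU hw.1.1 hw.1.2.2)⟩
  · rw [StSys.grp, d.conj_UU] at g2
    rw [NZ, d.G0_eq]
    exact norm_sup (fun a ha => mem_sup_left (conj_mem g1 ha)) fun a ha => mem_sup_right (conj_mem g2 ha)
  · rw [inf_eq hP hU A]; exact fun K => A.fpf hq
  · rw [inf_eq hP hU A]; exact fun j => S₁.UU_le_U fun _ h => h.1
  · rw [inf_eq hP hU A]; exact fun j => (S₁.U_le_B.trans (StSys.B_le_P _)).trans (A.P_norm j)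
  · obtain ⟨u, hu, h⟩ := A.cR j hw.2 hc
    rw [← inv_mul_cancel_left u w]
    exact mul_mem (mem_sup_left (inv_mem hu))
      (mem_sup_right ⟨mul_mem (d.L1_le (S₁.UU_le_grp _ hu)) hw.1, h⟩)
  · rw [inf_eq hP hU A]; exact fun K => A.gen
  · rw [inf_eq hP hU A]; exact fun δ hδ ho ha => A.rn hq inf_le_right hδ ho ha

end DblP

/-- **Product case** -/
theorem DblP.false (d : DblP E S t Z S₁ S₂) {Gs : Subgroup G} (g : Glob Gs t) : False := by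
  haveI : Fact (Nat.Prime 2) := ⟨Nat.prime_two⟩
  have A := d.amb₁
  have ht := d.not_mem g
  have s1 : S₁.grp ≤ Gs := g.pf_le A.pf_grp.1
  have s2 : S₂.grp ≤ Gs := g.pf_le d.amb₂.pf_grp.1
  obtain ⟨P, h0, h1, hP, syl⟩ := exists_syl ((pgroup_zpowers_of_sq d.t2).to_sup_of_normal_right'
    (pg_sup_comm A.pg_U d.amb₂.pg_U fun _ ha _ hb => d.cm (S₁.U_le_grp ha) (S₂.U_le_grp hb))
    (zpowers_le.2 (norm_sup
      (fun a ha => mem_sup_right ((d.conj_UU _).le (Coprime.conj_mem_conj_smul (g := t) ha)))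
      fun a ha => mem_sup_left ((d.symm.conj_UU _).le (Coprime.conj_mem_conj_smul (g := t) ha)))))
    (sup_le (zpowers_le.2 d.u.mem) (sup_le (S₁.U_le_grp.trans d.L1_le)
      (S₂.U_le_grp.trans d.symm.L1_le)))
  have hU : S₁.U ≤ P := (le_sup_left.trans le_sup_right).trans h0
  have tP : t ∈ P := h0 (mem_sup_left (mem_zpowers t))
  have x1 : S₁.x E.θ 1 ≠ 1 := fun e => one_ne_zero (A.x_eq_one.1 e)
  have h2 : Gs ≤ NZ Z := le_of_invol g.simple (s1 (S₁.x_mem_grp _ _)) x1 (A.x_sq _ _) fun u hu u2 => by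
    rcases (two_le_card (F := F)).lt_or_eq with hq | hq
    · exact (d.nu hP hU h1 tP syl hq).mem d.u (g.index ht) ht hu u2
    have ty : ∀ a ∈ NL S₁, a ∉ N0 S₁ → Typ S₁ a E.γ 1 := fun a ha h => by
      obtain ⟨π, σ, hπ, h3⟩ := A.aut a ha
      have := finite_aut (F := F)
      have e : Nat.card (F ≃+* F) = 1 :=
        Nat.pow_right_injective le_rfl ((card_aut.symm.trans hq.symm).trans (pow_one 2).symm)
      obtain rfl : σ = 1 := (Nat.card_eq_one_iff_unique.1 e).1.elim _ _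
      rcases hπ with rfl | rfl
      exacts [absurd h3 h, h3]
    refine (d.prdL hP hU h1 tP syl).mem d.u (g.index ht) ht g.perf s1 (le_sup_left.trans le_N0)
      (inf_le_right.trans (le_sup_right.trans le_N0))
      (fun a ha b hb h h' => Amb.mul_mem_N0 (ty a ha.2 h) (ty b hb.2 h')) (fun w hw h => ?_) hu u2
    rw [DblP.inf_eq hP hU A]
    exact d.mem_split hP hU hw h
  have e : ⨆ r, Z r = Gs := g.eq_of_norm (d.G0_eq ▸ sup_le s1 s2) h2 (d.le1 (S₁.x_mem_grp _ _)) x1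
  exact d.ne ((g.eq_of_norm s1 (e ▸ d.norm1) (S₁.x_mem_grp _ _) x1).trans
    (g.eq_of_norm s2 (e ▸ d.symm.norm1) (S₂.x_mem_grp E.θ 1)
      fun e => one_ne_zero (d.amb₂.x_eq_one.1 e)).symm)

end CfsgLib.SLE
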