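import Mathlib
import Cfsg.Agent.Lib.SLE.Hat2

/-!
# The coordinate ring of the hats
-/

set_option autoImplicit false
set_option linter.unusedSectionVars false

namespace CfsgLib.SLE

open CfsgLib.RGD CfsgLib.Stein Subgroup
open scoped commutatorElement Pointwise

universe u

variable {ι κ : Type} [Fintype κ] [DecidableEq κ] [Finite ι] {Φ : RootSys ι κ} {E : ER Φ}
  {F : Type} [Field F] [Finite F] [CharP F 2] {G : Type u} [Group G] [Finite G]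
  {S : StSys Φ F G}

omit [Finite ι] [Finite F] [CharP F 2] [Finite G] in
/-- the hats are `x_r(a) m_r(b)`; the coordinate ring is `F[ω] / (ω² + ω + c)` -/
structure RingD (E : ER Φ) (S : StSys Φ F G) (t : G) (Z : ι → Subgroup G) (m : ι → F → G) (c : F) :
    Prop extends Hats2 E S t Z where
  mZ : ∀ r u, m r u ∈ Z r
  add : ∀ r u v, m r (u + v) = m r u * m r v
  tm : ∀ r u, t * m r u * t⁻¹ = m r u * S.x r u
  mx : ∀ a b r, RAdd Φ a b r → ∀ u v, m a u * S.x b v * (m a u)⁻¹ * (S.x b v)⁻¹ = m r (u * v)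
  mm : ∀ a b r, RAdd Φ a b r → ∀ u v,
    m a u * m b v * (m a u)⁻¹ * (m b v)⁻¹ = S.x r (c * (u * v)) * m r (u * v)

theorem rg_exa_comm {n g k : G} : n * (g * k * g⁻¹ * k⁻¹) * n⁻¹ =
    n * g * n⁻¹ * (n * k * n⁻¹) * (n * g * n⁻¹)⁻¹ * (n * k * n⁻¹)⁻¹ := by group

namespace Hats2

variable {t : G} {Z : ι → Subgroup G} (h : Hats2 E S t Z)
include h

theorem cm_left {a b r : ι} (hr : RAdd Φ a b r) {g g' k : G} (hg : g ∈ Z a) (hg' : g' ∈ Z a)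
    (hk : k ∈ Z b) :
    g * g' * k * (g * g')⁻¹ * k⁻¹ = g * k * g⁻¹ * k⁻¹ * (g' * k * g'⁻¹ * k⁻¹) := by
  have h1 := h.cz a b r hr g' hg' k hk
  have h2 := h.cz a b r hr g hg k hk
  rw [h.toHats.com_self h2 h1, ← ht2_conj (h.com a r (by rw [(E.radd_ip hr).2.1]; omega) g hg _ h1)]
  group

theorem cm_right {a b r : ι} (hr : RAdd Φ a b r) {g k k' : G} (hg : g ∈ Z a) (hk : k ∈ Z b)
    (hk' : k' ∈ Z b) :
    g * (k * k') * g⁻¹ * (k * k')⁻¹ = g * k * g⁻¹ * k⁻¹ * (g * k' * g⁻¹ * k'⁻¹) := by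
  have h1 := h.cz a b r hr g hg k' hk'
  rw [← ht2_conj (h.com b r (by rw [(E.radd_ip hr).2.2]; omega) k hk _ h1)]
  group

theorem cm_symm {a b r : ι} (hr : RAdd Φ a b r) {g k : G} (hg : g ∈ Z a) (hk : k ∈ Z b) :
    k * g * k⁻¹ * g⁻¹ = g * k * g⁻¹ * k⁻¹ := by
  rw [← ht2_inv (h.toHats.sq (h.cz a b r hr g hg k hk))]
  group

/-- associativity of commutators -/
theorem cm_assoc {a b d p q r : ι} (hp : RAdd Φ a b p) (hq : RAdd Φ b d q) (hr : RAdd Φ p d r)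
    (ad : ip Φ a d = 0) {x y z : G} (hx : x ∈ Z a) (hy : y ∈ Z b) (hz : z ∈ Z d) :
    x * y * x⁻¹ * y⁻¹ * z * (x * y * x⁻¹ * y⁻¹)⁻¹ * z⁻¹ =
      x * (y * z * y⁻¹ * z⁻¹) * x⁻¹ * (y * z * y⁻¹ * z⁻¹)⁻¹ := by
  have hr' : RAdd Φ a q r := fun j => by rw [hr j, hp j, hq j, add_assoc]
  have h1 := h.cz a b p hp x hx y hy
  have h2 := h.cz b d q hq y hy z hz
  have h3 := h.cz p d r hr _ h1 z hz
  have pq : 0 ≤ ip Φ p q := by
    have := hp.ip_left q; have := E.radd_ip hq; have := E.radd_ip hr'; omega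
  have c1 := h.com p q pq _ h1 _ h2
  have c2 := h.com q r (by rw [(E.radd_ip hr').2.2]; omega) _ h2 _ h3
  have c3 := ht2_conj (h.com a d (by omega) x hx z hz)
  have e1 : x * (y * z * y⁻¹ * z⁻¹) * x⁻¹ = x * y * x⁻¹ * y⁻¹ * (y * z * y⁻¹ * z⁻¹) *
      (x * y * x⁻¹ * y⁻¹)⁻¹ * (x * y * x⁻¹ * y⁻¹ * z * (x * y * x⁻¹ * y⁻¹)⁻¹ * z⁻¹) := by
    rw [rg_exa_comm, c3]; group
  rw [e1, ht2_conj c1, c2, mul_inv_cancel_right]

theorem rg_fix {n : G} {w : Equiv.Perm ι} (hn : n ∈ S.grp) (he : Exa S n w) {r : ι} (hw : w r = r)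
    {g : G} (hg : g ∈ Z r) : n * g * n⁻¹ = g := by
  have h1 : n ∈ Y S r := by
    rw [← h.amb.cent_x r (one_ne_zero (α := F))]
    exact ⟨hn, mem_centralizer_singleton_iff.2 (ht2_of_conj (by rw [he r 1, hw]))⟩
  exact ht2_conj (h.toHats.cent hg n h1)

/-- a coherent choice of hats over `1` -/
theorem exists_mu : ∃ μ : ι → G, (∀ r, μ r ∈ Z r) ∧ (∀ r, μ r * t * (μ r)⁻¹ = t * S.x r 1) ∧
    ∀ n ∈ S.grp, ∀ w ∈ Φ.W, Exa S n w → ∀ r, n * μ r * n⁻¹ = μ (w r) := by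
  obtain ⟨v, hv, e⟩ := h.surj E.θ 1
  choose w hw hwθ using E.exists_θ
  choose n hn he using fun r => h.amb.exists_exa (hw r)
  have hn' : ∀ r, n r ∈ S.grp := fun r => S.N_le_grp (h.amb.N1_le (hn r))
  refine ⟨fun r => n r * v * (n r)⁻¹, fun r => ?_, fun r => ?_, fun l hl u hu hlu r => ?_⟩
  · have := h.toHats.exa (hn' r) (hw r) (he r) hv
    rwa [hwθ] at this
  · have e1 := he r E.θ 1
    rw [hwθ] at e1
    rw [← e1]
    conv => rw [← ht2_conj (h.toSit.com (hn' r))]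
    rw [conj_mul, conj_mul, ← e]; group
  · have := h.rg_fix (mul_mem (inv_mem (hn' (u r))) (mul_mem hl (hn' r)))
      ((he (u r)).inv.mul (hlu.mul (he r))) (r := E.θ) (by
        rw [Equiv.Perm.mul_apply, Equiv.Perm.mul_apply, hwθ, Equiv.Perm.inv_eq_iff_eq, hwθ]) hv
    conv_rhs => rw [← this]
    group

theorem rg_trans {a b r a' b' r' : ι} (hr : RAdd Φ a b r) (hr' : RAdd Φ a' b' r') :
    ∃ n ∈ S.grp, ∃ w ∈ Φ.W, Exa S n w ∧ w a = a' ∧ w b = b' ∧ w r = r' := by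
  obtain ⟨w, hw, e1, e2⟩ := E.ptrans ((E.radd_ip hr).1.trans (E.radd_ip hr').1.symm)
  obtain ⟨n, hn, he⟩ := h.amb.exists_exa hw
  have := hr.apply hw
  rw [e1, e2] at this
  exact ⟨n, S.N_le_grp (h.amb.N1_le hn), w, hw, he, e1, e2, this.unique' hr'⟩

theorem rg_split {a b r : ι} (hr : RAdd Φ a b r) :
    ∃ a' b' k, RAdd Φ a' b' a ∧ RAdd Φ b' b k ∧ RAdd Φ a' k r ∧ ip Φ a' b = 0 := by
  have p := E.radd_ip hr
  obtain ⟨e, ea, er⟩ := E.ex2' p.2.1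
  obtain ⟨d, hd⟩ := E.exists_sub ea
  have eb : ip Φ e b = 0 := by have := hr.ip_right e; omega
  obtain ⟨k, hk⟩ := E.exists_add (a := d) (b := b) (by have := hd.ip_left b; omega)
  exact ⟨e, d, k, hd, hk, fun j => by rw [hr j, hd j, hk j, add_assoc], eb⟩

theorem exists_m : ∃ m : ι → F → G, (∀ r u, m r u ∈ Z r) ∧
    (∀ r u v, m r (u + v) = m r u * m r v) ∧ (∀ r u, t * m r u * t⁻¹ = m r u * S.x r u) ∧
    (∀ a b r, RAdd Φ a b r → ∀ u v, m a u * S.x b v * (m a u)⁻¹ * (S.x b v)⁻¹ = m r (u * v)) ∧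
    ∀ n ∈ S.grp, ∀ w ∈ Φ.W, Exa S n w → ∀ r u, n * m r u * n⁻¹ = m (w r) u := by
  obtain ⟨μ, hμ, μt, μn⟩ := h.exists_mu
  choose α β hαβ using E.exists_radd
  have xZ := h.toHats.xZ
  have ind : ∀ a b r, RAdd Φ a b r → ∀ u, μ a * S.x b u * (μ a)⁻¹ * (S.x b u)⁻¹ =
      μ (α r) * S.x (β r) u * (μ (α r))⁻¹ * (S.x (β r) u)⁻¹ := fun a b r hr u => by
    obtain ⟨n, hn, w, hw, he, e1, e2, e3⟩ := h.rg_trans hr (hαβ r)
    rw [← h.rg_fix hn he e3 (h.cx a b r hr _ (hμ a) u), rg_exa_comm, μn n hn w hw he, he b u, e1, e2]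
  refine ⟨fun r u => μ (α r) * S.x (β r) u * (μ (α r))⁻¹ * (S.x (β r) u)⁻¹,
    fun r u => h.cx _ _ r (hαβ r) _ (hμ _) u, fun r u v => ?_, fun r u => ?_,
    fun a b r hr u v => ?_, fun n hn w hw he r u => ?_⟩
  all_goals beta_reduce
  · rw [S.x_add, h.cm_right (hαβ r) (hμ _) (xZ _ _) (xZ _ _)]
  · have h1 := h.toHats.cx_t (hαβ r) (hμ _) (μt _) u
    have h2 := h.cx _ _ r (hαβ r) _ (hμ _) u
    generalize μ (α r) * S.x (β r) u * (μ (α r))⁻¹ * (S.x (β r) u)⁻¹ = k at h1 h2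
    rw [mul_one, ht2_inv (h.toHats.sq h2)] at h1
    rw [h.toHats.com_self h2 (xZ r u), ht2_inv h.t2]
    calc t * k * t = t * (k * t * k) * k := by
          simp only [mul_assoc, h.toHats.sq h2, mul_one]
      _ = _ := by rw [h1, ← mul_assoc, h.t2, one_mul]
  · obtain ⟨a', b', k, h1, h2, h3, h4⟩ := h.rg_split hr
    rw [← ind a' b' a h1, h.cm_assoc h1 h2 hr h4 (hμ _) (xZ _ _) (xZ _ _), h.amb.rel.cm _ _ _ h2,
      ind _ _ _ h3]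
  · rw [rg_exa_comm, μn n hn w hw he, he, ind _ _ _ ((hαβ r).apply hw)]

end Hats2

theorem Hats2.ringD {t : G} {Z : ι → Subgroup G} (h : Hats2 E S t Z) :
    ∃ m c, RingD E S t Z m c := by
  obtain ⟨m, mZ, add, tm, mx, mn⟩ := h.exists_m
  have xZ := h.toHats.xZ
  have xm : ∀ a b r, RAdd Φ a b r → ∀ u v,
      S.x a u * m b v * (S.x a u)⁻¹ * (m b v)⁻¹ = m r (u * v) := fun a b r hr u v => by
    rw [h.cm_symm hr.symm (mZ _ _) (xZ _ _), mx _ _ _ hr.symm, mul_comm]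
  have hr₀ : RAdd Φ E.α E.β E.θ := E.hβ
  obtain ⟨c, hc⟩ : ∃ c, m E.α 1 * m E.β 1 * (m E.α 1)⁻¹ * (m E.β 1)⁻¹ = S.x E.θ c * m E.θ 1 := by
    have h1 := h.cz _ _ _ hr₀ _ (mZ _ 1) _ (mZ _ 1)
    have e1 : t * (m E.α 1 * m E.β 1 * (m E.α 1)⁻¹ * (m E.β 1)⁻¹) * t⁻¹ =
        m E.α 1 * m E.β 1 * (m E.α 1)⁻¹ * (m E.β 1)⁻¹ * S.x E.θ 1 := by
      rw [rg_exa_comm, tm, tm, h.cm_left hr₀ (mZ _ _) (xZ _ _) (mul_mem (mZ _ _) (xZ _ _)),
        h.cm_right hr₀ (mZ _ _) (mZ _ _) (xZ _ _), h.cm_right hr₀ (xZ _ _) (mZ _ _) (xZ _ _),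
        mx _ _ _ hr₀, xm _ _ _ hr₀, h.amb.rel.cm _ _ _ hr₀, mul_one, mul_assoc _ (m E.θ 1),
        ← mul_assoc (m E.θ 1), h.toHats.sq (mZ _ _), one_mul]
    generalize m E.α 1 * m E.β 1 * (m E.α 1)⁻¹ * (m E.β 1)⁻¹ = k at e1 h1 ⊢
    obtain ⟨c, hc⟩ := S.mem_X_iff.1 (h.ker E.θ _ (mul_mem h1 (inv_mem (mZ _ 1))) (ht2_of_conj (by
      rw [← conj_mul, e1, ← conj_inv, tm]; group)).symm)
    exact ⟨c, by rw [← hc]; group⟩
  have t1 : ∀ a b r, RAdd Φ a b r →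
      m a 1 * m b 1 * (m a 1)⁻¹ * (m b 1)⁻¹ = S.x r c * m r 1 := fun a b r hr => by
    obtain ⟨n, hn, w, hw, he, e1, e2, e3⟩ := h.rg_trans hr₀ hr
    rw [← e1, ← e2, ← e3, ← mn n hn w hw he, ← mn n hn w hw he, ← mn n hn w hw he, ← he,
      ← rg_exa_comm, hc, conj_mul]
  have t2 : ∀ a b r, RAdd Φ a b r → ∀ v,
      m a 1 * m b v * (m a 1)⁻¹ * (m b v)⁻¹ = S.x r (c * v) * m r v := fun a b r hr v => by
    obtain ⟨d, b', p, h1, h2, h3, h4⟩ := h.rg_split hr.symm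
    have := h.cm_assoc h2.symm h1.symm h3.symm (by rw [ip_comm, h4]) (mZ a 1) (mZ b' 1) (xZ d v)
    rw [mx _ _ _ h1.symm, one_mul, t1 _ _ _ h2.symm,
      h.cm_left h3.symm (xZ _ _) (mZ _ _) (xZ _ _), h.amb.rel.cm _ _ _ h3.symm,
      mx _ _ _ h3.symm, one_mul] at this
    exact this.symm
  refine ⟨m, c, { h with mZ := mZ, add := add, tm := tm, mx := mx, mm := fun a b r hr u v => ?_ }⟩
  obtain ⟨a', b', k, h1, h2, h3, h4⟩ := h.rg_split hr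
  have := h.cm_assoc h1 h2 hr h4 (mZ a' 1) (xZ b' u) (mZ b v)
  rw [mx _ _ _ h1, one_mul, xm _ _ _ h2, t2 _ _ _ h3] at this
  exact this

end CfsgLib.SLE
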