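import Mathlib
import Cfsg.Agent.Lib.SLE.Ring1

/-!
# The field case and the product case
-/

set_option autoImplicit false
set_option linter.unusedSectionVars false

namespace CfsgLib.SLE

open CfsgLib.RGD CfsgLib.Stein Subgroup
open scoped commutatorElement Pointwise

universe u

variable {ι κ : Type} [Fintype κ] [DecidableEq κ] [Finite ι] {Φ : RootSys ι κ} {E : ER Φ}
  {F : Type} [Field F] [Finite F] [CharP F 2] {G : Type u} [Group G] [Finite G]
  {S : StSys Φ F G}

namespace RingD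

variable {t : G} {Z : ι → Subgroup G} {m : ι → F → G} {c : F} (h : RingD E S t Z m c)
  (hK : Kit.{u} E)

section
include h

theorem xZ (r : ι) (p : F) : S.x r p ∈ Z r := h.toHats.xZ r p

theorem yZ (r : ι) (p q : F) : S.x r p * m r q ∈ Z r := mul_mem (h.xZ r p) (h.mZ r q)

theorem m_zero (r : ι) : m r 0 = 1 := by
  have := h.add r 0 0
  rw [add_zero] at this
  exact left_eq_mul.1 this

theorem y_add (r : ι) (p q p' q' : F) :
    S.x r (p + p') * m r (q + q') = S.x r p * m r q * (S.x r p' * m r q') := by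
  rw [S.x_add, h.add, mul_assoc, mul_assoc, ← mul_assoc (S.x r p'),
    h.toHats.com_self (h.xZ r p') (h.mZ r q), mul_assoc]

theorem y_cm {a b r : ι} (hr : RAdd Φ a b r) (p q p' q' : F) :
    S.x a p * m a q * (S.x b p' * m b q') * (S.x a p * m a q)⁻¹ * (S.x b p' * m b q')⁻¹ =
      S.x r (p * p' + c * (q * q')) * m r (p * q' + q * p' + q * q') := by
  have H := h.toHats2
  rw [H.cm_left hr (h.xZ _ _) (h.mZ _ _) (h.yZ _ _ _), H.cm_right hr (h.xZ _ _) (h.xZ _ _) (h.mZ _ _),
    H.cm_right hr (h.mZ _ _) (h.xZ _ _) (h.mZ _ _), h.amb.rel.cm _ _ _ hr, h.mx _ _ _ hr,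
    h.mm _ _ _ hr, H.cm_symm hr.symm (h.mZ _ _) (h.xZ _ _), h.mx _ _ _ hr.symm, h.y_add, h.add,
    mul_comm q' p]
  simp only [mul_assoc]

theorem t_y (r : ι) (p q : F) : t * (S.x r p * m r q) * t⁻¹ = S.x r (p + q) * m r q := by
  rw [← conj_mul, h.tm, ht2_conj (h.toHats.xt2 r p).symm, S.x_add,
    ← h.toHats.com_self (h.xZ r q) (h.mZ r q), mul_assoc]

theorem y_ne (r : ι) (p : F) : S.x r p * m r 1 ≠ 1 := fun e => by
  have h1 := h.t_y r p 1
  rw [e, add_comm, S.x_add, mul_assoc (S.x r 1), e, mul_one, mul_one, mul_inv_cancel] at h1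
  exact one_ne_zero (h.amb.x_eq_one.1 h1.symm)

theorem exists_y {r : ι} {g : G} (hg : g ∈ Z r) : ∃ p q, g = S.x r p * m r q := by
  obtain ⟨q, hq⟩ := h.toHats.ovr hg
  have m2 := h.toHats.sq (h.mZ r q)
  have e : m r q * t * (m r q)⁻¹ = t * S.x r q := by
    have h1 := h.tm r q
    rw [ht2_inv h.t2, ← h.toHats.com_self (h.xZ r q) (h.mZ r q)] at h1
    rw [ht2_inv m2]
    calc m r q * t * m r q = t * (t * m r q * t) * m r q := by
          simp only [← mul_assoc, h.t2, one_mul]
      _ = _ := by rw [h1]; simp only [mul_assoc, m2, mul_one]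
  obtain ⟨p, hp⟩ := h.toHats.ovr_eq hg (h.mZ r q) (hq.trans e.symm)
  exact ⟨p, q, hp.trans (h.toHats.com_self (h.mZ r q) (h.xZ r p))⟩

theorem rel_idem {e : F} (hc : e * e + e = c) : Rel Φ fun r u => S.x r (u * e) * m r u := by
  have h2 : (2 : F) = 0 := CharTwo.two_eq_zero
  refine ⟨fun r u v => ?_, fun a b r hr u v => ?_,
    fun a b hr u v => h.com a b hr _ (h.yZ _ _ _) _ (h.yZ _ _ _)⟩
  · rw [add_mul, h.y_add]
  · rw [h.y_cm hr]
    congr 2
    · linear_combination (-(u * v)) * hc + u * v * e * e * h2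
    · linear_combination u * v * e * h2

end

include h hK

theorem dblF (hc : ∀ e : F, e * e + e ≠ c) : ∃ (K : Type) (_ : Field K) (_ : Finite K)
    (_ : CharP K 2) (T : StSys Φ K G) (f : F →+* K) (τ : K ≃+* K), DblF E S t Z T f τ := by
  have h2 : (2 : F) = 0 := CharTwo.two_eq_zero
  have : Fact (∀ r : F, r ^ 2 ≠ c + 1 * r) :=
    ⟨fun r e => hc r (by linear_combination e + r * h2)⟩
  have : Finite (QuadraticAlgebra F c 1) :=
    Finite.of_equiv _ (QuadraticAlgebra.equivProd c 1).symm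
  have : CharP (QuadraticAlgebra F c 1) 2 :=
    charP_of_injective_algebraMap (QuadraticAlgebra.algebraMap_injective (R := F)) 2
  obtain ⟨T, hT, hA⟩ := hK (QuadraticAlgebra F c 1) G (fun r v => S.x r v.re * m r v.im)
    ⟨fun r u v => h.y_add r _ _ _ _, fun a b r hr u v => by
      rw [h.y_cm hr, QuadraticAlgebra.re_mul, QuadraticAlgebra.im_mul, one_mul, mul_assoc c],
      fun a b hr u v => h.com a b hr _ (h.yZ _ _ _) _ (h.yZ _ _ _)⟩
    ⟨E.θ, ⟨0, 1⟩, h.y_ne _ _⟩
  refine ⟨QuadraticAlgebra F c 1, inferInstance, inferInstance, inferInstance, T,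
    algebraMap F _, starRingAut, { h.toHats2 with
      ambT := hA, card := ?_, ext := fun r u => ?_, tT := fun r v => ?_, fix := fun v => ?_,
      ZT := fun r => ?_ }⟩
  · rw [Nat.card_congr (QuadraticAlgebra.equivProd c 1), Nat.card_prod, pow_two]
  · simp only [hT, QuadraticAlgebra.algebraMap_re, QuadraticAlgebra.algebraMap_im, h.m_zero, mul_one]
  · simp only [hT, starRingAut_apply, QuadraticAlgebra.re_star, QuadraticAlgebra.im_star, one_mul,
      CharTwo.neg_eq, h.t_y]
  · rw [starRingAut_apply]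
    constructor
    · intro e
      have e1 := congrArg QuadraticAlgebra.re e
      rw [QuadraticAlgebra.re_star, one_mul, add_eq_left] at e1
      exact ⟨v.re, QuadraticAlgebra.ext rfl e1⟩
    · rintro ⟨u, rfl⟩
      ext <;> simp
  · ext g
    rw [T.mem_X_iff, hT]
    constructor
    · intro hg
      obtain ⟨p, q, e⟩ := h.exists_y hg
      exact ⟨⟨p, q⟩, e⟩
    · rintro ⟨v, rfl⟩
      exact h.yZ _ _ _

theorem dblP {e : F} (hc : e * e + e = c) : ∃ S₁ S₂ : StSys Φ F G, DblP E S t Z S₁ S₂ := by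
  have h2 : (2 : F) = 0 := CharTwo.two_eq_zero
  have hc' : (e + 1) * (e + 1) + (e + 1) = c := by linear_combination hc + (e + 1) * h2
  obtain ⟨S₁, e1, A₁⟩ := hK F G _ (h.rel_idem hc) ⟨E.θ, 1, h.y_ne _ _⟩
  obtain ⟨S₂, e2, A₂⟩ := hK F G _ (h.rel_idem hc') ⟨E.θ, 1, h.y_ne _ _⟩
  have c1 : ∀ r s, -1 ≤ ip Φ r s → ∀ u v, S₁.x r u * S₂.x s v = S₂.x s v * S₁.x r u := by
    intro r s hrs u v
    simp only [e1, e2]
    by_cases h0 : 0 ≤ ip Φ r s
    · exact h.com r s h0 _ (h.yZ _ _ _) _ (h.yZ _ _ _)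
    obtain ⟨k, hk⟩ := E.exists_add (a := r) (b := s) (by omega)
    have := h.y_cm hk (u * e) u (v * (e + 1)) v
    rw [show u * e * (v * (e + 1)) + c * (u * v) = 0 by
        linear_combination (-(u * v)) * hc + u * v * (e * e + e) * h2,
      show u * e * v + u * (v * (e + 1)) + u * v = 0 by linear_combination u * v * (e + 1) * h2,
      S.x_zero, h.m_zero, mul_one, mul_inv_eq_one, mul_inv_eq_iff_eq_mul] at this
    exact this
  refine ⟨S₁, S₂, { h.toHats2 with
    amb₁ := A₁, amb₂ := A₂, c12 := fun r s u v => ?_, ext := fun r u => ?_, t12 := fun r u => ?_,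
    ZT := fun r => ?_ }⟩
  · by_cases h0 : -1 ≤ ip Φ r s
    · exact c1 r s h0 u v
    obtain rfl := E.eq_neg_of_ip (r := r) (s := s) (by omega)
    obtain ⟨a, b, hab⟩ := E.exists_radd (Φ.neg r)
    have p := E.radd_ip hab
    rw [ip_neg_right, ip_neg_right, ip_comm a r, ip_comm b r] at p
    have ca : Commute (S₁.x r u) (S₂.x a v) := c1 r a (by omega) u v
    have cb : Commute (S₁.x r u) (S₂.x b 1) := c1 r b (by omega) u 1
    rw [← mul_one v, ← A₂.rel.cm a b _ hab]
    exact ((ca.mul_right cb).mul_right ca.inv_right).mul_right cb.inv_right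
  · simp only [e1, e2]
    rw [← h.y_add, CharTwo.add_self_eq_zero, h.m_zero, mul_one]
    congr 1
    linear_combination (-(u * e)) * h2
  · simp only [e1, e2]
    rw [h.t_y, mul_add, mul_one]
  · refine le_antisymm (fun g hg => ?_) (sup_le (fun g hg => ?_) fun g hg => ?_)
    · obtain ⟨p, q, rfl⟩ := h.exists_y hg
      have := mul_mem_sup (S₁.x_mem_X r (q + (p + q * e))) (S₂.x_mem_X r (p + q * e))
      simp only [e1, e2] at this
      rwa [← h.y_add, show (q + (p + q * e)) * e + (p + q * e) * (e + 1) = p by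
        linear_combination (q * e + p * e + q * e * e) * h2,
        show q + (p + q * e) + (p + q * e) = q by linear_combination (p + q * e) * h2] at this
    · obtain ⟨u, rfl⟩ := S₁.mem_X_iff.1 hg
      rw [e1]; exact h.yZ _ _ _
    · obtain ⟨u, rfl⟩ := S₂.mem_X_iff.1 hg
      rw [e2]; exact h.yZ _ _ _

end RingD

end CfsgLib.SLE
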