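import Mathlib
import Cfsg.Agent.Lib.SLE.MDefs
import Cfsg.Agent.Lib.SLE.RootT
import Cfsg.Agent.Lib.ChevAut.SymCert

/-!
# The root data of the models
-/

set_option autoImplicit false

namespace CfsgLib.SLE

open Cfsg.Lie CfsgLib.RGD CfsgLib.Stein CfsgLib.Weyl CfsgLib.Chev Subgroup
open scoped commutatorElement Pointwise

universe u

attribute [local instance high] decAll decEx

/-- the numerical form of `ER` -/
structure NER (N n : ℕ) (f : ℕ → ℕ → ℤ) (S : ℕ → ℕ) (θ i₀ β a₀ b₀ ρ : ℕ) (g : ℕ → ℕ) : Prop where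
  lt : θ < N ∧ i₀ < n ∧ β < N ∧ a₀ < N ∧ b₀ < N ∧ 6 ≤ N
  top : ∀ i < n, f (S i) θ = if i = i₀ then 1 else 0
  hβ : NAdd f (S i₀) β θ
  up : ∀ r < N, r ≠ θ → ∃ i < n, f r (S i) < 0
  dom0 : ∀ r < N, f r θ = 0 → (∀ i < n, i ≠ i₀ → 0 ≤ f r (S i)) → r = ρ
  up2 : ∀ r < N, N ≤ 2 * r → r ≠ θ → r ≠ β → ∃ e < N, N ≤ 2 * e ∧ e ≠ S i₀ ∧ f r e = -1
  elQ : ∀ r < N, f r θ = 0 → ∃ a < N, f a θ = 1 ∧ f r a = -1
  dec1 : ∀ d < N, 0 ≤ f d θ → ∃ a < N, 0 ≤ f a θ ∧ f a d = 1 ∧ f a θ ≤ f d θ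
  dec2 : ∀ d < N, 0 ≤ f d θ → 0 ≤ f d β →
    ∃ a < N, 0 ≤ f a θ ∧ 0 ≤ f a β ∧ f a d = 1 ∧ f a θ ≤ f d θ ∧ f a β ≤ f d β
  ex2 : ∃ a < N, f a β = 1 ∧ f a θ = 1
  ex3 : ∀ s < N, f s θ = 0 → f s β ≠ 0 → ∃ a < N, f a β = 1 ∧ f a θ = 1 ∧ f a s = 0
  rf1 : ∀ r < N, f r θ = 1 → f r β = 1 → ∃ s < N, f s θ = 0 ∧ f s β = 0 ∧ f s r = -1
  rf2 : ∀ r < N, f r θ = 1 → (f r β = 0 ∨ f r β = 1) → ∀ r' < N, f r' θ = 1 →
    (f r' β = 0 ∨ f r' β = 1) → r' ≠ r → ∃ s < N, f s θ = 0 ∧ f s r' = -1 ∧ f s β = 0 ∧ 0 ≤ f s r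
  ort : f a₀ b₀ = 0
  odom : ∀ i < n, 0 ≤ f (S i) a₀ + f (S i) b₀
  ogen : ∀ i < n, ∃ a < N, f (S i) a = -1 ∧ 1 ≤ f a a₀ + f a b₀
  oel : ∀ r < N, N ≤ 2 * r → f r a₀ + f r b₀ < 2 → ∃ e < N, 1 ≤ f e a₀ + f e b₀ ∧ f r e = -1
  oel2 : ∀ r < N, f r a₀ = 1 → f r b₀ = 1 → ∃ e < N, f e a₀ = 0 ∧ f e b₀ = 0 ∧ f e r = -1
  eps : ∃ e < N, f e a₀ = 1 ∧ f e b₀ = 1
  γ2 : ∀ r < N, g r < N ∧ g (g r) = r ∧ g (N - 1 - r) = N - 1 - g r ∧ 0 ≤ f r (g r)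
  γs : ∀ i < n, ∃ j < n, g (S i) = S j
  γip : (∀ r < N, g r = r) ∨ ∀ r < N, ∀ s < N, f (g r) (g s) = f r s
  gdec : ∀ r < N, ∃ a < N, f a r = 1 ∧ (g r = r → g a = a) ∧ (g r ≠ r → f a (g a) ≤ f a (g r))
  gr : (∀ r < N, g r = r) ∨ ∃ r' < N, g r' ≠ r' ∧
    sumLt n (coT (rtTab N) θ) < 2 * sumLt n (coT (rtTab N) r') ∧
    ∃ r < N, g r ≠ r ∧ sumLt n (coT (rtTab N) r') < sumLt n (coT (rtTab N) r)

theorem sym_of {D : ChevalleyDatum} (h : RtOK D) {L : List (List ℕ)} (hs : ChevAut.SymOK D L)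
    (hL : ∀ l ∈ L, ∀ i < D.rank, l.getD (l.getD i 0) 0 = i) (π : Equiv.Perm (Fin D.rank))
    (hπ : ∀ i j, (rootSys h).A (π i) (π j) = (rootSys h).A i j) : π * π = 1 := by
  obtain ⟨⟨T, h1, rfl⟩, -⟩ := hs
  have k := hL _ (ChevAut.mem_exts (π := π) (fun i j => by
    rw [← rootSys_A h, ← rootSys_A h, hπ]) h1 le_rfl)
  ext i
  have := k i i.2
  rw [congrFun (ChevAut.getD_map_natP π), congrFun (ChevAut.getD_map_natP π), ChevAut.natP_val,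
    ChevAut.natP_val] at this
  exact this

theorem er_of {D : ChevalleyDatum} {h : RtOK D} {f : ℕ → ℕ → ℤ} {S : ℕ → ℕ} (T : Tab h f S)
    {θ i₀ β a₀ b₀ ρ : ℕ} {g : ℕ → ℕ} (H : NER D.nroots D.rank f S θ i₀ β a₀ b₀ ρ g)
    (sym : ∀ π : Equiv.Perm (Fin D.rank), (∀ i j, (rootSys h).A (π i) (π j) = (rootSys h).A i j) → π * π = 1) :
    ∃ E : ER (rootSys h), (E.θ : ℕ) = θ ∧ ∀ r, (E.γ r : ℕ) = g r := by
  obtain ⟨l1, l2, l3, l4, l5, l6⟩ := H.lt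
  let γ : Equiv.Perm (Fin D.nroots) := Function.Involutive.toPerm (fun r => ⟨g r, (H.γ2 r r.2).1⟩)
    fun r => Fin.ext (H.γ2 r r.2).2.1
  have hγ : ∀ r, (γ r : ℕ) = g r := fun _ => rfl
  have γip : ∀ r s, ip (rootSys h) (γ r) (γ s) = ip (rootSys h) r s := fun r s => by
    rw [T.ip, T.ip, hγ, hγ]
    exact H.γip.elim (fun k => by rw [k r r.2, k s s.2]) fun k => k r r.2 s s.2
  have γa : ∀ a b k, RAdd (rootSys h) a b k → RAdd (rootSys h) (γ a) (γ b) (γ k) := fun a b k => by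
    simp only [lac_radd T.lac, γip, imp_self]
  have odom : ∀ i, 0 ≤ ip (rootSys h) ((rootSys h).simple i) ⟨a₀, l4⟩ +
      ip (rootSys h) ((rootSys h).simple i) ⟨b₀, l5⟩ := fun i => by
    simpa only [T.ip, T.simple] using H.odom i i.2
  refine ⟨⟨⟨θ, l1⟩, ⟨i₀, l2⟩, ⟨β, l3⟩, γ, ⟨a₀, l4⟩, ⟨b₀, l5⟩, T.lac, fun i => ?_, ?_, fun r => ?_,
    fun r s h1 h2 h3 h4 => ?_, fun r => ?_, fun r => ?_, fun d h1 => ?_, fun d h1 h2 => ?_, ?_, fun r => ?_,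
    fun r => ?_, fun r r' h1 h2 h3 h4 h5 => ?_, ?_, odom, lac_gen_of T.lac fun i => ?_, fun r => ?_, fun r => ?_,
    ?_, fun r => Fin.ext (H.γ2 r r.2).2.1, fun i => ?_, fun r => Fin.ext ?_, γa, γip, fun r => ?_,
    fun r => ?_, fun h1 => ?_, sym, ?_⟩, rfl, hγ⟩
  · simpa only [T.ip, T.simple, Fin.ext_iff] using H.top i i.2
  · simpa only [T.radd, T.simple] using H.hβ
  · simpa only [T.ip, T.simple, ne_eq, Fin.ext_iff, Fin.exists_iff, exists_prop] using H.up r r.2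
  · simp only [T.ip, T.simple, ne_eq, Fin.ext_iff, Fin.forall_iff] at h1 h2 h3 h4 ⊢
    rw [H.dom0 r r.2 h1 h3, H.dom0 s s.2 h2 h4]
  · simpa only [T.ip, T.simple, ne_eq, Fin.ext_iff, Fin.exists_iff, exists_prop, pos_val] using H.up2 r r.2
  · simpa only [T.ip, Fin.exists_iff, exists_prop] using H.elQ r r.2
  · obtain ⟨a, ha, k1, k2, k3⟩ := H.dec1 d d.2 (by simpa only [T.ip] using h1)
    obtain ⟨b, hb⟩ := lac_sub T.lac (a := ⟨a, ha⟩) (r := d) (by rwa [T.ip])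
    have := hb.ip_left ⟨θ, l1⟩
    simp only [T.ip] at this ⊢
    exact ⟨⟨a, ha⟩, b, k1, by omega, hb⟩
  · obtain ⟨a, ha, k1, k2, k3, k4, k5⟩ := H.dec2 d d.2 (by simpa only [T.ip] using h1)
      (by simpa only [T.ip] using h2)
    obtain ⟨b, hb⟩ := lac_sub T.lac (a := ⟨a, ha⟩) (r := d) (by rwa [T.ip])
    have e1 := hb.ip_left ⟨θ, l1⟩
    have e2 := hb.ip_left ⟨β, l3⟩
    simp only [T.ip] at e1 e2 ⊢
    exact ⟨⟨a, ha⟩, b, k1, k2, by omega, by omega, hb⟩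
  · simpa only [T.ip, Fin.exists_iff, exists_prop] using H.ex2
  · simpa only [T.ip, Fin.exists_iff, exists_prop] using H.ex3 r r.2
  · simpa only [T.ip, Fin.exists_iff, exists_prop] using H.rf1 r r.2
  · simp only [T.ip, ne_eq, Fin.ext_iff] at h1 h2 h3 h4 h5 ⊢
    obtain ⟨s, hs, k1, k2, k3, k4⟩ := H.rf2 r r.2 h1 h3 r' r'.2 h2 h4 h5
    exact ⟨⟨s, hs⟩, k1, k3, k4, k2⟩
  · simpa only [T.ip] using H.ort
  · obtain ⟨a, ha, k1, k2⟩ := H.ogen i i.2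
    obtain ⟨k, hk⟩ := T.lac.exists_radd_of_neg (a := (rootSys h).simple i) (b := ⟨a, ha⟩)
      (by rw [T.ip, T.simple, k1]; rfl)
    have := odom i
    refine ⟨⟨a, ha⟩, by simpa only [Set.mem_setOf_eq, T.ip] using k2, k, ?_, hk⟩
    rw [Set.mem_setOf_eq, hk.ip_left, hk.ip_left, T.ip ⟨a, ha⟩, T.ip ⟨a, ha⟩]
    simp only at k2 ⊢
    omega
  · simpa only [T.ip, Fin.exists_iff, exists_prop, pos_val] using H.oel r r.2
  · simpa only [T.ip, Fin.exists_iff, exists_prop] using H.oel2 r r.2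
  · simpa only [T.ip, Fin.exists_iff, exists_prop] using H.eps
  · simpa only [T.simple, hγ, Fin.ext_iff, Fin.exists_iff, exists_prop] using H.γs i i.2
  · simpa only [hγ, neg_val] using (H.γ2 r r.2).2.2.1
  · simpa only [T.ip, hγ] using (H.γ2 r r.2).2.2.2
  · obtain ⟨a, ha, k1, k2, k3⟩ := H.gdec r r.2
    obtain ⟨b, hb⟩ := lac_sub T.lac (a := ⟨a, ha⟩) (r := r) (by rwa [T.ip])
    have := (γa _ _ _ hb).ip_right ⟨a, ha⟩
    refine ⟨⟨a, ha⟩, b, hb, fun e => Fin.ext (k2 (congrArg Fin.val e)), fun e => ?_⟩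
    have := k3 fun e' => e (Fin.ext e')
    simp only [T.ip, hγ] at *
    omega
  · obtain ⟨r', hr', k1, k2, r, hr, k3, k4⟩ := H.gr.resolve_left fun k => h1 (Equiv.ext fun r => Fin.ext (k r r.2))
    exact ⟨⟨r, hr⟩, ⟨r', hr'⟩, fun e => k3 (congrArg Fin.val e), fun e => k1 (congrArg Fin.val e),
      by rwa [ht_val, ht_val], by rwa [ht_val, ht_val]⟩
  · rw [NP, ncard_pos_rootSys]; omega

set_option synthInstance.maxSize 2000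

theorem ner6 : NER 72 6 (fN 72 tI6) (actT tSE6 0) 71 1 70 63 70 60 rhoE6 := by
  constructor <;> decide +kernel

theorem ner7 : NER 126 7 (fN 126 tI7) (actT tSE7 0) 125 0 124 108 124 92 id := by
  constructor <;> decide +kernel

theorem ner8 : NER 240 8 (fN 240 tI8) (actT tSE8 0) 239 7 238 227 238 226 id := by
  constructor <;> decide +kernel

theorem exists_er6 : ∃ E : ER (rootSys rtOKE6), Mod chevE6 rtOKE6 E := by
  obtain ⟨E, h1, h2⟩ := er_of (tab6 rtOKE6) ner6 (sym_of _ ChevAut.symOK_E6 (by decide +kernel))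
  exact ⟨E, .inl ⟨rfl, h2⟩, h1⟩

theorem exists_er7 : ∃ E : ER (rootSys rtOKE7), Mod chevE7 rtOKE7 E := by
  obtain ⟨E, h1, h2⟩ := er_of (tab7 rtOKE7) ner7 (sym_of _ ChevAut.symOK_E7 (by decide +kernel))
  exact ⟨E, .inr ⟨.inl rfl, Equiv.ext fun r => Fin.ext (h2 r)⟩, h1⟩

theorem exists_er8 : ∃ E : ER (rootSys rtOKE8), Mod chevE8 rtOKE8 E := by
  obtain ⟨E, h1, h2⟩ := er_of (tab8 rtOKE8) ner8 (sym_of _ ChevAut.symOK_E8 (by decide +kernel))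
  exact ⟨E, .inr ⟨.inr rfl, Equiv.ext fun r => Fin.ext (h2 r)⟩, h1⟩

end CfsgLib.SLE
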