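import Mathlib
import Cfsg.Agent.Lib.SLE.MDefs

/-!
# Numerical models of simply laced root systems
-/

set_option autoImplicit false

namespace CfsgLib.SLE

open Cfsg.Lie CfsgLib.RGD CfsgLib.Stein CfsgLib.Weyl

/-- a fast test for bounded universal statements -/
def decAll (n : ℕ) (P : ℕ → Prop) [DecidablePred P] : Decidable (∀ i < n, P i) :=
  decidable_of_iff ((List.range n).all (fun i => decide (P i)) = true) (by simp)

/-- a fast test for bounded existential statements -/
def decEx (n : ℕ) (P : ℕ → Prop) [DecidablePred P] : Decidable (∃ i < n, P i) :=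
  decidable_of_iff ((List.range n).any (fun i => decide (P i)) = true) (by simp)

section laced

variable {ι κ : Type} [Fintype κ] [DecidableEq κ] {Φ : RootSys ι κ} (hL : Laced Φ 2)
include hL

theorem lac_eq {r s : ι} (h : 2 ≤ ip Φ r s) : s = r := by
  by_contra h1
  by_cases h2 : s = Φ.neg r
  · rw [h2, ip_neg_right, hL.norm] at h; omega
  · have := hL.tri r s h1 h2; omega

theorem lac_bound (r s : ι) : -2 ≤ ip Φ r s ∧ ip Φ r s ≤ 2 := by
  by_cases h1 : s = r
  · rw [h1, hL.norm]; omega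
  by_cases h2 : s = Φ.neg r
  · rw [h2, ip_neg_right, hL.norm]; omega
  · have := hL.tri r s h1 h2; omega

theorem lac_radd {a b k : ι} : RAdd Φ a b k ↔ ip Φ a b = -1 ∧ ip Φ a k = 1 ∧ ip Φ b k = 1 := by
  refine ⟨fun h => by have := hL.ip_radd h; omega, fun ⟨h1, h2, h3⟩ => ?_⟩
  obtain ⟨k', hk⟩ := hL.exists_radd_of_neg (a := a) (b := b) (by omega)
  obtain rfl : k = k' := lac_eq hL (by rw [hk.ip_left]; omega)
  exact hk

theorem lac_sub {a r : ι} (h : ip Φ a r = 1) : ∃ b, RAdd Φ a b r :=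
  Stein.exists_radd (by rw [hL.norm, h]; rfl)

theorem lac_gen [Finite ι] : Gen Φ (Set.range Φ.simple) := fun T h1 h2 h3 r => by
  have k : ∀ n : ℕ, ∀ r, Φ.Pos r → (Φ.ht r).toNat = n → r ∈ T := fun n => by
    induction n using Nat.strong_induction_on with
    | _ n ih =>
      intro r h hn
      by_cases k : ∃ i, r = Φ.simple i
      · obtain ⟨i, rfl⟩ := k
        exact h1 ⟨i, rfl⟩
      obtain ⟨i, -, hi⟩ := Φ.descent' h
      have k0 := (ip_simple_self i).symm.trans (hL.norm (Φ.simple i))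
      have k4 := ip_simple (Φ := Φ) i r
      rw [show Φ.d i = 1 by omega, one_mul] at k4
      have := mt (lac_eq hL (r := Φ.simple i) (s := r)) (not_exists.1 k i)
      obtain ⟨b, hb⟩ := lac_sub hL (a := Φ.simple i) (r := r) (by omega)
      have k1 := radd_ht hb
      have k2 := Φ.ht_pos h
      have k3 := ht_ne_zero (Φ := Φ) b
      rw [Φ.ht_simple] at k1
      exact h3 _ (h1 ⟨i, rfl⟩) b (ih _ (by omega) b (pos_iff_ht.2 (by omega)) rfl) r hb
  exact (Φ.pos_or_neg r).elim (k _ r · rfl) fun h => Φ.neg_neg r ▸ h2 _ (k _ _ (Φ.pos_neg_iff.2 h) rfl)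

theorem lac_gen_of [Finite ι] {T : Set ι}
    (h : ∀ i, ∃ a ∈ T, ∃ k ∈ T, RAdd Φ (Φ.simple i) a k) : Gen Φ T := fun T' h1 h2 h3 =>
  lac_gen hL T' (by
    rintro _ ⟨i, rfl⟩
    obtain ⟨a, ha, k, hk, e⟩ := h i
    exact h3 k (h1 hk) _ (h2 a (h1 ha)) _ e.sub) h2 h3

end laced

/-- a row of the packed table of inner products -/
def rowN (N I r : ℕ) : ℕ := (I >>> (4 * N * r)) % 16 ^ N

/-- the packed table of inner products -/
def fN (N I r s : ℕ) : ℤ := Int.subNatNat ((rowN N I r >>> (4 * s)) % 16) 2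

/-- a row as a signed number -/
def vN (N I r : ℕ) : ℤ := (rowN N I r : ℤ) - sumLt N fun s => 2 * 16 ^ s

theorem mod_digits (Y N : ℕ) : Y % 16 ^ N = ∑ s ∈ Finset.range N, Y / 16 ^ s % 16 * 16 ^ s := by
  induction N with
  | zero => simp [Nat.mod_one]
  | succ N ih => rw [Nat.mod_pow_succ, Finset.sum_range_succ, ih, mul_comm]

theorem fN_eq (N I r s : ℕ) : fN N I r s = (rowN N I r / 16 ^ s % 16 : ℕ) - 2 := by
  rw [fN, Int.subNatNat_eq_coe, Nat.shiftRight_eq_div_pow, pow_mul]; rfl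

theorem vN_eq (N I r : ℕ) : vN N I r = ∑ s ∈ Finset.range N, fN N I r s * 16 ^ s := by
  have h : rowN N I r % 16 ^ N = rowN N I r := Nat.mod_mod _ _
  rw [vN, sumLt_eq, ← h, mod_digits, Nat.cast_sum, ← Finset.sum_sub_distrib]
  refine Finset.sum_congr rfl fun s _ => ?_
  rw [fN_eq]; push_cast; ring

theorem digits_zero (N : ℕ) : ∀ e : ℕ → ℤ, (∀ s < N, -16 < e s ∧ e s < 16) →
    ∑ s ∈ Finset.range N, e s * 16 ^ s = 0 → ∀ s < N, e s = 0 := by
  induction N with
  | zero => intro e _ _ s hs; omega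
  | succ N ih =>
    intro e h1 h2 s hs
    rw [Finset.sum_range_succ'] at h2
    have k : ∑ s ∈ Finset.range N, e (s + 1) * 16 ^ (s + 1) =
        16 * ∑ s ∈ Finset.range N, e (s + 1) * 16 ^ s := by
      rw [Finset.mul_sum]; exact Finset.sum_congr rfl fun s _ => by ring
    have k0 := h1 0 (by omega)
    rw [k] at h2
    rcases s with _ | s
    · omega
    · exact ih (fun s => e (s + 1)) (fun s hs => h1 _ (by omega)) (by omega) s (by omega)

variable {D : ChevalleyDatum} {h : RtOK D}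

/-- `f` computes the inner products and `S` the fundamental roots -/
structure Tab (h : RtOK D) (f : ℕ → ℕ → ℤ) (S : ℕ → ℕ) : Prop where
  lac : Laced (rootSys h) 2
  ip : ∀ r s : Fin D.nroots, ip (rootSys h) r s = f r s
  simple : ∀ i : Fin D.rank, ((rootSys h).simple i : ℕ) = S i

attribute [local instance high] decAll decEx

/-- the check of a packed table -/
def TabChk (n N A S I : ℕ) : Prop :=
  (∀ i < n, actT S 0 i < N ∧ fN N I (actT S 0 i) (actT S 0 i) = 2 ∧ (∃ g < N, fN N I (actT S 0 i) g = 1) ∧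
    ∀ s < N, coT (dTab N) 0 i * coT A s i = fN N I (actT S 0 i) s ∧
      (s = actT S 0 i ∨ s = N - 1 - actT S 0 i ∨ -1 ≤ fN N I (actT S 0 i) s ∧ fN N I (actT S 0 i) s ≤ 1)) ∧
  ∀ r < N, vN N I r = sumLt n fun i => coT (rtTab N) r i * vN N I (actT S 0 i)

instance (n N A S I : ℕ) : Decidable (TabChk n N A S I) := by unfold TabChk; infer_instance

theorem tab_of_chk {C A S T I : ℕ} (ht : TablesOK D C A S T) (H : TabChk D.rank D.nroots A S I) :
    Tab h (fN D.nroots I) (actT S 0) := by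
  have hs : ∀ i : Fin D.rank, ((rootSys h).simple i : ℕ) = actT S 0 i := fun i => ht.simple_eq i i.2
  have k1 : ∀ (i : Fin D.rank) (s : Fin D.nroots),
      ip (rootSys h) ((rootSys h).simple i) s = fN D.nroots I (actT S 0 i) s := fun i s => by
    rw [ip_simple, rootSys_wt, ht.cartan_eq i i.2 s s.2]
    exact ((H.1 i i.2).2.2.2 s s.2).1
  have hL : Laced (rootSys h) 2 := by
    refine laced_of_simple (fun i => by rw [k1, hs]; exact (H.1 i i.2).2.1) (fun i s e1 e2 => ?_) fun i => ?_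
    · rw [k1]
      rcases ((H.1 i i.2).2.2.2 s s.2).2 with k | k | k
      · exact absurd (Fin.ext (k.trans (hs i).symm)) e1
      · exact absurd k (hs i ▸ ne_neg_val h ht e2)
      · omega
    · obtain ⟨g, hg, k⟩ := (H.1 i i.2).2.2.1
      exact ⟨⟨g, hg⟩, by rw [ip_comm, k1, k]; rfl⟩
  refine ⟨hL, fun r s => ?_, hs⟩
  have k2 : ∀ s < D.nroots, ipT D.rank D.nroots A r s =
      ∑ i ∈ Finset.range D.rank, coT (rtTab D.nroots) r i * fN D.nroots I (actT S 0 i) s := fun s hs => by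
    rw [ipT, sumLt_eq]
    exact Finset.sum_congr rfl fun i hi => by rw [((H.1 i (Finset.mem_range.1 hi)).2.2.2 s hs).1]
  have := digits_zero D.nroots (fun s => fN D.nroots I r s - ipT D.rank D.nroots A r s) (fun s hs => ?_) ?_ s s.2
  · rw [ip_rootSys h ht]; omega
  · have k3 := lac_bound hL r ⟨s, hs⟩
    rw [ip_rootSys h ht] at k3
    have k4 := fN_eq D.nroots I r s
    simp only at k3 ⊢
    omega
  · simp only [sub_mul, Finset.sum_sub_distrib]
    rw [← vN_eq, H.2 r r.2, sumLt_eq, sub_eq_zero]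
    simp only [vN_eq, Finset.mul_sum]
    rw [Finset.sum_comm]
    refine Finset.sum_congr rfl fun s hs => ?_
    rw [k2 s (Finset.mem_range.1 hs), Finset.sum_mul]
    exact Finset.sum_congr rfl fun i _ => by ring

/-- `k = a + b` in terms of inner products -/
def NAdd (f : ℕ → ℕ → ℤ) (a b k : ℕ) : Prop := f a b = -1 ∧ f a k = 1 ∧ f b k = 1

instance (f : ℕ → ℕ → ℤ) (a b k : ℕ) : Decidable (NAdd f a b k) := by unfold NAdd; infer_instance

theorem Tab.radd {f : ℕ → ℕ → ℤ} {S : ℕ → ℕ} (T : Tab h f S) (a b k : Fin D.nroots) :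
    RAdd (rootSys h) a b k ↔ NAdd f a b k := by
  rw [lac_radd T.lac, T.ip, T.ip, T.ip, NAdd]

theorem pos_val (r : Fin D.nroots) : (rootSys h).Pos r ↔ D.nroots ≤ 2 * r := by
  rw [rootSys_pos_iff, h.root.isPos_iff, and_iff_right r.2]

theorem neg_val (r : Fin D.nroots) : ((rootSys h).neg r : ℕ) = D.nroots - 1 - r := h.root.neg_eq r r.2

theorem ht_val (r : Fin D.nroots) : (rootSys h).ht r = sumLt D.rank (coT (rtTab D.nroots) r) := by
  rw [sumLt_eq, Finset.sum_range]; rfl

end CfsgLib.SLE
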