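import Mathlib
import Cfsg.Agent.Lib.SLE.Red
import Cfsg.Agent.Lib.SLE.B3
import Cfsg.Agent.Lib.SLE.Ring2
import Cfsg.Agent.Lib.SLE.Br3
import Cfsg.Agent.Lib.SLE.Root

/-!
# Assembly
-/

set_option autoImplicit false

namespace CfsgLib.SLE

open Cfsg Cfsg.Lie CfsgLib.RGD CfsgLib.Stein CfsgLib.Weyl CfsgLib.Chev Subgroup
open scoped commutatorElement Pointwise

universe u

section

variable {ι κ : Type} [Fintype κ] [DecidableEq κ] [Finite ι] {Φ : RootSys ι κ} {E : ER Φ}
  {F : Type} [Field F] [Finite F] [CharP F 2] {G : Type u} [Group G] [Finite G]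
  {S : StSys Φ F G}

theorem Sit.dbl (hK : Kit.{u} E) {t : G} (h : Sit E S t) {Gs : Subgroup G} (g : Glob Gs t)
    (hL : S.grp ≤ Gs) : ∃ Z, (∃ (K : Type) (_ : Field K) (_ : Finite K) (_ : CharP K 2)
      (T : StSys Φ K G) (f : F →+* K) (τ : K ≃+* K), DblF E S t Z T f τ) ∨
      ∃ S₁ S₂ : StSys Φ F G, DblP E S t Z S₁ S₂ := by
  have he : Even (Nat.card Gs) := by
    have h1 : orderOf (S.x E.θ (1 : F)) = 2 := Invol.orderOf_eq_two
      (fun e => one_ne_zero (h.amb.x_eq_one.1 e)) (h.amb.x_sq _ _)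
    rw [even_iff_two_dvd, ← h1]
    exact orderOf_dvd_natCard _ (hL (S.x_mem_grp _ _))
  obtain ⟨s, h1, h2, h3⟩ := g.exists_conj he h.t2 h.t1
  obtain ⟨Z, hZ⟩ := (h.mv (h.fus h1 h2 h3)).hats
  obtain ⟨m, c, hR⟩ := hZ.hats2.ringD
  refine ⟨Z, ?_⟩
  by_cases hc : ∃ e : F, e * e + e = c
  · obtain ⟨e, he⟩ := hc
    exact .inr (hR.dblP hK he)
  · exact .inl (hR.dblF hK fun e he => hc ⟨e, he⟩)

end

variable {D : ChevalleyDatum} [Good D] {h : RtOK D} {E : ER (rootSys h)}
  {F : Type} [Field F] [Finite F] [CharP F 2] {G : Type u} [Group G] [Finite G]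

/-- a simple group generated by a system is the Chevalley group -/
theorem Mod.equiv (hE : Mod D h E) {T : StSys (rootSys h) F G} (A : Amb E T)
    (hs : IsSimpleGroup T.grp) : Nonempty (T.grp ≃* D.group F) := by
  have h1 : T.x E.θ 1 ≠ 1 := fun e => one_ne_zero (A.x_eq_one.1 e)
  obtain ⟨S, e, θ, C⟩ := hE.exists_cov A.rel ⟨_, _, h1⟩
  have e' : S.grp = T.grp := by simp only [StSys.grp, StSys.UU, e]
  rw [← e'] at hs ⊢
  refine ⟨MulEquiv.ofBijective θ ⟨(MonoidHom.ker_eq_bot_iff θ).1 ?_, C.surj⟩⟩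
  refine (Normal.eq_bot_or_eq_top inferInstance).resolve_right fun k => h1 ?_
  have h2 := C.odd ⟨S.x E.θ 1, S.x_mem_grp _ _⟩ (MonoidHom.mem_ker.1 (k ▸ mem_top _))
  rw [← orderOf_coe, ← e] at *
  by_contra h3
  rw [Invol.orderOf_eq_two h3 (C.rel.sq _ _)] at h2
  exact absurd h2 (by decide)

/-- the root elements of a standard subgroup -/
theorem Mod.exists_rel (hE : Mod D h E) {L : Subgroup G} (hL : IsQuasisimple L)
    (e : (L ⧸ oddCore L) ≃* D.group F) : ∃ y : Fin D.nroots → F → G, Rel (rootSys h) y ∧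
      (∃ r c, y r c ≠ 1) ∧ UUx y Set.univ = L := by
  set π := e.toMonoidHom.comp (QuotientGroup.mk' (oddCore L)) with hπ
  have hs : Function.Surjective π := e.surjective.comp (QuotientGroup.mk'_surjective _)
  have hk : π.ker = oddCore L := by
    rw [hπ, ← MonoidHom.comap_ker, (MonoidHom.ker_eq_bot_iff _).2 e.injective]
    exact QuotientGroup.ker_mk' _
  have hn : xG D F E.θ 1 ≠ 1 := fun k =>
    one_ne_zero ((gSys_nondeg h hE.genOK).eq_zero_of_x_eq_one (r := E.θ) k)
  have hc : π.ker ≤ center L := by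
    have := hL.2
    have := hL.1
    rcases ((inferInstance : π.ker.Normal).map _ (QuotientGroup.mk'_surjective (center L))).eq_bot_or_eq_top
      with k | k
    · rwa [Subgroup.map_eq_bot_iff, QuotientGroup.ker_mk'] at k
    · exfalso
      have k1 : π.ker ⊔ center L = ⊤ := by
        rw [← QuotientGroup.ker_mk' (center L), ← comap_map_eq, k, comap_top]
      have k2 : commutator L ≤ π.ker := by
        rw [_root_.commutator_def, ← k1, commutator_le]
        intro a ha b hb
        rw [← SetLike.mem_coe, mul_normal] at ha hb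
        obtain ⟨a, ha, z, hz, rfl⟩ := ha
        obtain ⟨b, hb, w, hw, rfl⟩ := hb
        have hz' : π z ∈ center (D.group F) := mem_center_iff.2 fun g => by
          obtain ⟨g, rfl⟩ := hs g
          rw [← map_mul, ← map_mul, mem_center_iff.1 hz]
        rw [MonoidHom.mem_ker, map_commutatorElement, map_mul, map_mul, show π a = 1 from ha,
          show π b = 1 from hb, one_mul, one_mul,
          commutatorElement_eq_one_iff_mul_comm, mem_center_iff.1 hz']
      obtain ⟨b, hb⟩ := hs (xG D F E.θ 1)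
      exact hn (hb ▸ k2 (hL.1.commutator_eq_top ▸ mem_top b))
  obtain ⟨y, hy, k⟩ := (hE.rel_xG (K := F)).exists_lift E π hs hc (hk ▸ Core.odd_card_oddCore L)
  refine ⟨_, hy.map L.subtype, ⟨E.θ, 1, fun k1 => hn ?_⟩, ?_⟩
  · rw [← k, show y E.θ 1 = 1 from Subtype.ext k1, map_one]
  · rw [← map_UUx y _ L.subtype _ fun _ _ _ => rfl]
    suffices UUx y Set.univ = ⊤ by rw [this, ← MonoidHom.range_eq_map, range_subtype]
    have k1 : UUx y Set.univ ⊔ π.ker = ⊤ := by
      rw [← comap_map_eq, map_UUx y _ π _ fun r _ c => k r c, UUx_xG_eq_top, comap_top]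
    rw [eq_top_iff, ← hL.1.commutator_eq_top, _root_.commutator_def, ← k1, commutator_le]
    intro a ha b hb
    rw [← SetLike.mem_coe, mul_normal] at ha hb
    obtain ⟨a, ha, z, hz, rfl⟩ := ha
    obtain ⟨b, hb, w, hw, rfl⟩ := hb
    have h1 := mem_center_iff.1 (hc hz)
    have h2 := mem_center_iff.1 (hc hw)
    have : ⁅a * z, b * w⁆ = ⁅a, b⁆ := by
      simp only [commutatorElement_def, mul_inv_rev]
      calc a * z * (b * w) * (z⁻¹ * a⁻¹) * (w⁻¹ * b⁻¹)
          = a * (z * (b * w)) * z⁻¹ * (a⁻¹ * w⁻¹) * b⁻¹ := by group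
        _ = a * b * (w * a⁻¹) * w⁻¹ * b⁻¹ := by rw [← h1]; group
        _ = _ := by rw [← h2]; group
    rw [this, commutatorElement_def]
    exact mul_mem (mul_mem (mul_mem ha hb) (inv_mem ha)) (inv_mem hb)

/-- the situation inside `Gs ⟨t⟩` -/
theorem Mod.exists_sit (hE : Mod D h E) {L : Subgroup G} (hL : IsStandardSubgroup L)
    (hR : ∀ R : Sylow 2 (centralizer (L : Set G)), IsCyclic (R : Subgroup (centralizer (L : Set G))))
    (e : (L ⧸ oddCore L) ≃* D.group F) {H : Subgroup G} (hH : L ≤ H) {t : H}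
    (tC : (t : G) ∈ centralizer (L : Set G)) (t2 : t * t = 1) (t1 : t ≠ 1) :
    ∃ S : StSys (rootSys h) F H, S.grp = L.subgroupOf H ∧ Sit E S t := by
  obtain ⟨y, hy, ⟨r, c, h1⟩, h2⟩ := hE.exists_rel hL.1 e
  have m : ∀ r c, y r c ∈ H := fun r c => hH (h2 ▸ mem_UUx y (Set.mem_univ r) c)
  obtain ⟨S, e1, A⟩ := hE.kit F H (fun r c => ⟨y r c, m r c⟩) (Rel.of_map H.subtype H.subtype_injective hy)
    ⟨r, c, fun k => h1 (congrArg Subtype.val k)⟩
  have e2 : S.grp = L.subgroupOf H := by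
    rw [← h2, ← map_UUx S.x y H.subtype _ fun r _ c => by rw [e1]; rfl, subgroupOf,
      comap_map_eq_self_of_injective H.subtype_injective]
    rfl
  have hC : ∀ g : H, g ∈ CL S ↔ (g : G) ∈ centralizer (L : Set G) := fun g => by
    rw [CL, e2]
    exact ⟨fun k l hl => congrArg Subtype.val (k ⟨l, hH hl⟩ hl), fun k l hl => Subtype.ext (k _ hl)⟩
  refine ⟨S, e2, A, t2, t1, (hC t).2 tC, fun g hg => ?_, fun P h3 h4 => ?_⟩
  · have k : (g : G) ∈ normalizer (L : Set G) := by
      rw [hL.2.2.2]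
      by_contra k
      have k1 := hL.2.1.2 g k
      have k2 : (t : G) ∈ centralizer (L : Set G) ⊓
          (centralizer (L : Set G)).map (MulAut.conj (g : G)).toMonoidHom := ⟨tC, t, tC, by
        have := congrArg Subtype.val (mem_centralizer_singleton_iff.1 hg)
        simp only [coe_mul] at this
        simp [this]⟩
      have k3 := orderOf_dvd_natCard _ k2
      rw [orderOf_coe, Invol.orderOf_eq_two t1 t2] at k3
      exact Nat.not_even_iff_odd.2 k1 (even_iff_two_dvd.2 k3)
    rw [NL, e2, mem_normalizer_iff]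
    exact fun x => mem_normalizer_iff.1 k x
  · have k : P.map H.subtype ≤ centralizer (L : Set G) := by
      rintro _ ⟨g, hg, rfl⟩
      exact (hC g).1 (h3 hg)
    obtain ⟨R, hR'⟩ := ((h4.map H.subtype).comap_subtype (K := centralizer (L : Set G))).exists_le_sylow
    have := hR R
    have : IsCyclic ((P.map H.subtype).subgroupOf (centralizer (L : Set G))) := isCyclic_of_le hR'
    have := isCyclic_of_surjective _ (subgroupOfEquivOfLe k).surjective
    exact isCyclic_of_surjective _ (P.equivMapOfInjective _ H.subtype_injective).symm.surjective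

end CfsgLib.SLE
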